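import Cfsg.Agent.Lib.AutPSL.Main
import Cfsg.Prelude.Def_KGroupFacts

/-!
The outer automorphism group of `PSL_n(q)`.
-/

set_option autoImplicit false

namespace CfsgLib.AutPSL

open Matrix

universe u

/-- The automorphism group of a finite field of order `p ^ f` is cyclic of order `f`. -/
theorem nonempty_ringAut_equiv {F : Type u} [Field F] [Fintype F] {p f : ℕ} [hp : Fact p.Prime]
    (hF : Fintype.card F = p ^ f) : Nonempty ((F ≃+* F) ≃* Multiplicative (ZMod f)) := by
  have hf : f ≠ 0 := by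
    rintro rfl
    have h2 : 1 < Fintype.card F := Fintype.one_lt_card
    rw [hF, pow_zero] at h2
    exact lt_irrefl _ h2
  have : CharP F p := by
    obtain ⟨p', hp'⟩ := CharP.exists F
    obtain ⟨k, hp'p, hk⟩ := FiniteField.card F p'
    rw [hk] at hF
    have e : p = p' :=
      (Nat.prime_dvd_prime_iff_eq hp.out hp'p).1 (hp.out.dvd_of_dvd_pow (hF ▸ dvd_pow_self p hf))
    subst e; exact hp'
  letI := ZMod.algebra F p
  let r : Gal(F/ZMod p) →* (F ≃+* F) :=
    { toFun := fun a => a.toRingEquiv, map_one' := rfl, map_mul' := fun _ _ => rfl }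
  have hr : Function.Bijective r := by
    refine ⟨fun a b h => AlgEquiv.ext fun x => RingEquiv.congr_fun h x, fun σ => ?_⟩
    refine ⟨AlgEquiv.ofRingEquiv (f := σ) (fun x => ?_), RingEquiv.ext fun _ => rfl⟩
    exact RingHom.congr_fun (RingHom.ext_zmod (σ.toRingHom.comp (algebraMap (ZMod p) F)) (algebraMap (ZMod p) F)) x
  have hcard : Nat.card Gal(F/ZMod p) = f := by
    rw [IsGalois.card_aut_eq_finrank]
    refine Nat.pow_right_injective hp.out.two_le ?_
    show p ^ Module.finrank (ZMod p) F = p ^ f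
    rw [← hF, Module.card_eq_pow_finrank (K := ZMod p), ZMod.card]
  have hcard' : Nat.card (F ≃+* F) = f := by
    rw [← Nat.card_congr (Equiv.ofBijective r hr), hcard]
  haveI : IsCyclic (F ≃+* F) := isCyclic_of_surjective r hr.2
  refine ⟨((zmodCyclicMulEquiv inferInstance).symm.trans ?_)⟩
  rw [hcard']

section General

variable {G : Type u} [Group G] {Q : Type*} [Group Q]

/-- A section of `Aut G` modulo a normal subgroup between `Inn G` and `Aut G`. -/
theorem exists_out_hom (D : Subgroup (MulAut G)) [D.Normal] (hI : Cfsg.Inn G ≤ D)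
    (Φ : Q →* MulAut G) (hdisj : ∀ x, Φ x ∈ D → x = 1) (hgen : ∀ β, ∃ d ∈ D, ∃ x, β = d * Φ x) :
    ∃ φ : Cfsg.Out G →* Q, Function.Surjective φ ∧
      φ.ker = D.map (QuotientGroup.mk' (Cfsg.Inn G)) := by
  let χ : Q →* MulAut G ⧸ D := (QuotientGroup.mk' D).comp Φ
  have hχ : Function.Bijective χ := by
    refine ⟨(injective_iff_map_eq_one χ).2 fun x hx => hdisj x ((QuotientGroup.eq_one_iff _).1 hx),
      fun y => ?_⟩
    obtain ⟨β, rfl⟩ := QuotientGroup.mk_surjective y
    obtain ⟨d, hd, x, rfl⟩ := hgen β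
    refine ⟨x, ?_⟩
    show ((Φ x : MulAut G) : MulAut G ⧸ D) = ((d * Φ x : MulAut G) : MulAut G ⧸ D)
    rw [QuotientGroup.mk_mul, (QuotientGroup.eq_one_iff d).2 hd, one_mul]
  let ρ : Cfsg.Out G →* MulAut G ⧸ D := QuotientGroup.map _ _ (MonoidHom.id _) hI
  refine ⟨(MulEquiv.ofBijective χ hχ).symm.toMonoidHom.comp ρ, ?_, ?_⟩
  · refine (MulEquiv.ofBijective χ hχ).symm.surjective.comp fun y => ?_
    obtain ⟨β, rfl⟩ := QuotientGroup.mk_surjective y
    exact ⟨QuotientGroup.mk β, rfl⟩
  · have hk : ((MulEquiv.ofBijective χ hχ).symm.toMonoidHom.comp ρ).ker = ρ.ker := by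
      ext x
      simp [MonoidHom.mem_ker]
    rw [hk]
    exact (QuotientGroup.ker_map (Cfsg.Inn G) D (MonoidHom.id (MulAut G))
      (by rw [Subgroup.comap_id]; exact hI)).trans (by rw [Subgroup.comap_id])

end General

variable {n : ℕ} {F : Type u} [Field F]

theorem root_one_eq {v φ w ψ : Fin n → F} (hn : 1 ≤ n) (h : φ ⬝ᵥ v = 0) (h' : ψ ⬝ᵥ w = 0) {a b : F}
    (he : rootEl v φ a = rootEl w ψ b) : a • vecMulVec v φ = b • vecMulVec w ψ := by
  have e := congrArg Subtype.val (unipotent_mk_inj hn (slRoot_sub_one_sq h a) (slRoot_sub_one_sq h' b) he)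
  rw [slRoot_coe h, slRoot_coe h'] at e
  exact add_left_cancel e

theorem comp_single (σ : F ≃+* F) (i : Fin n) : (σ ∘ (ev i : Fin n → F)) = ev i := by
  funext k
  simp only [ev, Function.comp_apply, Pi.single_apply, apply_ite σ, map_one, map_zero]

/-- `conjAut g * fieldAut σ = 1` only for scalar `g` and trivial `σ`. -/
theorem eq_one_of_conj_field (hn : 2 ≤ n) {g : GL (Fin n) F} {σ : F ≃+* F}
    (h : (conjAut g * fieldAut σ : MulAut (PSLG n F)) = 1) :
    g ∈ Subgroup.center (GL (Fin n) F) ∧ σ = 1 := by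
  have key : ∀ i j : Fin n, i ≠ j → ∀ a : F,
      σ a • vecMulVec ((g : Matrix (Fin n) (Fin n) F) *ᵥ ev i)
        (ev j ᵥ* ((g⁻¹ : GL (Fin n) F) : Matrix (Fin n) (Fin n) F)) = a • vecMulVec (ev i) (ev j) := by
    intro i j hij a
    have hd : (ev j : Fin n → F) ⬝ᵥ ev i = 0 := ev_dot _ _ hij.symm
    have e := DFunLike.congr_fun h (rootEl (ev i) (ev j) a)
    rw [MulAut.mul_apply, fieldAut_rootEl σ hd, comp_single, comp_single, conjAut_rootEl g hd,
      MulAut.one_apply] at e
    exact root_one_eq (by omega) (by rw [dot_conj]; exact hd) hd e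
  have h1 : ∀ i j : Fin n, i ≠ j →
      vecMulVec ((g : Matrix (Fin n) (Fin n) F) *ᵥ ev i)
        (ev j ᵥ* ((g⁻¹ : GL (Fin n) F) : Matrix (Fin n) (Fin n) F)) = vecMulVec (ev i) (ev j) := by
    intro i j hij
    simpa using key i j hij 1
  refine ⟨?_, ?_⟩
  · rw [Matrix.GeneralLinearGroup.mem_center_iff_val_mem_range_scalar]
    refine mem_range_scalar_of_commute_single fun i j hij => ?_
    have e := h1 i j hij
    rw [← mul_vecMulVec, ← vecMulVec_mul] at e
    have hs : vecMulVec (ev i : Fin n → F) (ev j) = single i j 1 := by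
      ext k l
      simp [vecMulVec_apply, single_apply, Pi.single_apply, eq_comm, ← ite_and, and_comm]
    rw [hs, ← Matrix.mul_assoc] at e
    show single i j (1 : F) * (g : Matrix (Fin n) (Fin n) F) = (g : Matrix (Fin n) (Fin n) F) * single i j (1 : F)
    conv_lhs => rw [← e]
    rw [Matrix.mul_assoc, ← Units.val_mul, inv_mul_cancel, Units.val_one, Matrix.mul_one]
  · ext a
    have hij : (⟨0, by omega⟩ : Fin n) ≠ ⟨1, by omega⟩ := by simp
    have e := key _ _ hij a
    rw [h1 _ _ hij] at e
    have e' := congrFun (congrFun e ⟨0, by omega⟩) ⟨1, by omega⟩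
    simpa [vecMulVec_apply] using e'

/-- `conjAut g * fieldAut σ * iota` is never trivial in rank at least two. -/
theorem ne_one_of_conj_field_iota (hn : 3 ≤ n) (g : GL (Fin n) F) (σ : F ≃+* F) :
    (conjAut g * fieldAut σ * iotaAut : MulAut (PSLG n F)) ≠ 1 := by
  intro h
  have key : ∀ i j : Fin n, i ≠ j → ∀ k, k ≠ i → ((g : Matrix (Fin n) (Fin n) F) *ᵥ ev j) k = 0 := by
    intro i j hij k hk
    have hd : (ev j : Fin n → F) ⬝ᵥ ev i = 0 := ev_dot _ _ hij.symm
    have hd' : (ev i : Fin n → F) ⬝ᵥ ev j = 0 := ev_dot _ _ hij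
    have e := DFunLike.congr_fun h (rootEl (ev i) (ev j) 1)
    rw [MulAut.mul_apply, MulAut.mul_apply, iotaAut_rootEl hd, fieldAut_rootEl σ hd', comp_single,
      comp_single, conjAut_rootEl g hd', MulAut.one_apply] at e
    have e2 := root_one_eq (by omega) (by rw [dot_conj]; exact hd') hd e
    by_contra hne
    obtain ⟨l, hl⟩ : ∃ l, (ev i ᵥ* ((g⁻¹ : GL (Fin n) F) : Matrix (Fin n) (Fin n) F)) l ≠ 0 := by
      by_contra hc
      push Not at hc
      have hz : ev i ᵥ* ((g⁻¹ : GL (Fin n) F) : Matrix (Fin n) (Fin n) F) = 0 := funext hc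
      exact ev_ne_zero (F := F) i (Matrix.vecMul_injective_iff_isUnit.2 (g⁻¹).isUnit
        (hz.trans (Matrix.zero_vecMul _).symm))
    have e3 := congrFun (congrFun e2 k) l
    rw [Matrix.smul_apply, Matrix.smul_apply, vecMulVec_apply, vecMulVec_apply,
      show (ev i : Fin n → F) k = 0 from Pi.single_eq_of_ne hk 1, zero_mul, smul_zero, smul_eq_zero,
      mul_eq_zero] at e3
    rcases e3 with e3 | e3 | e3
    · exact one_ne_zero (neg_eq_zero.1 ((map_eq_zero σ).1 e3))
    · exact hne e3
    · exact hl e3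
  let i0 : Fin n := ⟨0, by omega⟩
  let i1 : Fin n := ⟨1, by omega⟩
  let j : Fin n := ⟨2, by omega⟩
  suffices hz : (g : Matrix (Fin n) (Fin n) F) *ᵥ ev j = 0 from
    ev_ne_zero (F := F) j (Matrix.mulVec_injective_iff_isUnit.2 g.isUnit
      (hz.trans (Matrix.mulVec_zero _).symm))
  funext k
  by_cases hk : k = i0
  · exact key i1 j (by simp [i1, j]) k (by rw [hk]; simp [i0, i1])
  · exact key i0 j (by simp [i0, j]) k hk

variable [Fintype F]

theorem exists_diag_of_det (hn : 1 ≤ n) (d : Fˣ) :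
    ((diagGL (fun k : Fin n => if k = ⟨0, hn⟩ then d else 1) : GL (Fin n) F) : Matrix (Fin n) (Fin n) F).det = d := by
  show (Matrix.diagonal fun k : Fin n => (((if k = ⟨0, hn⟩ then d else 1 : Fˣ)) : F)).det = _
  rw [Matrix.det_diagonal, Finset.prod_eq_single (⟨0, hn⟩ : Fin n)]
  · simp
  · intro k _ hk
    simp [hk]
  · simp

/-- The image of `GL_n` in `Out(PSL_n)` is cyclic of order `gcd(n, q-1)`. -/
theorem diag_image (hn : 2 ≤ n) :
    IsCyclic ((conjAut : GL (Fin n) F →* _).range.map (QuotientGroup.mk' (Cfsg.Inn (PSLG n F)))) ∧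
      Nat.card ((conjAut : GL (Fin n) F →* _).range.map (QuotientGroup.mk' (Cfsg.Inn (PSLG n F))))
        = Nat.gcd n (Fintype.card F - 1) := by
  have hn1 : 1 ≤ n := by omega
  set O := (conjAut : GL (Fin n) F →* _).range.map (QuotientGroup.mk' (Cfsg.Inn (PSLG n F)))
  let δ : Fˣ →* GL (Fin n) F :=
    { toFun := fun d => diagGL (fun k : Fin n => if k = ⟨0, hn1⟩ then d else 1)
      map_one' := by
        apply Units.ext
        show Matrix.diagonal _ = (1 : Matrix (Fin n) (Fin n) F)
        rw [← Matrix.diagonal_one]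
        congr 1
        funext k
        dsimp only
        split_ifs <;> simp
      map_mul' := fun a b => by
        apply Units.ext
        show Matrix.diagonal _ = Matrix.diagonal _ * Matrix.diagonal _
        rw [Matrix.diagonal_mul_diagonal]
        congr 1
        funext k
        dsimp only
        split_ifs <;> simp }
  have hδ : ∀ d, (δ d : Matrix (Fin n) (Fin n) F).det = d := exists_diag_of_det hn1
  let α : Fˣ →* Cfsg.Out (PSLG n F) := (QuotientGroup.mk' _).comp (conjAut.comp δ)
  have hinner : ∀ s : SLG n F,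
      (conjAut (Matrix.SpecialLinearGroup.toGL s) : MulAut (PSLG n F)) = MulAut.conj (QuotientGroup.mk s) := by
    intro s
    apply MulEquiv.ext
    intro x
    induction x using QuotientGroup.induction_on with
    | H t =>
      rw [conjAut_mk, MulAut.conj_apply, ← QuotientGroup.mk_inv, ← QuotientGroup.mk_mul,
        ← QuotientGroup.mk_mul]
      rfl
  have hrange : α.range = O := by
    apply le_antisymm
    · rintro _ ⟨d, rfl⟩
      exact ⟨_, ⟨δ d, rfl⟩, rfl⟩
    · rintro _ ⟨_, ⟨g, rfl⟩, rfl⟩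
      let d : Fˣ := Units.mk0 _ ((Matrix.isUnit_iff_isUnit_det _).1 g.isUnit).ne_zero
      let s : SLG n F := ⟨((δ d)⁻¹ * g : GL (Fin n) F), by
        rw [Units.val_mul, Matrix.det_mul, Matrix.coe_units_inv, Matrix.det_nonsing_inv, hδ,
          Ring.inverse_eq_inv']
        exact inv_mul_cancel₀ d.ne_zero⟩
      refine ⟨d, ?_⟩
      have hg : g = δ d * Matrix.SpecialLinearGroup.toGL s := by
        rw [show Matrix.SpecialLinearGroup.toGL s = (δ d)⁻¹ * g from Units.ext rfl, mul_inv_cancel_left]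
      show ((conjAut (δ d) : MulAut _) : Cfsg.Out (PSLG n F)) = _
      rw [QuotientGroup.mk'_apply, hg, map_mul, hinner, QuotientGroup.mk_mul,
        (QuotientGroup.eq_one_iff (MulAut.conj (QuotientGroup.mk s : PSLG n F))).2
          (MonoidHom.mem_range.2 ⟨_, rfl⟩), mul_one]
  have hker : α.ker = (powMonoidHom n : Fˣ →* Fˣ).range := by
    apply le_antisymm
    · intro d hd
      rw [MonoidHom.mem_ker] at hd
      obtain ⟨x, hx⟩ : conjAut (δ d) ∈ Cfsg.Inn (PSLG n F) := (QuotientGroup.eq_one_iff _).1 hd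
      obtain ⟨s, rfl⟩ := QuotientGroup.mk_surjective x
      rw [← hinner] at hx
      have h1 : (conjAut ((Matrix.SpecialLinearGroup.toGL s)⁻¹ * δ d) * fieldAut 1 : MulAut (PSLG n F)) = 1 := by
        rw [map_one, mul_one, map_mul, map_inv, hx, inv_mul_cancel]
      obtain ⟨c, hc⟩ := Matrix.GeneralLinearGroup.mem_center_iff_val_mem_range_scalar.1
        (eq_one_of_conj_field hn h1).1
      have hcd : c ^ n = (d : F) := by
        have e := congrArg Matrix.det hc
        rw [Matrix.scalar_apply, Matrix.det_diagonal, Finset.prod_const, Finset.card_univ,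
          Fintype.card_fin, Units.val_mul, Matrix.det_mul, hδ, ← map_inv] at e
        rw [e, show ((Matrix.SpecialLinearGroup.toGL s⁻¹ : GL (Fin n) F) :
          Matrix (Fin n) (Fin n) F).det = 1 from (s⁻¹).2, one_mul]
      refine ⟨Units.mk0 c ?_, Units.ext hcd⟩
      rintro rfl
      rw [zero_pow (by omega)] at hcd
      exact d.ne_zero hcd.symm
    · rintro _ ⟨c, rfl⟩
      rw [MonoidHom.mem_ker]
      refine (QuotientGroup.eq_one_iff _).2 ?_
      let z : GL (Fin n) F := diagGL fun _ => c
      have hz : (conjAut z : MulAut (PSLG n F)) = 1 := by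
        apply MulEquiv.ext
        intro x
        induction x using QuotientGroup.induction_on with
        | H t =>
          rw [conjAut_mk, MulAut.one_apply]
          congr 1
          apply Subtype.ext
          rw [slConj_coe]
          have hzc : (z : Matrix (Fin n) (Fin n) F) * t.1 = t.1 * z :=
            Matrix.scalar_commute (c : F) (fun r => Commute.all _ _) t.1
          rw [hzc, Matrix.mul_assoc, ← Units.val_mul, mul_inv_cancel, Units.val_one, Matrix.mul_one]
      let s : SLG n F := ⟨(z⁻¹ * δ (powMonoidHom n c) : GL (Fin n) F), by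
        rw [Units.val_mul, Matrix.det_mul, Matrix.coe_units_inv, Matrix.det_nonsing_inv, hδ,
          show (z : Matrix (Fin n) (Fin n) F).det = (c : F) ^ n by
            show (Matrix.diagonal fun _ : Fin n => (c : F)).det = _
            rw [Matrix.det_diagonal, Finset.prod_const, Finset.card_univ, Fintype.card_fin],
          Ring.inverse_eq_inv', powMonoidHom_apply, Units.val_pow_eq_pow_val]
        exact inv_mul_cancel₀ (pow_ne_zero _ c.ne_zero)⟩
      refine ⟨QuotientGroup.mk s, ?_⟩
      rw [← hinner, show Matrix.SpecialLinearGroup.toGL s = z⁻¹ * δ (powMonoidHom n c) from Units.ext rfl,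
        map_mul, map_inv, hz, inv_one, one_mul]
      rfl
  rw [← hrange]
  refine ⟨isCyclic_of_surjective α.rangeRestrict α.rangeRestrict_surjective, ?_⟩
  rw [← Subgroup.index_ker, hker, IsCyclic.index_powMonoidHom_range, Nat.card_units,
    Nat.card_eq_fintype_card, Nat.gcd_comm]

/-- The image of `GL_n` is normal in `Aut(PSL_n)`. -/
theorem conjAut_range_normal (hn : 2 ≤ n) :
    ((conjAut : GL (Fin n) F →* MulAut (PSLG n F)).range).Normal where
  conj_mem := by
    rintro _ ⟨x, rfl⟩ β
    obtain ⟨g, σ, rfl | rfl⟩ := aut_psl_structure hn β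
    · refine ⟨g * glField σ x * g⁻¹, ?_⟩
      rw [map_mul, map_mul, map_inv, _root_.mul_inv_rev, mul_assoc (conjAut g) (fieldAut σ) (conjAut x),
        fieldAut_mul_conjAut]
      group
    · refine ⟨g * glField σ (glIota x) * g⁻¹, ?_⟩
      rw [map_mul, map_mul, map_inv, _root_.mul_inv_rev, _root_.mul_inv_rev,
        mul_assoc (conjAut g * fieldAut σ) iotaAut (conjAut x), iotaAut_mul_conjAut,
        ← mul_assoc (conjAut g * fieldAut σ) (conjAut _) iotaAut,
        mul_assoc (conjAut g) (fieldAut σ) (conjAut _), fieldAut_mul_conjAut]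
      group

theorem inn_le_range : Cfsg.Inn (PSLG n F) ≤ (conjAut : GL (Fin n) F →* MulAut (PSLG n F)).range := by
  rintro _ ⟨x, rfl⟩
  obtain ⟨s, rfl⟩ := QuotientGroup.mk_surjective x
  refine ⟨Matrix.SpecialLinearGroup.toGL s, ?_⟩
  apply MulEquiv.ext
  intro y
  induction y using QuotientGroup.induction_on with
  | H t =>
    rw [conjAut_mk, MulAut.conj_apply, ← QuotientGroup.mk_inv, ← QuotientGroup.mk_mul,
      ← QuotientGroup.mk_mul]
    rfl

theorem iotaAut_two : (iotaAut : MulAut (PSLG 2 F)) ∈ (conjAut : GL (Fin 2) F →* _).range := by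
  let w : GL (Fin 2) F := ⟨!![0, 1; -1, 0], !![0, -1; 1, 0],
    by ext i j; fin_cases i <;> fin_cases j <;> simp [Matrix.mul_apply, Fin.sum_univ_two],
    by ext i j; fin_cases i <;> fin_cases j <;> simp [Matrix.mul_apply, Fin.sum_univ_two]⟩
  refine ⟨w, ?_⟩
  apply MulEquiv.ext
  intro x
  induction x using QuotientGroup.induction_on with
  | H t =>
    rw [conjAut_mk, iotaAut_mk]
    congr 1
    apply Subtype.ext
    rw [slConj_coe, slIota_coe, Matrix.SpecialLinearGroup.coe_inv, Matrix.adjugate_fin_two]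
    show !![0, 1; -1, 0] * t.1 * !![0, -1; 1, 0] = _
    ext i j
    fin_cases i <;> fin_cases j <;>
      simp [Matrix.mul_apply, Fin.sum_univ_two, Matrix.transpose_apply, Matrix.cons_val, Matrix.vecMul,
        dotProduct]

end CfsgLib.AutPSL
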