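import Mathlib

/-!
Automorphisms of `PSL_n(F)` induced by `GL_n(F)`, by field automorphisms and by inverse-transpose,
as monoid homomorphisms into `MulAut`, and root elements attached to (vector, covector) pairs.
-/

set_option autoImplicit false

namespace CfsgLib.AutPSL

open Matrix

variable {n : ℕ} {F : Type*} [Field F]

abbrev SLG (n : ℕ) (F : Type*) [Field F] := Matrix.SpecialLinearGroup (Fin n) F
abbrev PSLG (n : ℕ) (F : Type*) [Field F] := Matrix.ProjectiveSpecialLinearGroup (Fin n) F

theorem map_center_mulEquiv {G : Type*} [Group G] (e : MulAut G) :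
    (Subgroup.center G).map e.toMonoidHom = Subgroup.center G :=
  Subgroup.characteristic_iff_map_eq.mp inferInstance e

/-- An automorphism of a group induces one of its central quotient. -/
noncomputable def descendAut (G : Type*) [Group G] : MulAut G →* MulAut (G ⧸ Subgroup.center G) where
  toFun e := QuotientGroup.congr _ _ e (map_center_mulEquiv e)
  map_one' := by
    ext x
    induction x using QuotientGroup.induction_on
    rfl
  map_mul' a b := by
    ext x
    induction x using QuotientGroup.induction_on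
    rfl

theorem descendAut_mk {G : Type*} [Group G] (e : MulAut G) (x : G) :
    descendAut G e (QuotientGroup.mk x) = QuotientGroup.mk (e x) := rfl

theorem det_gl_conj (g : GL (Fin n) F) (A : Matrix (Fin n) (Fin n) F) :
    ((g : Matrix (Fin n) (Fin n) F) * A * ((g⁻¹ : GL (Fin n) F) : Matrix (Fin n) (Fin n) F)).det
      = A.det := by
  rw [mul_assoc, Matrix.det_mul_comm, mul_assoc, ← Units.val_mul, inv_mul_cancel, Units.val_one,
    mul_one]

/-- Conjugation of `SL_n` by an element of `GL_n`. -/
def slConjFun (g : GL (Fin n) F) (s : SLG n F) : SLG n F :=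
  ⟨(g : Matrix (Fin n) (Fin n) F) * s.1 * ((g⁻¹ : GL (Fin n) F) : Matrix (Fin n) (Fin n) F), by
    rw [det_gl_conj]; exact s.2⟩

theorem slConjFun_mul (g h : GL (Fin n) F) (s : SLG n F) :
    slConjFun (g * h) s = slConjFun g (slConjFun h s) := by
  apply Subtype.ext
  simp [slConjFun, mul_assoc]

theorem slConjFun_one (s : SLG n F) : slConjFun 1 s = s := by
  apply Subtype.ext
  simp [slConjFun]

def slConjEquiv (g : GL (Fin n) F) : MulAut (SLG n F) where
  toFun := slConjFun g
  invFun := slConjFun g⁻¹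
  left_inv s := by rw [← slConjFun_mul, inv_mul_cancel, slConjFun_one]
  right_inv s := by rw [← slConjFun_mul, mul_inv_cancel, slConjFun_one]
  map_mul' s t := by
    apply Subtype.ext
    show (g : Matrix (Fin n) (Fin n) F) * (s.1 * t.1) * _ = (_ * s.1 * _) * (_ * t.1 * _)
    simp [mul_assoc]

def slConj : GL (Fin n) F →* MulAut (SLG n F) where
  toFun := slConjEquiv
  map_one' := MulEquiv.ext slConjFun_one
  map_mul' g h := MulEquiv.ext (slConjFun_mul g h)

theorem slConj_coe (g : GL (Fin n) F) (s : SLG n F) :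
    (slConj g s).1 = (g : Matrix (Fin n) (Fin n) F) * s.1 *
      ((g⁻¹ : GL (Fin n) F) : Matrix (Fin n) (Fin n) F) := rfl

theorem det_map_ringEquiv (σ : F ≃+* F) (A : Matrix (Fin n) (Fin n) F) :
    (A.map σ).det = σ A.det := (σ.map_det A).symm

def slFieldEquiv (σ : F ≃+* F) : MulAut (SLG n F) where
  toFun s := ⟨s.1.map σ, by rw [det_map_ringEquiv, s.2, map_one]⟩
  invFun s := ⟨s.1.map σ.symm, by rw [det_map_ringEquiv, s.2, map_one]⟩
  left_inv s := by apply Subtype.ext; ext i j; simp
  right_inv s := by apply Subtype.ext; ext i j; simp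
  map_mul' s t := by
    apply Subtype.ext
    show (s.1 * t.1).map σ = s.1.map σ * t.1.map σ
    exact Matrix.map_mul

def slField : (F ≃+* F) →* MulAut (SLG n F) where
  toFun := slFieldEquiv
  map_one' := by ext s; rfl
  map_mul' a b := by ext s; rfl

theorem slField_coe (σ : F ≃+* F) (s : SLG n F) : (slField σ s).1 = s.1.map σ := rfl

/-- Inverse-transpose on `SL_n`. -/
def slIota : MulAut (SLG n F) where
  toFun s := Matrix.SpecialLinearGroup.transpose s⁻¹
  invFun s := (Matrix.SpecialLinearGroup.transpose s)⁻¹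
  left_inv s := by
    have h : Matrix.SpecialLinearGroup.transpose (Matrix.SpecialLinearGroup.transpose s⁻¹) = s⁻¹ := by
      apply Subtype.ext; exact Matrix.transpose_transpose _
    show (Matrix.SpecialLinearGroup.transpose (Matrix.SpecialLinearGroup.transpose s⁻¹))⁻¹ = s
    rw [h, inv_inv]
  right_inv s := by
    show Matrix.SpecialLinearGroup.transpose ((Matrix.SpecialLinearGroup.transpose s)⁻¹)⁻¹ = s
    rw [inv_inv]
    apply Subtype.ext; exact Matrix.transpose_transpose _
  map_mul' s t := by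
    apply Subtype.ext
    show (((s * t)⁻¹ : SLG n F).1)ᵀ = (s⁻¹ : SLG n F).1ᵀ * (t⁻¹ : SLG n F).1ᵀ
    rw [_root_.mul_inv_rev, Matrix.SpecialLinearGroup.coe_mul, Matrix.transpose_mul]

theorem slIota_coe (s : SLG n F) : (slIota s).1 = ((s⁻¹ : SLG n F).1)ᵀ := rfl

theorem slIota_sq : (slIota : MulAut (SLG n F)) * slIota = 1 := by
  apply MulEquiv.ext
  intro s
  show Matrix.SpecialLinearGroup.transpose (Matrix.SpecialLinearGroup.transpose s⁻¹)⁻¹ = s
  apply Subtype.ext
  show (((Matrix.SpecialLinearGroup.transpose s⁻¹)⁻¹ : SLG n F).1)ᵀ = s.1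
  have h : (Matrix.SpecialLinearGroup.transpose s⁻¹)⁻¹ = Matrix.SpecialLinearGroup.transpose s := by
    apply inv_eq_of_mul_eq_one_left
    apply Subtype.ext
    show s.1ᵀ * (s⁻¹ : SLG n F).1ᵀ = 1
    rw [← Matrix.transpose_mul, ← Matrix.SpecialLinearGroup.coe_mul, inv_mul_cancel]
    exact Matrix.transpose_one
  rw [h]
  exact Matrix.transpose_transpose _

noncomputable def conjAut : GL (Fin n) F →* MulAut (PSLG n F) := (descendAut _).comp slConj
noncomputable def fieldAut : (F ≃+* F) →* MulAut (PSLG n F) := (descendAut _).comp slField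
noncomputable def iotaAut : MulAut (PSLG n F) := descendAut _ slIota

theorem conjAut_mk (g : GL (Fin n) F) (s : SLG n F) :
    conjAut g (QuotientGroup.mk s : PSLG n F) = QuotientGroup.mk (slConj g s) := rfl

theorem fieldAut_mk (σ : F ≃+* F) (s : SLG n F) :
    fieldAut σ (QuotientGroup.mk s : PSLG n F) = QuotientGroup.mk (slField σ s) := rfl

theorem iotaAut_mk (s : SLG n F) :
    iotaAut (QuotientGroup.mk s : PSLG n F) = QuotientGroup.mk (slIota s) := rfl

theorem iotaAut_sq : (iotaAut : MulAut (PSLG n F)) * iotaAut = 1 := by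
  rw [iotaAut, ← map_mul, slIota_sq, map_one]

theorem iotaAut_inv : (iotaAut : MulAut (PSLG n F))⁻¹ = iotaAut :=
  inv_eq_of_mul_eq_one_left iotaAut_sq

/-- `σ` applied to the entries of an invertible matrix. -/
def glField (σ : F ≃+* F) : GL (Fin n) F →* GL (Fin n) F :=
  Matrix.GeneralLinearGroup.map σ.toRingHom

theorem glField_coe (σ : F ≃+* F) (g : GL (Fin n) F) :
    (glField σ g : Matrix (Fin n) (Fin n) F) = (g : Matrix (Fin n) (Fin n) F).map σ := rfl

/-- Inverse-transpose on `GL_n`. -/
def glIota (g : GL (Fin n) F) : GL (Fin n) F :=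
  ⟨((g⁻¹ : GL (Fin n) F) : Matrix (Fin n) (Fin n) F)ᵀ, (g : Matrix (Fin n) (Fin n) F)ᵀ,
    by rw [← Matrix.transpose_mul, ← Units.val_mul, mul_inv_cancel, Units.val_one, Matrix.transpose_one],
    by rw [← Matrix.transpose_mul, ← Units.val_mul, inv_mul_cancel, Units.val_one, Matrix.transpose_one]⟩

theorem glIota_coe (g : GL (Fin n) F) :
    (glIota g : Matrix (Fin n) (Fin n) F) = ((g⁻¹ : GL (Fin n) F) : Matrix (Fin n) (Fin n) F)ᵀ := rfl

theorem glIota_inv_coe (g : GL (Fin n) F) :
    ((glIota g)⁻¹ : GL (Fin n) F).1 = (g : Matrix (Fin n) (Fin n) F)ᵀ := rfl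

theorem glIota_mul (g h : GL (Fin n) F) : glIota (g * h) = glIota g * glIota h := by
  ext1
  rw [Units.val_mul, glIota_coe, glIota_coe, glIota_coe, _root_.mul_inv_rev, Units.val_mul,
    Matrix.transpose_mul]

theorem fieldAut_mul_conjAut (σ : F ≃+* F) (g : GL (Fin n) F) :
    fieldAut σ * conjAut g = conjAut (glField σ g) * fieldAut σ := by
  rw [fieldAut, conjAut]
  simp only [MonoidHom.comp_apply, ← map_mul]
  congr 1
  apply MulEquiv.ext; intro s; apply Subtype.ext
  show ((g : Matrix (Fin n) (Fin n) F) * s.1 * _).map σ = _ * (s.1.map σ) * _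
  rw [Matrix.map_mul, Matrix.map_mul, ← glField_coe, ← glField_coe, map_inv]

theorem iotaAut_mul_conjAut (g : GL (Fin n) F) :
    iotaAut * conjAut g = conjAut (glIota g) * iotaAut := by
  rw [iotaAut, conjAut]
  simp only [MonoidHom.comp_apply, ← map_mul]
  congr 1
  apply MulEquiv.ext; intro s; apply Subtype.ext
  show (((slConj g s)⁻¹ : SLG n F).1)ᵀ = _ * ((s⁻¹ : SLG n F).1)ᵀ * _
  rw [← map_inv, slConj_coe, Matrix.transpose_mul, Matrix.transpose_mul, ← mul_assoc]
  rfl

theorem iotaAut_mul_fieldAut (σ : F ≃+* F) :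
    (iotaAut : MulAut (PSLG n F)) * fieldAut σ = fieldAut σ * iotaAut := by
  rw [iotaAut, fieldAut]
  simp only [MonoidHom.comp_apply, ← map_mul]
  congr 1
  apply MulEquiv.ext; intro s; apply Subtype.ext
  show (((slField σ s)⁻¹ : SLG n F).1)ᵀ = ((s⁻¹ : SLG n F).1)ᵀ.map σ
  rw [← map_inv, slField_coe, Matrix.transpose_map]

/-- Two automorphisms agreeing on all classes of transvections are equal. -/
theorem aut_ext_of_gen {β β' : MulAut (PSLG n F)}
    (hgen : ∀ H : Subgroup (SLG n F),
      (∀ (i j : Fin n) (h : i ≠ j) (c : F), Matrix.SpecialLinearGroup.transvection h c ∈ H) → H = ⊤)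
    (h : ∀ (i j : Fin n) (hij : i ≠ j) (c : F),
      β (QuotientGroup.mk (Matrix.SpecialLinearGroup.transvection hij c)) =
        β' (QuotientGroup.mk (Matrix.SpecialLinearGroup.transvection hij c))) : β = β' := by
  have h1 := hgen (MonoidHom.eqLocus (β.toMonoidHom.comp (QuotientGroup.mk' _))
    (β'.toMonoidHom.comp (QuotientGroup.mk' _))) h
  apply MulEquiv.ext
  intro x
  induction x using QuotientGroup.induction_on with
  | H z =>
    have : z ∈ (⊤ : Subgroup (SLG n F)) := Subgroup.mem_top z
    rw [← h1] at this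
    exact this

end CfsgLib.AutPSL
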