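import Cfsg.Prelude.Def_LieTypeDatum

/-!
General lemmas on `splitClassCount`, `IsConjUnder` and indices in cyclic groups.
-/

set_option autoImplicit false

namespace CfsgLib.Split

variable {X : Type*} [Group X]

theorem isConjUnder_conj_left {H : Subgroup X} {x y h : X} (hh : h ∈ H) :
    Cfsg.IsConjUnder H (h * x * h⁻¹) y ↔ Cfsg.IsConjUnder H x y := by
  constructor
  · rintro ⟨k, hk, rfl⟩
    exact ⟨k * h, H.mul_mem hk hh, by group⟩
  · rintro ⟨k, hk, rfl⟩
    exact ⟨k * h⁻¹, H.mul_mem hk (H.inv_mem hh), by group⟩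

theorem isConjUnder_trans {H : Subgroup X} {x y z : X} (h1 : Cfsg.IsConjUnder H x y)
    (h2 : Cfsg.IsConjUnder H y z) : Cfsg.IsConjUnder H x z := by
  obtain ⟨a, ha, rfl⟩ := h1
  obtain ⟨b, hb, rfl⟩ := h2
  exact ⟨b * a, H.mul_mem hb ha, by group⟩

theorem isConjUnder_symm {H : Subgroup X} {x y : X} (h : Cfsg.IsConjUnder H x y) :
    Cfsg.IsConjUnder H y x := by
  obtain ⟨a, ha, rfl⟩ := h
  exact ⟨a⁻¹, H.inv_mem ha, by group⟩

theorem isConjUnder_orderOf {H : Subgroup X} {x y : X} (h : Cfsg.IsConjUnder H x y) :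
    orderOf y = orderOf x := by
  obtain ⟨a, -, rfl⟩ := h
  exact orderOf_injective (MulAut.conj a).toMonoidHom (MulAut.conj a).injective x

/-- The split count only depends on the `H`-class. -/
theorem splitClassCount_conj {H K : Subgroup X} {x h : X} (hh : h ∈ H) :
    Cfsg.splitClassCount H K (h * x * h⁻¹) = Cfsg.splitClassCount H K x := by
  unfold Cfsg.splitClassCount
  apply Nat.card_congr
  exact Quot.congr
    (Equiv.subtypeEquivRight fun y => isConjUnder_conj_left hh) (fun _ _ => Iff.rfl)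

/-- Conjugating the centralizer. -/
noncomputable def centralizerConj {H : Subgroup X} {x h : X} (hh : h ∈ H) :
    ↥(H ⊓ Subgroup.centralizer {x}) ≃* ↥(H ⊓ Subgroup.centralizer {h * x * h⁻¹}) where
  toFun g := ⟨h * g.1 * h⁻¹, H.mul_mem (H.mul_mem hh g.2.1) (H.inv_mem hh), by
    have hg : g.1 * x = x * g.1 := Subgroup.mem_centralizer_singleton_iff.mp g.2.2
    refine Subgroup.mem_centralizer_singleton_iff.mpr ?_
    calc h * g.1 * h⁻¹ * (h * x * h⁻¹) = h * (g.1 * x) * h⁻¹ := by group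
      _ = h * (x * g.1) * h⁻¹ := by rw [hg]
      _ = h * x * h⁻¹ * (h * g.1 * h⁻¹) := by group⟩
  invFun g := ⟨h⁻¹ * g.1 * h, H.mul_mem (H.mul_mem (H.inv_mem hh) g.2.1) hh, by
    have hg : g.1 * (h * x * h⁻¹) = (h * x * h⁻¹) * g.1 :=
      Subgroup.mem_centralizer_singleton_iff.mp g.2.2
    refine Subgroup.mem_centralizer_singleton_iff.mpr ?_
    calc h⁻¹ * g.1 * h * x = h⁻¹ * (g.1 * (h * x * h⁻¹)) * h := by group
      _ = h⁻¹ * ((h * x * h⁻¹) * g.1) * h := by rw [hg]
      _ = x * (h⁻¹ * g.1 * h) := by group⟩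
  left_inv g := by apply Subtype.ext; show h⁻¹ * (h * g.1 * h⁻¹) * h = g.1; group
  right_inv g := by apply Subtype.ext; show h * (h⁻¹ * g.1 * h) * h⁻¹ = g.1; group
  map_mul' a b := by apply Subtype.ext; show h * (a.1 * b.1) * h⁻¹ = _ * _; group

/-- Number of classes of a normal subgroup in a class, through an abelian invariant. -/
theorem splitClassCount_eq_index {G : Type*} [Group G] {A : Type*} [CommGroup A]
    (c : G →* X) (d : G →* A) (hd : Function.Surjective d) (B : Subgroup A)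
    {H K : Subgroup X} (hH : H = c.range) (hK : K = (B.comap d).map c) (x : X) :
    Cfsg.splitClassCount H K x =
      (B ⊔ ((Subgroup.centralizer {x}).comap c).map d).index := by
  classical
  subst hH hK
  set M := B ⊔ ((Subgroup.centralizer {x}).comap c).map d with hM
  have hex : ∀ y : {y : X // Cfsg.IsConjUnder c.range x y}, ∃ g : G, y.1 = c g * x * (c g)⁻¹ := by
    rintro ⟨y, h, ⟨g, rfl⟩, rfl⟩
    exact ⟨g, rfl⟩
  choose rep hrep using hex
  have hmem : ∀ a b : G, c a * x * (c a)⁻¹ = c b * x * (c b)⁻¹ →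
      d a⁻¹ * d b ∈ ((Subgroup.centralizer {x}).comap c).map d := by
    intro a b e
    refine ⟨a⁻¹ * b, ?_, map_mul d _ _⟩
    refine Subgroup.mem_comap.mpr (Subgroup.mem_centralizer_singleton_iff.mpr ?_)
    rw [map_mul, map_inv]
    calc (c a)⁻¹ * c b * x = (c a)⁻¹ * (c b * x * (c b)⁻¹) * c b := by group
      _ = (c a)⁻¹ * (c a * x * (c a)⁻¹) * c b := by rw [e]
      _ = x * ((c a)⁻¹ * c b) := by group
  let Φ : Quot (fun y z : {y : X // Cfsg.IsConjUnder c.range x y} =>
      Cfsg.IsConjUnder ((B.comap d).map c) y.1 z.1) → A ⧸ M :=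
    Quot.lift (fun y => QuotientGroup.mk (d (rep y))) (by
      rintro y z ⟨k, ⟨s, hs, rfl⟩, hz⟩
      rw [QuotientGroup.eq]
      have e : c (s * rep y) * x * (c (s * rep y))⁻¹ = c (rep z) * x * (c (rep z))⁻¹ := by
        rw [← hrep z, hz, hrep y, map_mul]; group
      have h1 := hmem _ _ e
      have h2 : (d (rep y))⁻¹ * d (rep z) = d s * (d (s * rep y)⁻¹ * d (rep z)) := by
        rw [_root_.map_inv, map_mul, mul_inv, ← mul_assoc, ← mul_assoc, mul_inv_cancel, one_mul]
      rw [h2]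
      exact Subgroup.mul_mem_sup hs h1)
  refine Nat.card_congr (Equiv.ofBijective Φ ⟨?_, ?_⟩)
  · intro p q
    refine Quot.induction_on₂ p q fun y z hyz => ?_
    apply Quot.sound
    have h1 : (d (rep y))⁻¹ * d (rep z) ∈ M := QuotientGroup.eq.mp hyz
    obtain ⟨b, hb, w, ⟨t, ht, rfl⟩, hbw⟩ := Subgroup.mem_sup.mp h1
    refine ⟨c (rep z * t⁻¹ * (rep y)⁻¹), Subgroup.mem_map_of_mem c ?_, ?_⟩
    · show d _ ∈ B
      convert hb using 1
      rw [map_mul, map_mul, _root_.map_inv, _root_.map_inv]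
      have e : d (rep z) = d (rep y) * (b * d t) := by rw [hbw, mul_inv_cancel_left]
      rw [e]
      calc d (rep y) * (b * d t) * (d t)⁻¹ * (d (rep y))⁻¹
          = (d (rep y) * b) * (d (rep y))⁻¹ := by group
        _ = b := by rw [mul_comm (d (rep y)) b, mul_inv_cancel_right]
    · have ht' : c t * x = x * c t := Subgroup.mem_centralizer_singleton_iff.mp ht
      have ht2 : (c t)⁻¹ * x * c t = x := by rw [mul_assoc, ← ht', inv_mul_cancel_left]
      rw [hrep z, hrep y, map_mul, map_mul, map_inv, map_inv]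
      conv_lhs => rw [← ht2]
      group
  · intro a
    induction a using QuotientGroup.induction_on with
    | H a =>
      obtain ⟨g, rfl⟩ := hd a
      let y : {y : X // Cfsg.IsConjUnder c.range x y} := ⟨c g * x * (c g)⁻¹, c g, ⟨g, rfl⟩, rfl⟩
      refine ⟨Quot.mk _ y, ?_⟩
      show QuotientGroup.mk (d (rep y)) = QuotientGroup.mk (d g)
      rw [QuotientGroup.eq]
      have := hmem _ _ (hrep y).symm
      rw [_root_.map_inv] at this
      exact Subgroup.mem_sup_right this

/-- Index of `A^n D` in a finite cyclic group. -/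
theorem index_pow_sup {A : Type*} [CommGroup A] [Finite A] [IsCyclic A] (n : ℕ) (D : Subgroup A) :
    ((powMonoidHom n : A →* A).range ⊔ D).index = Nat.gcd n D.index := by
  have hsurj := QuotientGroup.mk'_surjective D
  rw [← Subgroup.index_map_eq (f := QuotientGroup.mk' D) _ hsurj
    (by rw [QuotientGroup.ker_mk']; exact le_sup_right)]
  rw [Subgroup.map_sup, QuotientGroup.map_mk'_self, sup_bot_eq]
  have e : (powMonoidHom n : A →* A).range.map (QuotientGroup.mk' D) =
      (powMonoidHom n : A ⧸ D →* A ⧸ D).range := by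
    ext q
    constructor
    · rintro ⟨_, ⟨a, rfl⟩, rfl⟩
      exact ⟨QuotientGroup.mk' D a, (map_pow (QuotientGroup.mk' D) a n).symm⟩
    · rintro ⟨b, rfl⟩
      obtain ⟨a, rfl⟩ := hsurj b
      exact ⟨a ^ n, ⟨a, rfl⟩, map_pow (QuotientGroup.mk' D) a n⟩
  have : IsCyclic (A ⧸ D) := isCyclic_of_surjective _ hsurj
  rw [e, IsCyclic.index_powMonoidHom_range, ← Subgroup.index_eq_card, Nat.gcd_comm]

end CfsgLib.Split
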