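import Mathlib

/-!
Automorphisms of finite fields: the group is cyclic of order `f`, Galois descent for semilinear
maps (Lang's theorem for `GL_n` over a finite field), Hilbert 90 and surjectivity of the norm.
-/

set_option autoImplicit false

namespace CfsgLib.FieldGalois

open Matrix

variable {F : Type*} [Field F]

instance finite_ringAut [Finite F] : Finite (F ≃+* F) :=
  Finite.of_injective (fun e => (e : F → F)) DFunLike.coe_injective

/-- Field automorphisms of a field of characteristic `p` are its `ZMod p`-algebra automorphisms. -/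
def ringAutEquivGal (p : ℕ) [Fact p.Prime] [Algebra (ZMod p) F] : (F ≃+* F) ≃* Gal(F/ZMod p) where
  toFun σ := AlgEquiv.ofRingEquiv (f := σ) (fun x =>
    RingHom.congr_fun (Subsingleton.elim (σ.toRingHom.comp (algebraMap (ZMod p) F)) (algebraMap (ZMod p) F)) x)
  invFun e := e.toRingEquiv
  left_inv σ := rfl
  right_inv e := rfl
  map_mul' σ τ := rfl

theorem isCyclic_ringAut [Finite F] : IsCyclic (F ≃+* F) := by
  obtain ⟨p, hp⟩ := CharP.exists F
  have : Fact p.Prime := ⟨CharP.char_is_prime F p⟩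
  let := ZMod.algebra F p
  exact (ringAutEquivGal (F := F) p).isCyclic.mpr inferInstance

theorem commute_ringAut [Finite F] (σ τ : F ≃+* F) : Commute σ τ := by
  have := isCyclic_ringAut (F := F)
  have h := IsCyclic.commutative (α := F ≃+* F)
  exact h.is_comm.comm σ τ

theorem card_ringAut [Fintype F] {p f : ℕ} [Fact p.Prime] (hF : Fintype.card F = p ^ f) :
    Nat.card (F ≃+* F) = f := by
  have : CharP F p := charP_of_card_eq_prime_pow hF
  let := ZMod.algebra F p
  rw [Nat.card_congr (ringAutEquivGal (F := F) p).toEquiv, IsGalois.card_aut_eq_finrank]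
  have h := Module.card_eq_pow_finrank (K := ZMod p) (V := F)
  rw [hF, ZMod.card] at h
  exact (Nat.pow_right_injective (Fact.out : p.Prime).two_le h).symm

theorem orderOf_dvd [Fintype F] {p f : ℕ} [Fact p.Prime] (hF : Fintype.card F = p ^ f)
    (σ : F ≃+* F) : orderOf σ ∣ f :=
  card_ringAut hF ▸ orderOf_dvd_natCard σ

theorem involution_unique [Finite F] {σ τ : F ≃+* F} (hσ : orderOf σ = 2) (hτ : orderOf τ = 2) :
    σ = τ := by
  classical
  have := isCyclic_ringAut (F := F)
  have := Fintype.ofFinite (F ≃+* F)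
  have h := IsCyclic.card_orderOf_eq_totient (α := F ≃+* F) (d := 2) (hσ ▸ orderOf_dvd_card)
  rw [Nat.totient_two, Finset.card_eq_one] at h
  obtain ⟨a, ha⟩ := h
  have e1 : σ ∈ ({a} : Finset _) := ha ▸ by simp [hσ]
  have e2 : τ ∈ ({a} : Finset _) := ha ▸ by simp [hτ]
  rw [Finset.mem_singleton] at e1 e2
  rw [e1, e2]

/-- The fixed field of an automorphism. -/
def fixedSub (σ : F ≃+* F) : Subfield F := RingHom.eqLocusField σ.toRingHom (RingHom.id F)

theorem mem_fixedSub {σ : F ≃+* F} {x : F} : x ∈ fixedSub σ ↔ σ x = x := Iff.rfl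

theorem pow_fix {σ : F ≃+* F} {x : F} (h : σ x = x) (k : ℕ) : (σ ^ k) x = x := by
  induction k with
  | zero => rfl
  | succ k ih => rw [pow_succ, RingAut.mul_apply, h, ih]

theorem natCard_fixedSub [Finite F] (σ : F ≃+* F) :
    Nat.card F = Nat.card (fixedSub σ) ^ orderOf σ := by
  let G := Subgroup.zpowers σ
  have := Fintype.ofFinite G
  have h1 := FixedPoints.finrank_eq_card G F
  have hK : FixedPoints.subfield G F = fixedSub σ := by
    ext x
    constructor
    · intro h; exact h ⟨σ, Subgroup.mem_zpowers σ⟩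
    · intro h g
      obtain ⟨g, k, rfl⟩ := g
      have hk : σ ^ k ∈ MulAction.stabilizer (F ≃+* F) x :=
        Subgroup.zpow_mem _ (show σ • x = x from h) k
      exact hk
  have h2 := Module.natCard_eq_pow_finrank (K := FixedPoints.subfield G F) (V := F)
  rw [h2, h1, ← Nat.card_eq_fintype_card, Nat.card_zpowers, hK]

theorem pow_eq_one_iff [Finite F] {σ : F ≃+* F} (i : Fin (orderOf σ)) (j : Fin (orderOf σ))
    (h : σ ^ (i : ℕ) = σ ^ (j : ℕ)) : i = j :=
  Fin.ext (pow_injOn_Iio_orderOf i.2 j.2 h)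

theorem eq_zero_of_forall_sum [Finite F] (σ : F ≃+* F) (c : Fin (orderOf σ) → F)
    (h : ∀ a : F, ∑ i : Fin (orderOf σ), (σ ^ (i : ℕ)) a * c i = 0) (i : Fin (orderOf σ)) :
    c i = 0 := by
  let f : Fin (orderOf σ) → (F →* F) := fun i => (σ ^ (i : ℕ)).toMonoidHom
  have hf : Function.Injective f := by
    intro a b e
    exact pow_eq_one_iff a b (RingEquiv.ext fun x => DFunLike.congr_fun e x)
  have h1 := (linearIndependent_monoidHom F F).comp f hf
  refine Fintype.linearIndependent_iff.mp h1 c ?_ i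
  funext a
  rw [Finset.sum_apply]
  simpa [f, mul_comm] using h a

variable {ι : Type*} [Fintype ι] [DecidableEq ι]

/-- `g σ(g) ⋯ σ^{k-1}(g)`. -/
def cocy (σ : F ≃+* F) (g : GL ι F) : ℕ → GL ι F
  | 0 => 1
  | k + 1 => g * Matrix.GeneralLinearGroup.map σ.toRingHom (cocy σ g k)

/-- The semilinear map `v ↦ g σ(v)`. -/
def semi (σ : F ≃+* F) (g : GL ι F) (v : ι → F) : ι → F :=
  (g : Matrix ι ι F) *ᵥ (σ ∘ v)

theorem semi_add (σ : F ≃+* F) (g : GL ι F) (v w : ι → F) :
    semi σ g (v + w) = semi σ g v + semi σ g w := by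
  rw [semi, semi, semi, ← Matrix.mulVec_add]
  congr 1; ext i; simp

theorem semi_smul (σ : F ≃+* F) (g : GL ι F) (a : F) (v : ι → F) :
    semi σ g (a • v) = σ a • semi σ g v := by
  rw [semi, semi, ← Matrix.mulVec_smul]
  congr 1; ext i; simp

theorem semi_iterate (σ : F ≃+* F) (g : GL ι F) (k : ℕ) (v : ι → F) :
    (semi σ g)^[k] v = (cocy σ g k : Matrix ι ι F) *ᵥ ((σ ^ k : F ≃+* F) ∘ v) := by
  induction k with
  | zero => simp [cocy]
  | succ k ih =>
    rw [Function.iterate_succ_apply', ih, semi, cocy, Units.val_mul, ← Matrix.mulVec_mulVec]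
    congr 1
    funext i
    rw [Function.comp_apply, Matrix.mulVec, Matrix.mulVec, dotProduct, dotProduct, map_sum]
    refine Finset.sum_congr rfl fun j _ => ?_
    rw [map_mul, pow_succ']
    rfl

theorem semi_iterate_smul (σ : F ≃+* F) (g : GL ι F) (k : ℕ) (a : F) (v : ι → F) :
    (semi σ g)^[k] (a • v) = (σ ^ k) a • (semi σ g)^[k] v := by
  induction k with
  | zero => rfl
  | succ k ih =>
    rw [Function.iterate_succ_apply', Function.iterate_succ_apply', ih, semi_smul, pow_succ']
    rfl

/-- Lang's theorem for `GL` over a finite field (Galois descent). -/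
theorem exists_of_cocy_eq_one [Finite F] (σ : F ≃+* F) (g : GL ι F)
    (hg : cocy σ g (orderOf σ) = 1) :
    ∃ h : GL ι F, g * Matrix.GeneralLinearGroup.map σ.toRingHom h = h := by
  classical
  set r := orderOf σ with hr
  have hr0 : 0 < r := orderOf_pos σ
  set T := semi σ g with hT
  have hTr : ∀ v, T^[r] v = v := fun v => by
    rw [hT, semi_iterate, hg, hr, pow_orderOf_eq_one, Units.val_one, Matrix.one_mulVec]
    rfl
  let tr : (ι → F) → (ι → F) := fun v => ∑ i : Fin r, T^[(i : ℕ)] v
  have hfix : ∀ v, T (tr v) = tr v := by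
    intro v
    let Th : (ι → F) →+ (ι → F) :=
      { toFun := T
        map_zero' := by simp [hT, semi]
        map_add' := semi_add σ g }
    show Th (∑ i : Fin r, T^[(i : ℕ)] v) = _
    rw [map_sum]
    have e1 : ∀ i : Fin r, Th (T^[(i : ℕ)] v) = T^[(i : ℕ) + 1] v := fun i =>
      (Function.iterate_succ_apply' T i v).symm
    simp only [e1, tr]
    rw [Fin.sum_univ_eq_sum_range (fun i => T^[i + 1] v) r,
      Fin.sum_univ_eq_sum_range (fun i => T^[i] v) r]
    have e2 := Finset.sum_range_succ' (fun i => T^[i] v) r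
    rw [Finset.sum_range_succ, hTr] at e2
    exact (add_right_cancel e2).symm
  set S : Set (ι → F) := {w | T w = w} with hS
  have hspan : Submodule.span F S = ⊤ := by
    by_contra hne
    obtain ⟨v, hv⟩ := SetLike.exists_not_mem_of_ne_top _ hne rfl
    obtain ⟨φ, hφv, hφ⟩ := Submodule.exists_dual_map_eq_bot_of_notMem hv inferInstance
    apply hφv
    have hzero : ∀ a : F, ∑ i : Fin r, (σ ^ (i : ℕ)) a * φ (T^[(i : ℕ)] v) = 0 := by
      intro a
      have hm : φ (tr (a • v)) ∈ (Submodule.span F S).map φ :=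
        Submodule.mem_map_of_mem (Submodule.subset_span (hfix _))
      rw [hφ, Submodule.mem_bot, map_sum] at hm
      simpa [hT, semi_iterate_smul] using hm
    exact eq_zero_of_forall_sum σ _ hzero ⟨0, hr0⟩
  obtain ⟨b, hbS, hbspan, hbli⟩ := exists_linearIndependent F S
  have hbtop : ⊤ ≤ Submodule.span F (Set.range ((↑) : b → ι → F)) := by
    rw [Subtype.range_coe, hbspan, hspan]
  let B := Module.Basis.mk hbli hbtop
  have : Fintype b := FiniteDimensional.fintypeBasisIndex B
  have hcard : Fintype.card b = Fintype.card ι := by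
    rw [← Module.finrank_eq_card_basis B, Module.finrank_pi]
  let e : ι ≃ b := Fintype.equivOfCardEq hcard.symm
  let H : Matrix ι ι F := Matrix.of fun i j => (e j : ι → F) i
  have hH : IsUnit H := by
    apply Matrix.linearIndependent_cols_iff_isUnit.mp
    show LinearIndependent F fun j => (fun i => H i j)
    exact hbli.comp e e.injective
  refine ⟨hH.unit, Units.ext ?_⟩
  ext i j
  have := congrFun (show T (e j : ι → F) = (e j : ι → F) from hbS (e j).2) i
  simpa [hT, semi, Matrix.mulVec, dotProduct, Matrix.mul_apply, H] using this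

/-- The norm of `σ` as a map on units. -/
noncomputable def normU (σ : F ≃+* F) : Fˣ →* Fˣ :=
  ∏ i : Fin (orderOf σ), Units.map (σ ^ (i : ℕ)).toMonoidHom

theorem normU_apply (σ : F ≃+* F) (x : Fˣ) :
    normU σ x = ∏ i : Fin (orderOf σ), Units.map (σ ^ (i : ℕ)).toMonoidHom x := by
  rw [normU, MonoidHom.finsetProd_apply]

theorem normU_val (σ : F ≃+* F) (x : Fˣ) :
    (normU σ x : F) = ∏ i : Fin (orderOf σ), (σ ^ (i : ℕ)) (x : F) := by
  rw [normU_apply, Units.coe_prod]; rfl

theorem cocy_scalar (σ : F ≃+* F) (x : Fˣ) (k : ℕ) :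
    cocy σ (Matrix.GeneralLinearGroup.scalar ι x) k =
      Matrix.GeneralLinearGroup.scalar ι (∏ i ∈ Finset.range k, Units.map (σ ^ i).toMonoidHom x) := by
  induction k with
  | zero => simp [cocy]
  | succ k ih =>
    rw [cocy, ih]
    have hmap : ∀ y : Fˣ, Matrix.GeneralLinearGroup.map σ.toRingHom (Matrix.GeneralLinearGroup.scalar ι y)
        = Matrix.GeneralLinearGroup.scalar ι (Units.map σ.toMonoidHom y) := by
      intro y
      apply Units.ext
      ext a b
      by_cases h : a = b
      · subst h; simp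
      · simp [h]
    rw [hmap, ← map_mul, Finset.prod_range_succ', map_prod]
    congr 1
    rw [mul_comm]
    congr 1
    · exact Finset.prod_congr rfl fun i _ => by ext; rw [pow_succ']; rfl

/-- Hilbert 90 for finite fields. -/
theorem hilbert90 [Finite F] (σ : F ≃+* F) {x : Fˣ} (hx : normU σ x = 1) :
    ∃ y : Fˣ, x * Units.map σ.toMonoidHom y = y := by
  have h := exists_of_cocy_eq_one σ (Matrix.GeneralLinearGroup.scalar (Fin 1) x) (by
    rw [cocy_scalar, Finset.prod_range (fun i => Units.map (σ ^ i).toMonoidHom x), ← normU_apply,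
      hx, map_one])
  obtain ⟨h, hh⟩ := h
  refine ⟨Matrix.GeneralLinearGroup.det h, ?_⟩
  have := congrArg Matrix.GeneralLinearGroup.det hh
  rw [map_mul] at this
  convert this using 2
  · ext; simp
  · ext; exact RingHom.map_det σ.toRingHom _

theorem normU_mem [Finite F] (σ : F ≃+* F) (x : Fˣ) : σ (normU σ x : F) = normU σ x := by
  have hr0 : 0 < orderOf σ := orderOf_pos σ
  rw [normU_val, map_prod, Fin.prod_univ_eq_prod_range (fun i => σ ((σ ^ i) (x : F))) (orderOf σ),
    Fin.prod_univ_eq_prod_range (fun i => (σ ^ i) (x : F)) (orderOf σ)]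
  obtain ⟨k, hk⟩ := Nat.exists_eq_succ_of_ne_zero hr0.ne'
  rw [hk, Finset.prod_range_succ, Finset.prod_range_succ']
  congr 1
  · exact Finset.prod_congr rfl fun i _ => by rw [pow_succ']; rfl
  · rw [← RingAut.mul_apply, ← pow_succ', ← Nat.succ_eq_add_one, ← hk, pow_orderOf_eq_one]; simp

/-- The units of the fixed field. -/
def fixedUnits (σ : F ≃+* F) : Subgroup Fˣ :=
  (Units.map σ.toMonoidHom).eqLocus (MonoidHom.id Fˣ)

theorem mem_fixedUnits {σ : F ≃+* F} {x : Fˣ} : x ∈ fixedUnits σ ↔ σ (x : F) = x :=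
  ⟨fun h => congrArg Units.val h, fun h => Units.ext h⟩

theorem range_normU [Finite F] (σ : F ≃+* F) : (normU σ).range = fixedUnits σ := by
  have hle : (normU σ).range ≤ fixedUnits σ := by
    rintro _ ⟨x, rfl⟩
    exact mem_fixedUnits.mpr (normU_mem σ x)
  let d : Fˣ →* Fˣ := (MonoidHom.id Fˣ) / Units.map σ.toMonoidHom
  have hker : (normU σ).ker ≤ d.range := by
    intro x hx
    obtain ⟨y, hy⟩ := hilbert90 σ hx
    refine ⟨y, ?_⟩
    show y / Units.map σ.toMonoidHom y = x
    rw [div_eq_iff_eq_mul, hy]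
  have hdker : d.ker = fixedUnits σ := by
    ext y
    show y / Units.map σ.toMonoidHom y = 1 ↔ Units.map σ.toMonoidHom y = y
    rw [div_eq_one, eq_comm]
  apply Subgroup.eq_of_le_of_card_ge hle
  have e1 := (normU σ).ker.card_mul_index
  rw [Subgroup.index_ker] at e1
  have e2 := d.ker.card_mul_index
  rw [Subgroup.index_ker, hdker] at e2
  have e3 : Nat.card (normU σ).ker ≤ Nat.card d.range := Subgroup.card_le_of_le hker
  have hpos : 0 < Nat.card d.range := Nat.card_pos
  apply Nat.le_of_mul_le_mul_right _ hpos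
  calc Nat.card (fixedUnits σ) * Nat.card d.range = Nat.card Fˣ := e2
    _ = Nat.card (normU σ).ker * Nat.card (normU σ).range := e1.symm
    _ ≤ Nat.card (normU σ).range * Nat.card d.range := by
        rw [mul_comm]; exact Nat.mul_le_mul_left _ e3

theorem exists_norm_eq [Finite F] (σ : F ≃+* F) {c : Fˣ} (hc : σ (c : F) = c) :
    ∃ x : Fˣ, normU σ x = c := by
  rw [← MonoidHom.mem_range, range_normU]
  exact mem_fixedUnits.mpr hc

theorem card_fixedUnits [Finite F] (σ : F ≃+* F) :
    Nat.card (fixedUnits σ) = Nat.card (fixedSub σ) - 1 := by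
  have e : fixedUnits σ ≃ (fixedSub σ)ˣ :=
    { toFun := fun x => Units.mk0 ⟨(x.1 : F), mem_fixedUnits.mp x.2⟩
        (fun h => x.1.ne_zero (congrArg Subtype.val h))
      invFun := fun y => ⟨Units.map (fixedSub σ).subtype.toMonoidHom y, mem_fixedUnits.mpr y.1.2⟩
      left_inv := fun x => by apply Subtype.ext; apply Units.ext; rfl
      right_inv := fun y => by apply Units.ext; rfl }
  rw [Nat.card_congr e, Nat.card_units]

theorem card_fixed_of_orderOf [Fintype F] {p f : ℕ} [hp : Fact p.Prime]
    (hF : Fintype.card F = p ^ f) (σ : F ≃+* F) :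
    Nat.card (fixedSub σ) = p ^ (f / orderOf σ) := by
  obtain ⟨j, hj⟩ := orderOf_dvd hF σ
  have h := natCard_fixedSub σ
  rw [Nat.card_eq_fintype_card, hF] at h
  rw [hj, Nat.mul_div_cancel_left _ (orderOf_pos σ)] at *
  rw [hj, mul_comm, pow_mul] at h
  exact Nat.pow_left_injective (orderOf_pos σ).ne' h.symm

end CfsgLib.FieldGalois
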