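import Cfsg.Agent.Lib.AutPSL.FieldGalois

/-!
All invertible Hermitian matrices over a finite field are congruent to `1`.
-/

set_option autoImplicit false

namespace CfsgLib.FieldGalois

open Matrix

variable {F : Type*} [Field F] {n : ℕ}

/-- The sesquilinear form of a matrix. -/
def sesq (σ : F ≃+* F) (H : Matrix (Fin n) (Fin n) F) (u v : Fin n → F) : F :=
  u ⬝ᵥ H *ᵥ (σ ∘ v)

theorem sesq_add_left (σ : F ≃+* F) (H : Matrix (Fin n) (Fin n) F) (u u' v : Fin n → F) :
    sesq σ H (u + u') v = sesq σ H u v + sesq σ H u' v := add_dotProduct _ _ _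

theorem sesq_smul_left (σ : F ≃+* F) (H : Matrix (Fin n) (Fin n) F) (a : F) (u v : Fin n → F) :
    sesq σ H (a • u) v = a * sesq σ H u v := smul_dotProduct _ _ _

theorem sesq_add_right (σ : F ≃+* F) (H : Matrix (Fin n) (Fin n) F) (u v v' : Fin n → F) :
    sesq σ H u (v + v') = sesq σ H u v + sesq σ H u v' := by
  have e : (σ ∘ (v + v') : Fin n → F) = σ ∘ v + σ ∘ v' := by ext i; simp
  rw [sesq, e, Matrix.mulVec_add, dotProduct_add]; rfl

theorem sesq_smul_right (σ : F ≃+* F) (H : Matrix (Fin n) (Fin n) F) (a : F) (u v : Fin n → F) :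
    sesq σ H u (a • v) = σ a * sesq σ H u v := by
  have e : (σ ∘ (a • v) : Fin n → F) = σ a • (σ ∘ v) := by ext i; simp
  rw [sesq, e, Matrix.mulVec_smul, dotProduct_smul, smul_eq_mul]; rfl

theorem sesq_sum_right (σ : F ≃+* F) (H : Matrix (Fin n) (Fin n) F) (u : Fin n → F) {ι : Type*}
    (s : Finset ι) (v : ι → Fin n → F) : sesq σ H u (∑ i ∈ s, v i) = ∑ i ∈ s, sesq σ H u (v i) :=
  map_sum (AddMonoidHom.mk' (fun w => sesq σ H u w) (fun a b => sesq_add_right σ H u a b)) v s

theorem sesq_sum_left (σ : F ≃+* F) (H : Matrix (Fin n) (Fin n) F) (v : Fin n → F) {ι : Type*}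
    (s : Finset ι) (u : ι → Fin n → F) : sesq σ H (∑ i ∈ s, u i) v = ∑ i ∈ s, sesq σ H (u i) v :=
  map_sum (AddMonoidHom.mk' (fun w => sesq σ H w v) (fun a b => sesq_add_left σ H a b v)) u s

theorem orderOf_two_apply {σ : F ≃+* F} (hσ : orderOf σ = 2) (x : F) : σ (σ x) = x := by
  have h := pow_orderOf_eq_one σ
  rw [hσ, pow_two] at h
  exact DFunLike.congr_fun h x

theorem map_sesq {σ : F ≃+* F} (hσ : orderOf σ = 2) {H : Matrix (Fin n) (Fin n) F}
    (hH : H.transpose.map σ = H) (u v : Fin n → F) : σ (sesq σ H u v) = sesq σ H v u := by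
  simp only [sesq, dotProduct, Matrix.mulVec, Finset.mul_sum, map_sum, map_mul, Function.comp_apply,
    orderOf_two_apply hσ]
  rw [Finset.sum_comm]
  refine Finset.sum_congr rfl fun j _ => Finset.sum_congr rfl fun i _ => ?_
  have := congrFun (congrFun hH j) i
  rw [Matrix.map_apply, Matrix.transpose_apply] at this
  rw [this]; ring

theorem exists_orthonormal [Finite F] {σ : F ≃+* F} (hσ : orderOf σ = 2)
    {H : Matrix (Fin n) (Fin n) F} (hH : H.transpose.map σ = H) (hdet : H.det ≠ 0) :
    ∀ j, j ≤ n → ∃ u : Fin j → (Fin n → F), ∀ a b, sesq σ H (u a) (u b) = if a = b then 1 else 0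
  | 0, _ => ⟨fun a => a.elim0, fun a => a.elim0⟩
  | j + 1, hj => by
    obtain ⟨u, hu⟩ := exists_orthonormal hσ hH hdet j (by omega)
    let L : (Fin n → F) →ₗ[F] (Fin j → F) :=
      { toFun := fun w i => sesq σ H w (u i)
        map_add' := fun a b => funext fun i => sesq_add_left σ H a b (u i)
        map_smul' := fun a b => funext fun i => sesq_smul_left σ H a b (u i) }
    obtain ⟨w, hwL, hw0⟩ := Submodule.exists_mem_ne_zero_of_ne_bot
      (LinearMap.ker_ne_bot_of_finrank_lt (f := L) (by simp; omega))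
    have hwu : ∀ i, sesq σ H w (u i) = 0 := fun i => congrFun (LinearMap.mem_ker.mp hwL) i
    obtain ⟨x, hx⟩ : ∃ x, sesq σ H w x ≠ 0 := by
      by_contra hh
      push Not at hh
      apply hw0
      apply Matrix.eq_zero_of_vecMul_eq_zero hdet
      funext i
      have h := hh (Pi.single i 1)
      have e : (σ ∘ (Pi.single i 1 : Fin n → F)) = Pi.single i 1 := by
        ext k; simp [Pi.single_apply, apply_ite σ]
      rw [sesq, e, dotProduct_mulVec, dotProduct_single, mul_one] at h
      exact h
    -- project `x` into the orthogonal of the family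
    set x' := x + ∑ i, (- sesq σ H x (u i)) • u i with hx'
    have hx'u : ∀ i, sesq σ H x' (u i) = 0 := by
      intro i
      rw [hx', sesq_add_left, sesq_sum_left, Finset.sum_eq_single i]
      · rw [sesq_smul_left, hu, if_pos rfl, mul_one, add_neg_cancel]
      · intro b _ hb
        rw [sesq_smul_left, hu, if_neg hb, mul_zero]
      · intro h; exact absurd (Finset.mem_univ i) h
    have hwx' : sesq σ H w x' = sesq σ H w x := by
      rw [hx', sesq_add_right, sesq_sum_right, Finset.sum_eq_zero, add_zero]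
      intro i _
      rw [sesq_smul_right, hwu, mul_zero]
    obtain ⟨z, hzu, hz⟩ : ∃ z, (∀ i, sesq σ H z (u i) = 0) ∧ sesq σ H z z ≠ 0 := by
      by_contra hh
      push Not at hh
      have hall : ∀ l : F, σ l * sesq σ H w x' + l * σ (sesq σ H w x') = 0 := by
        intro l
        have h := hh (w + l • x') (fun i => by
          rw [sesq_add_left, sesq_smul_left, hwu, hx'u, mul_zero, add_zero])
        simp only [sesq_add_left, sesq_add_right, sesq_smul_left, sesq_smul_right] at h
        rw [hh w hwu, hh x' hx'u, ← map_sesq hσ hH w x'] at h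
        linear_combination h
      have h1 := hall 1
      rw [map_one, one_mul, one_mul] at h1
      have hσid : σ = 1 := by
        apply RingEquiv.ext
        intro l
        have h2 := hall l
        have h3 : (σ l - l) * sesq σ H w x' = 0 := by linear_combination h2 - l * h1
        rw [hwx'] at h3
        exact sub_eq_zero.mp ((mul_eq_zero.mp h3).resolve_right hx)
      rw [hσid, orderOf_one] at hσ
      omega
    set b := sesq σ H z z with hb
    obtain ⟨c, hc⟩ := exists_norm_eq σ (c := (Units.mk0 b hz)⁻¹) (by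
      rw [Units.val_inv_eq_inv_val, map_inv₀, Units.val_mk0, hb, map_sesq hσ hH])
    have hc' : (c : F) * σ c * b = 1 := by
      have h2 := congrArg Units.val hc
      rw [normU_val, Units.val_inv_eq_inv_val, Units.val_mk0, Fin.prod_univ_eq_prod_range
        (fun i => (σ ^ i) (c : F)) (orderOf σ), hσ, Finset.prod_range_succ, Finset.prod_range_one,
        pow_zero, pow_one, RingAut.one_apply] at h2
      rw [h2, inv_mul_cancel₀ hz]
    refine ⟨Fin.cons ((c : F) • z) u, fun a' b' => ?_⟩
    cases a' using Fin.cases with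
    | zero =>
      cases b' using Fin.cases with
      | zero =>
        rw [Fin.cons_zero, sesq_smul_left, sesq_smul_right, if_pos rfl, ← hb]
        linear_combination hc'
      | succ q =>
        rw [Fin.cons_zero, Fin.cons_succ, sesq_smul_left, hzu, mul_zero,
          if_neg (Fin.succ_ne_zero q).symm]
    | succ p =>
      cases b' using Fin.cases with
      | zero =>
        rw [Fin.cons_zero, Fin.cons_succ, if_neg (Fin.succ_ne_zero p), ← map_sesq hσ hH ((c : F) • z) (u p),
          sesq_smul_left, hzu, mul_zero, map_zero]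
      | succ q => rw [Fin.cons_succ, Fin.cons_succ, hu]; simp [Fin.succ_inj]

theorem mul_map_transpose_apply (σ : F ≃+* F) (U H : Matrix (Fin n) (Fin n) F) (a b : Fin n) :
    (U * H * U.transpose.map σ) a b = sesq σ H (U a) (U b) := by
  rw [Matrix.mul_assoc]
  simp [Matrix.mul_apply, sesq, dotProduct, Matrix.mulVec, Finset.mul_sum]

/-- Every invertible Hermitian matrix is `k σ(k)ᵀ`. -/
theorem exists_hermitian_sqrt [Finite F] {σ : F ≃+* F} (hσ : orderOf σ = 2)
    (H : GL (Fin n) F) (hH : (H : Matrix (Fin n) (Fin n) F).transpose.map σ = H) :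
    ∃ k : GL (Fin n) F, (k : Matrix (Fin n) (Fin n) F) *
      (k : Matrix (Fin n) (Fin n) F).transpose.map σ = H := by
  have hdetH : (H : Matrix (Fin n) (Fin n) F).det ≠ 0 :=
    ((Matrix.isUnit_iff_isUnit_det _).mp H.isUnit).ne_zero
  obtain ⟨u, hu⟩ := exists_orthonormal hσ hH hdetH n le_rfl
  set U : Matrix (Fin n) (Fin n) F := Matrix.of u with hUdef
  have hU : U * (H : Matrix (Fin n) (Fin n) F) * U.transpose.map σ = 1 := by
    ext a b
    rw [mul_map_transpose_apply, Matrix.one_apply]
    exact hu a b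
  have hUdet : U.det ≠ 0 := by
    intro h
    have := congrArg Matrix.det hU
    simp [h] at this
  set k : GL (Fin n) F := (Matrix.GeneralLinearGroup.mkOfDetNeZero U hUdet)⁻¹ with hk
  refine ⟨k, ?_⟩
  have e1 : (k : Matrix (Fin n) (Fin n) F) * U = 1 := by
    have h := congrArg Units.val (inv_mul_cancel (Matrix.GeneralLinearGroup.mkOfDetNeZero U hUdet))
    rw [Units.val_mul, Units.val_one] at h
    exact h
  have e2 : U.transpose.map σ * (k : Matrix (Fin n) (Fin n) F).transpose.map σ = 1 := by
    rw [← Matrix.map_mul, ← Matrix.transpose_mul, e1, Matrix.transpose_one,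
      Matrix.map_one _ (map_zero σ) (map_one σ)]
  calc (k : Matrix (Fin n) (Fin n) F) * (k : Matrix (Fin n) (Fin n) F).transpose.map σ
      = (k : Matrix (Fin n) (Fin n) F) * (U * (H : Matrix (Fin n) (Fin n) F) * U.transpose.map σ) *
          (k : Matrix (Fin n) (Fin n) F).transpose.map σ := by rw [hU, mul_one]
    _ = ((k : Matrix (Fin n) (Fin n) F) * U) * (H : Matrix (Fin n) (Fin n) F) *
          (U.transpose.map σ * (k : Matrix (Fin n) (Fin n) F).transpose.map σ) := by
        simp only [Matrix.mul_assoc]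
    _ = H := by rw [e1, e2, one_mul, mul_one]

end CfsgLib.FieldGalois
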