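import Cfsg.Agent.Lib.AutPSL.Main

/-!
Kernel of `PGL_n(F) ⋊ (field) ⋊ ⟨iota⟩ → Aut(PSL_n(F))`.
-/

set_option autoImplicit false

namespace CfsgLib.AutPSL

open Matrix

variable {n : ℕ} {F : Type*} [Field F]

theorem conjAut_scalar (u : Fˣ) : conjAut (n := n) (Matrix.GeneralLinearGroup.scalar (Fin n) u) = 1 := by
  apply MulEquiv.ext
  intro x
  induction x using QuotientGroup.induction_on with
  | H s =>
    rw [conjAut_mk]
    show (QuotientGroup.mk _ : PSLG n F) = QuotientGroup.mk s
    refine congrArg _ (Subtype.ext ?_)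
    rw [slConj_coe, ← map_inv]
    ext i j
    simp only [Matrix.GeneralLinearGroup.coe_scalar, Matrix.scalar_apply, Matrix.mul_diagonal,
      Matrix.diagonal_mul, Units.val_inv_eq_inv_val]
    field_simp

theorem scalar_mul_comm (u : Fˣ) (g : GL (Fin n) F) :
    Matrix.GeneralLinearGroup.scalar (Fin n) u * g = g * Matrix.GeneralLinearGroup.scalar (Fin n) u := by
  apply Units.ext
  rw [Units.val_mul, Units.val_mul, Matrix.GeneralLinearGroup.coe_scalar]
  exact Matrix.scalar_commute (u : F) (fun r => mul_comm _ _) _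

theorem glField_scalar (σ : F ≃+* F) (u : Fˣ) :
    glField σ (Matrix.GeneralLinearGroup.scalar (Fin n) u) =
      Matrix.GeneralLinearGroup.scalar (Fin n) (Units.map σ.toMonoidHom u) := by
  apply Units.ext
  ext a b
  rw [glField_coe]
  by_cases h : a = b
  · subst h; simp
  · simp [h]

theorem matrix_commute_of_transvections (hn : 1 ≤ n) {M : Matrix (Fin n) (Fin n) F}
    (h : ∀ i j : Fin n, i ≠ j → Commute M (vecMulVec (ev i) (ev j))) :
    ∃ r : F, M = Matrix.scalar (Fin n) r := by
  obtain ⟨r, hr⟩ := Matrix.mem_range_scalar_of_commute_transvectionStruct (M := M) fun t => by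
    have hb : (Matrix.single t.i t.j t.c : Matrix (Fin n) (Fin n) F) =
        t.c • vecMulVec (ev t.i) (ev t.j) := by
      ext k l; simp [vecMulVec_apply, Matrix.single_apply, Pi.single_apply, ev]; split_ifs <;> simp_all
    have e : Commute M t.toMatrix := by
      rw [Matrix.TransvectionStruct.toMatrix, Matrix.transvection, hb]
      exact (Commute.one_right M).add_right ((h t.i t.j t.hij).smul_right t.c)
    exact e.symm
  exact ⟨r, hr.symm⟩

theorem eq_of_conj_field_eq_one (hn : 2 ≤ n) {g : GL (Fin n) F} {σ : F ≃+* F}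
    (h : conjAut g * fieldAut σ = 1) :
    σ = 1 ∧ ∃ u : Fˣ, g = Matrix.GeneralLinearGroup.scalar (Fin n) u := by
  have hn1 : 1 ≤ n := le_trans one_le_two hn
  have key : ∀ i j : Fin n, i ≠ j → ∀ a : F,
      σ a • ((g : Matrix (Fin n) (Fin n) F) * vecMulVec (ev i) (ev j) *
        ((g⁻¹ : GL (Fin n) F) : Matrix (Fin n) (Fin n) F)) = a • vecMulVec (ev i) (ev j) := by
    intro i j hij a
    have hd := ev_dot (F := F) j i hij.symm
    have hd' : (ev j ᵥ* ((g⁻¹ : GL (Fin n) F) : Matrix (Fin n) (Fin n) F)) ⬝ᵥ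
        ((g : Matrix (Fin n) (Fin n) F) *ᵥ ev i) = 0 := by rw [dot_conj]; exact hd
    have e := DFunLike.congr_fun h (rootEl (ev i) (ev j) a)
    rw [MulAut.mul_apply, fieldAut_rootEl_ev σ hij, conjAut_rootEl _ hd, MulAut.one_apply] at e
    have e1 := congrArg Subtype.val
      (unipotent_mk_inj hn1 (slRoot_sub_one_sq hd' _) (slRoot_sub_one_sq hd _) e)
    rw [slRoot_coe hd', slRoot_coe hd, add_right_inj] at e1
    rw [mul_vecMulVec, vecMulVec_mul]
    exact e1
  have key1 : ∀ i j : Fin n, i ≠ j → (g : Matrix (Fin n) (Fin n) F) * vecMulVec (ev i) (ev j) *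
        ((g⁻¹ : GL (Fin n) F) : Matrix (Fin n) (Fin n) F) = vecMulVec (ev i) (ev j) := by
    intro i j hij
    simpa using key i j hij 1
  refine ⟨?_, ?_⟩
  · apply RingEquiv.ext
    intro a
    set i : Fin n := ⟨0, by omega⟩
    set j : Fin n := ⟨1, by omega⟩
    have hij : i ≠ j := by simp [i, j, Fin.ext_iff]
    have e := key i j hij a
    rw [key1 i j hij] at e
    have := congrFun (congrFun e i) j
    simpa [vecMulVec_apply] using this
  · obtain ⟨r, hr⟩ := matrix_commute_of_transvections hn1 (M := (g : Matrix (Fin n) (Fin n) F))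
      fun i j hij => by
        show _ * _ = _ * _
        conv_rhs => rw [← key1 i j hij, Matrix.mul_assoc, ← Units.val_mul, inv_mul_cancel,
          Units.val_one, mul_one]
    have hr0 : r ≠ 0 := by
      rintro rfl
      rw [map_zero] at hr
      have := congrArg (fun M => M * ((g⁻¹ : GL (Fin n) F) : Matrix (Fin n) (Fin n) F)) hr
      simp only [zero_mul, ← Units.val_mul, mul_inv_cancel, Units.val_one] at this
      exact one_ne_zero (congrFun (congrFun this ⟨0, by omega⟩) ⟨0, by omega⟩ |>.trans rfl |>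
        (fun e => by simpa using e) : (1 : F) = 0)
    exact ⟨Units.mk0 r hr0, Units.ext hr⟩

theorem conjAut_eq_one_iff (hn : 2 ≤ n) {g : GL (Fin n) F} :
    conjAut g = 1 ↔ ∃ u : Fˣ, g = Matrix.GeneralLinearGroup.scalar (Fin n) u := by
  constructor
  · intro h
    exact (eq_of_conj_field_eq_one hn (g := g) (σ := 1) (by rw [h, map_one, one_mul])).2
  · rintro ⟨u, rfl⟩
    exact conjAut_scalar u

theorem fieldAut_injective (hn : 2 ≤ n) :
    Function.Injective (fieldAut : (F ≃+* F) →* MulAut (PSLG n F)) :=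
  (injective_iff_map_eq_one _).mpr fun σ h =>
    (eq_of_conj_field_eq_one hn (g := 1) (σ := σ) (by rw [map_one, one_mul, h])).1

theorem iotaAut_ne (hn : 3 ≤ n) (g : GL (Fin n) F) (σ : F ≃+* F) :
    (iotaAut : MulAut (PSLG n F)) ≠ conjAut g * fieldAut σ := by
  intro h
  have hn1 : 1 ≤ n := by omega
  have key : ∀ i j : Fin n, i ≠ j →
      (g : Matrix (Fin n) (Fin n) F) * vecMulVec (ev i) (ev j) *
        ((g⁻¹ : GL (Fin n) F) : Matrix (Fin n) (Fin n) F) = -(vecMulVec (ev j) (ev i)) := by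
    intro i j hij
    have hd := ev_dot (F := F) j i hij.symm
    have hd2 := ev_dot (F := F) i j hij
    have hd' : (ev j ᵥ* ((g⁻¹ : GL (Fin n) F) : Matrix (Fin n) (Fin n) F)) ⬝ᵥ
        ((g : Matrix (Fin n) (Fin n) F) *ᵥ ev i) = 0 := by rw [dot_conj]; exact hd
    have e := DFunLike.congr_fun h (rootEl (ev i) (ev j) 1)
    rw [MulAut.mul_apply, fieldAut_rootEl_ev σ hij, conjAut_rootEl _ hd, iotaAut_rootEl hd,
      map_one] at e
    have e1 := congrArg Subtype.val
      (unipotent_mk_inj hn1 (slRoot_sub_one_sq hd2 _) (slRoot_sub_one_sq hd' _) e)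
    rw [slRoot_coe hd', slRoot_coe hd2, add_right_inj, neg_smul, one_smul, one_smul] at e1
    rw [mul_vecMulVec, vecMulVec_mul]
    exact e1.symm
  set i : Fin n := ⟨0, by omega⟩
  set j : Fin n := ⟨1, by omega⟩
  set k : Fin n := ⟨2, by omega⟩
  have hij : i ≠ j := by simp [i, j, Fin.ext_iff]
  have hik : i ≠ k := by simp [i, k, Fin.ext_iff]
  have hjk : j ≠ k := by simp [j, k, Fin.ext_iff]
  have e1 := key i j hij
  have e2 := key i k hik
  have e3 := congrFun (congrFun e1 j) i
  have e5 := congrFun (congrFun e2 j) i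
  have e6 := congrFun (congrFun e2 k) i
  have e4 := congrFun (congrFun e1 k) i
  rw [mul_vecMulVec, vecMulVec_mul] at e3 e4 e5 e6
  simp [vecMulVec_apply, ev, hjk, hjk.symm] at e3 e4 e5 e6
  rcases e5 with h1 | h1
  · rw [h1] at e3; simp at e3
  · rw [h1] at e6; simp at e6

end CfsgLib.AutPSL
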