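import Cfsg.Agent.Lib.AutPSL.Predicates
import Cfsg.Agent.Lib.AutPSL.Kernel
import Cfsg.Agent.Lib.AutPSL.FieldGalois
import Cfsg.Agent.Lib.AutPSL.Split

/-!
The cosets `PGL_n · x` for field and graph-field automorphisms `x` of prime order.
-/

set_option autoImplicit false

namespace CfsgLib.AutPSL

open Matrix CfsgLib.FieldGalois

variable {n : ℕ} {F : Type*} [Field F]

theorem conj_field_pow (σ : F ≃+* F) (g : GL (Fin n) F) (k : ℕ) :
    (conjAut g * fieldAut σ) ^ k = conjAut (cocy σ g k) * fieldAut (σ ^ k) := by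
  induction k with
  | zero => simp [cocy]
  | succ k ih =>
    rw [pow_succ' (conjAut g * fieldAut σ), ih, cocy, map_mul, pow_succ' σ, map_mul fieldAut]
    show conjAut g * fieldAut σ * (conjAut (cocy σ g k) * fieldAut (σ ^ k)) = _
    calc conjAut g * fieldAut σ * (conjAut (cocy σ g k) * fieldAut (σ ^ k))
        = conjAut g * (fieldAut σ * conjAut (cocy σ g k)) * fieldAut (σ ^ k) := by group
      _ = _ := by rw [fieldAut_mul_conjAut]; simp only [glField, mul_assoc]

theorem glField_pow_succ (σ : F ≃+* F) (g : GL (Fin n) F) (k : ℕ) :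
    glField σ (glField (σ ^ k) g) = glField (σ ^ (k + 1)) g := by
  apply Units.ext
  rw [glField_coe, glField_coe, glField_coe, Matrix.map_map, pow_succ']
  rfl

theorem cocy_succ_right (σ : F ≃+* F) (g : GL (Fin n) F) (k : ℕ) :
    cocy σ g (k + 1) = cocy σ g k * glField (σ ^ k) g := by
  induction k with
  | zero =>
    simp only [cocy, map_one, mul_one, one_mul, pow_zero]
    apply Units.ext; rw [glField_coe]; rfl
  | succ k ih =>
    calc cocy σ g (k + 1 + 1) = g * glField σ (cocy σ g (k + 1)) := rfl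
      _ = g * glField σ (cocy σ g k) * glField σ (glField (σ ^ k) g) := by
          rw [ih, map_mul, mul_assoc]
      _ = cocy σ g (k + 1) * glField (σ ^ (k + 1)) g := by rw [glField_pow_succ]; rfl

theorem cocy_scalar_mul (σ : F ≃+* F) (x : Fˣ) (g : GL (Fin n) F) (k : ℕ) :
    cocy σ (Matrix.GeneralLinearGroup.scalar (Fin n) x * g) k =
      Matrix.GeneralLinearGroup.scalar (Fin n) (∏ i ∈ Finset.range k, Units.map (σ ^ i).toMonoidHom x) *
        cocy σ g k := by
  induction k with
  | zero => simp [cocy]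
  | succ k ih =>
    show _ * glField σ (cocy σ _ k) = _ * (g * glField σ (cocy σ g k))
    rw [ih, map_mul, glField_scalar, Finset.prod_range_succ']
    set P : Fˣ := ∏ i ∈ Finset.range k, Units.map (σ ^ i).toMonoidHom x with hP
    have e : (∏ i ∈ Finset.range k, Units.map (σ ^ (i + 1)).toMonoidHom x) *
        Units.map (σ ^ 0).toMonoidHom x = x * Units.map σ.toMonoidHom P := by
      rw [mul_comm, hP, map_prod]
      congr 1
      exact Finset.prod_congr rfl fun i _ => by ext; rw [pow_succ']; rfl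
    rw [e, map_mul]
    calc Matrix.GeneralLinearGroup.scalar (Fin n) x * g *
          (Matrix.GeneralLinearGroup.scalar (Fin n) (Units.map σ.toMonoidHom P) * glField σ (cocy σ g k))
        = Matrix.GeneralLinearGroup.scalar (Fin n) x *
          (g * Matrix.GeneralLinearGroup.scalar (Fin n) (Units.map σ.toMonoidHom P)) *
            glField σ (cocy σ g k) := by group
      _ = Matrix.GeneralLinearGroup.scalar (Fin n) x *
          (Matrix.GeneralLinearGroup.scalar (Fin n) (Units.map σ.toMonoidHom P) * g) *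
            glField σ (cocy σ g k) := by rw [← scalar_mul_comm _ g]
      _ = _ := by group

theorem scalar_injective (hn : 1 ≤ n) {u v : Fˣ}
    (h : Matrix.GeneralLinearGroup.scalar (Fin n) u = Matrix.GeneralLinearGroup.scalar (Fin n) v) :
    u = v := by
  have := congrArg (fun g : GL (Fin n) F => g.val ⟨0, hn⟩ ⟨0, hn⟩) h
  simp at this
  exact Units.ext this

theorem scalar_cocy_fixed [Finite F] (hn : 1 ≤ n) {σ : F ≃+* F} {g : GL (Fin n) F} {c : Fˣ}
    (h : cocy σ g (orderOf σ) = Matrix.GeneralLinearGroup.scalar (Fin n) c) : σ (c : F) = c := by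
  have h1 : g * glField σ (cocy σ g (orderOf σ)) =
      cocy σ g (orderOf σ) * glField (σ ^ orderOf σ) g := cocy_succ_right σ g (orderOf σ)
  have h2 : glField (σ ^ orderOf σ) g = g := by
    apply Units.ext; rw [glField_coe, pow_orderOf_eq_one]; rfl
  rw [h2, h, glField_scalar, ← scalar_mul_comm, mul_left_inj] at h1
  exact congrArg Units.val (scalar_injective hn h1)

/-- An element of order dividing `r` in the coset of a standard field automorphism of order `r`. -/
theorem conj_of_pow_eq_one [Finite F] (hn : 2 ≤ n) (σ : F ≃+* F) (g : GL (Fin n) F)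
    (h : (conjAut g * fieldAut σ) ^ orderOf σ = 1) :
    ∃ k : GL (Fin n) F, conjAut g * fieldAut σ = conjAut k * fieldAut σ * (conjAut k)⁻¹ := by
  rw [conj_field_pow, pow_orderOf_eq_one, map_one, mul_one] at h
  obtain ⟨c, hc⟩ := (conjAut_eq_one_iff hn).mp h
  have hfix := scalar_cocy_fixed (le_trans one_le_two hn) hc
  obtain ⟨x, hx⟩ := exists_norm_eq σ (c := c⁻¹)
    (by rw [Units.val_inv_eq_inv_val, map_inv₀, hfix])
  set g' := Matrix.GeneralLinearGroup.scalar (Fin n) x * g with hg'
  have hg'1 : cocy σ g' (orderOf σ) = 1 := by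
    rw [hg', cocy_scalar_mul, Finset.prod_range (fun i => Units.map (σ ^ i).toMonoidHom x),
      ← normU_apply, hx, hc, ← map_mul, inv_mul_cancel, map_one]
  obtain ⟨k, hk⟩ := exists_of_cocy_eq_one σ g' hg'1
  refine ⟨k, ?_⟩
  have e : conjAut g = conjAut g' := by rw [hg', map_mul, conjAut_scalar, one_mul]
  have hgk : g' = k * (glField σ k)⁻¹ := eq_mul_inv_of_mul_eq hk
  rw [e, hgk, map_mul, map_inv, mul_assoc (conjAut k) (fieldAut σ), ← map_inv conjAut k,
    fieldAut_mul_conjAut, map_inv, map_inv]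
  group

theorem commute_fieldAut_field [Finite F] (σ τ : F ≃+* F) :
    Commute (fieldAut τ : MulAut (PSLG n F)) (fieldAut σ) :=
  (commute_ringAut τ σ).map fieldAut

theorem commute_iota_field (σ : F ≃+* F) :
    Commute (iotaAut : MulAut (PSLG n F)) (fieldAut σ) := iotaAut_mul_fieldAut σ

/-- A field automorphism of `PSL_n` is `PGL_n`-conjugate to a standard one. -/
theorem fieldClass_normal_form [Fintype F] (hn : 2 ≤ n) {x : MulAut (PSLG n F)}
    (hx : Cfsg.IsFieldAutClassPSL x) :
    ∃ (σ : F ≃+* F) (b : GL (Fin n) F), σ ≠ 1 ∧ orderOf σ = orderOf x ∧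
      x = conjAut b * fieldAut σ * (conjAut b)⁻¹ := by
  obtain ⟨α, σ, hσ, h⟩ := hx
  rw [isStdField_iff] at h
  obtain ⟨b, τ, hb⟩ := aut_psl_structure hn α⁻¹
  have hx : x = α⁻¹ * fieldAut σ * α := by rw [← h]; group
  refine ⟨σ, b, hσ, ?_, ?_⟩
  · rw [← orderOf_injective fieldAut (fieldAut_injective hn) σ, ← h]
    exact orderOf_injective (MulAut.conj α).toMonoidHom (MulAut.conj α).injective x
  · rw [hx]
    obtain ⟨d, hdc, hd⟩ : ∃ d : MulAut (PSLG n F), Commute d (fieldAut σ) ∧ α⁻¹ = conjAut b * d := by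
      rcases hb with e | e
      · exact ⟨_, commute_fieldAut_field σ τ, e⟩
      · exact ⟨_, (commute_fieldAut_field σ τ).mul_left (commute_iota_field σ),
          e.trans (mul_assoc _ _ _)⟩
    have : α = d⁻¹ * (conjAut b)⁻¹ := by rw [← _root_.mul_inv_rev, ← hd, inv_inv]
    rw [hd, this]
    calc conjAut b * d * fieldAut σ * (d⁻¹ * (conjAut b)⁻¹)
        = conjAut b * (d * fieldAut σ) * d⁻¹ * (conjAut b)⁻¹ := by group
      _ = conjAut b * (fieldAut σ * d) * d⁻¹ * (conjAut b)⁻¹ := by rw [hdc.eq]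
      _ = _ := by group

/-- A graph-field automorphism of prime order is `PGL_n`-conjugate to the standard involutory one. -/
theorem graphFieldClass_normal_form [Fintype F] {x : MulAut (PSLG n F)}
    (hx : Cfsg.IsGraphFieldAutClassPSL x) (hp : (orderOf x).Prime) :
    ∃ (σ : F ≃+* F) (b : GL (Fin n) F), orderOf σ = 2 ∧ orderOf x = 2 ∧
      x = conjAut b * (fieldAut σ * iotaAut) * (conjAut b)⁻¹ := by
  obtain ⟨hn, α, φ, γ, σ, hσ, hφ, hγ, h⟩ := hx
  rw [isStdField_iff] at hφ
  rw [isInverseTranspose_iff] at hγ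
  subst hφ hγ
  obtain ⟨b, τ, hb⟩ := aut_psl_structure (by omega : 2 ≤ n) α⁻¹
  have hord : orderOf (fieldAut σ * iotaAut : MulAut (PSLG n F)) = orderOf x := by
    rw [← h]; exact orderOf_injective (MulAut.conj α).toMonoidHom (MulAut.conj α).injective x
  have hr2 : orderOf x = 2 := by
    by_contra h2
    have hodd : Odd (orderOf x) := hp.odd_of_ne_two h2
    have h1 := pow_orderOf_eq_one (fieldAut σ * iotaAut : MulAut (PSLG n F))
    rw [hord, (commute_iota_field σ).symm.mul_pow, ← map_pow] at h1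
    obtain ⟨m, hm⟩ := hodd
    have hi : (iotaAut : MulAut (PSLG n F)) ^ orderOf x = iotaAut := by
      rw [hm, pow_succ, pow_mul, pow_two, iotaAut_sq, one_pow, one_mul]
    rw [hi] at h1
    have h3 := eq_inv_of_mul_eq_one_right h1
    rw [← map_inv fieldAut] at h3
    exact iotaAut_ne hn 1 _ (h3.trans (by rw [map_one, one_mul]))
  have hσ2 : orderOf σ = 2 := by
    refine (orderOf_eq_prime_iff (p := 2)).mpr ⟨?_, hσ⟩
    apply fieldAut_injective (n := n) (by omega)
    have h1 := pow_orderOf_eq_one (fieldAut σ * iotaAut : MulAut (PSLG n F))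
    rw [hord, hr2, (commute_iota_field σ).symm.mul_pow, pow_two iotaAut, iotaAut_sq, mul_one] at h1
    rw [map_pow, h1, map_one]
  refine ⟨σ, b, hσ2, hr2, ?_⟩
  have hx' : x = α⁻¹ * (fieldAut σ * iotaAut) * α := by rw [← h]; group
  obtain ⟨d, hdc, hd⟩ : ∃ d : MulAut (PSLG n F),
      Commute d (fieldAut σ * iotaAut) ∧ α⁻¹ = conjAut b * d := by
    rcases hb with e | e
    · exact ⟨_, (commute_fieldAut_field σ τ).mul_right (commute_iota_field τ).symm, e⟩
    · exact ⟨_, ((commute_fieldAut_field σ τ).mul_left (commute_iota_field σ)).mul_right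
        ((commute_iota_field τ).symm.mul_left (Commute.refl _)), e.trans (mul_assoc _ _ _)⟩
  have hαe : α = d⁻¹ * (conjAut b)⁻¹ := by rw [← _root_.mul_inv_rev, ← hd, inv_inv]
  rw [hx', hd, hαe]
  calc conjAut b * d * (fieldAut σ * iotaAut) * (d⁻¹ * (conjAut b)⁻¹)
      = conjAut b * (d * (fieldAut σ * iotaAut)) * d⁻¹ * (conjAut b)⁻¹ := by group
    _ = conjAut b * ((fieldAut σ * iotaAut) * d) * d⁻¹ * (conjAut b)⁻¹ := by rw [hdc.eq]
    _ = _ := by group

theorem inner_eq_map : Cfsg.Inn (PSLG n F) =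
    (((powMonoidHom n : Fˣ →* Fˣ).range).comap
      (Matrix.GeneralLinearGroup.det : GL (Fin n) F →* Fˣ)).map conjAut := by
  have conv : ∀ s : SLG n F, conjAut (Matrix.SpecialLinearGroup.toGL s) =
      MulAut.conj (QuotientGroup.mk s : PSLG n F) := by
    intro s
    apply MulEquiv.ext
    intro x
    induction x using QuotientGroup.induction_on with
    | H t =>
      rw [conjAut_mk, MulAut.conj_apply, ← QuotientGroup.mk_inv, ← QuotientGroup.mk_mul,
        ← QuotientGroup.mk_mul]
      rfl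
  ext β
  constructor
  · rintro ⟨x, rfl⟩
    obtain ⟨s, rfl⟩ := QuotientGroup.mk_surjective x
    refine ⟨Matrix.SpecialLinearGroup.toGL s, ⟨1, ?_⟩, conv s⟩
    rw [map_one]
    exact (Units.ext s.2).symm
  · rintro ⟨g, ⟨u, hu⟩, rfl⟩
    have hdet : ((Matrix.GeneralLinearGroup.scalar (Fin n) u)⁻¹ * g : GL (Fin n) F).val.det = 1 := by
      have : Matrix.GeneralLinearGroup.det ((Matrix.GeneralLinearGroup.scalar (Fin n) u)⁻¹ * g) = 1 := by
        rw [map_mul, map_inv, inv_mul_eq_one, ← hu]
        ext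
        simp
      exact congrArg Units.val this
    refine ⟨QuotientGroup.mk (⟨_, hdet⟩ : Matrix.SpecialLinearGroup (Fin n) F), ?_⟩
    refine (conv (⟨_, hdet⟩ : Matrix.SpecialLinearGroup (Fin n) F)).symm.trans ?_
    rw [show Matrix.SpecialLinearGroup.toGL ⟨_, hdet⟩ =
      (Matrix.GeneralLinearGroup.scalar (Fin n) u)⁻¹ * g from Units.ext rfl]
    rw [map_mul, map_inv, conjAut_scalar, inv_one, one_mul]

end CfsgLib.AutPSL
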