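import Mathlib

/-!
An additive map of a finite field that fixes `1` and commutes with inversion is a ring homomorphism.
-/

set_option autoImplicit false

namespace CfsgLib.AutPSL

variable {F : Type*} [Field F]

theorem mul_of_inv_compat [Finite F] (f : F → F) (hadd : ∀ a b, f (a + b) = f a + f b) (h1 : f 1 = 1)
    (hinv : ∀ a, f a⁻¹ = (f a)⁻¹) (hinj : Function.Injective f) (a b : F) :
    f (a * b) = f a * f b := by
  have h0 : f 0 = 0 := by
    have := hadd 0 0
    rw [add_zero] at this
    exact add_eq_left.mp this.symm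
  have hneg : ∀ a, f (-a) = -f a := fun a => by
    have := hadd a (-a)
    rw [add_neg_cancel, h0] at this
    exact (neg_eq_of_add_eq_zero_right this.symm).symm
  have hsub : ∀ a b, f (a - b) = f a - f b := fun a b => by
    rw [sub_eq_add_neg, hadd, hneg, sub_eq_add_neg]
  have hua : ∀ a b : F, a ≠ 0 → b ≠ 0 → a * b ≠ 1 →
      a - (a⁻¹ + (b⁻¹ - a)⁻¹)⁻¹ = a * a * b := by
    intro a b ha hb hab
    have h1' : (1 : F) - a * b ≠ 0 := sub_ne_zero.mpr (Ne.symm hab)
    have e1 : (b⁻¹ - a)⁻¹ = b / (1 - a * b) := by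
      rw [inv_eq_one_div b, div_sub' hb, inv_div, mul_comm b a]
    have e2 : a⁻¹ + b / (1 - a * b) = 1 / (a * (1 - a * b)) := by
      rw [eq_div_iff (mul_ne_zero ha h1')]
      field_simp
      ring
    rw [e1, e2, one_div, inv_inv]
    ring
  have hsq : ∀ a b : F, f (a * a * b) = f a * f a * f b := by
    intro a b
    rcases eq_or_ne a 0 with ha | ha
    · simp [ha, h0]
    rcases eq_or_ne b 0 with hb | hb
    · simp [hb, h0]
    have hfa : f a ≠ 0 := fun e => ha (hinj (e.trans h0.symm))
    have hfb : f b ≠ 0 := fun e => hb (hinj (e.trans h0.symm))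
    by_cases hab : a * b = 1
    · have hb' : b = a⁻¹ := eq_inv_of_mul_eq_one_right hab
      rw [mul_assoc, hab, mul_one, hb', hinv, mul_assoc, mul_inv_cancel₀ hfa, mul_one]
    · have hfab : f a * f b ≠ 1 := fun e => hab (by
        have hb' : f b = f a⁻¹ := by rw [hinv]; exact eq_inv_of_mul_eq_one_right e
        rw [hinj hb', mul_inv_cancel₀ ha])
      rw [← hua a b ha hb hab, ← hua _ _ hfa hfb hfab, hsub, hinv, hadd, hinv, hinv, hsub, hinv]
  have hsq1 : ∀ a, f (a * a) = f a * f a := fun a => by simpa [h1] using hsq a 1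
  by_cases h2 : (2 : F) = 0
  · have : CharP F 2 := CharTwo.of_one_ne_zero_of_two_eq_zero one_ne_zero h2
    have := Fintype.ofFinite F
    obtain ⟨c, rfl⟩ : ∃ c, c * c = a := by
      have hsq' : IsSquare a := FiniteField.isSquare_of_char_two (ringChar.eq F 2) a
      obtain ⟨c, hc⟩ := hsq'
      exact ⟨c, hc.symm⟩
    rw [hsq, hsq1]
  · have e : f ((a + b) * (a + b)) = f (a * a) + f (a * b) + f (a * b) + f (b * b) := by
      rw [← hadd, ← hadd, ← hadd]; congr 1; ring
    rw [hsq1, hsq1, hsq1, hadd] at e
    apply mul_left_cancel₀ h2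
    linear_combination -e

/-- The ring automorphism from a multiplicative additive injection of a finite field. -/
noncomputable def ringEquivOfFun [Finite F] (f : F → F) (hadd : ∀ a b, f (a + b) = f a + f b)
    (h1 : f 1 = 1) (hmul : ∀ a b, f (a * b) = f a * f b) : F ≃+* F :=
  let g : F →+* F :=
    { toFun := f, map_one' := h1, map_mul' := hmul
      map_zero' := by simpa using hadd 0 0
      map_add' := hadd }
  RingEquiv.ofBijective g (Finite.injective_iff_bijective.mp g.injective)

theorem ringEquivOfFun_apply [Finite F] (f : F → F) (hadd : ∀ a b, f (a + b) = f a + f b)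
    (h1 : f 1 = 1) (hmul : ∀ a b, f (a * b) = f a * f b) (a : F) :
    ringEquivOfFun f hadd h1 hmul a = f a := rfl

end CfsgLib.AutPSL
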