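import Cfsg.Agent.Lib.AutPSL.Unitriangular
import Cfsg.Agent.Lib.AutPSL.Hua
import Cfsg.Agent.Classical.SLGen

/-!
Structure of `Aut(PSL_n(q))`, `n ≥ 2`: every automorphism is conjugation by an invertible matrix,
times a field automorphism, times a power of inverse-transpose.
-/

set_option autoImplicit false

namespace CfsgLib.AutPSL

open Matrix
open scoped Pointwise

variable {n : ℕ} {F : Type*} [Field F]

/-- `i`-th standard vector. -/
abbrev ev (i : Fin n) : Fin n → F := Pi.single i 1

theorem ev_ne_zero (i : Fin n) : (ev i : Fin n → F) ≠ 0 := by simp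

theorem ev_dot_self (i : Fin n) : (ev i : Fin n → F) ⬝ᵥ ev i = 1 := by simp

theorem ev_dot (i j : Fin n) (h : i ≠ j) : (ev i : Fin n → F) ⬝ᵥ ev j = 0 := by simp [h]

/-- A pair is standard if it is a `GL`-translate of (first vector, last covector). -/
def StdPair (hn : 2 ≤ n) (v φ : Fin n → F) : Prop :=
  ∃ g : GL (Fin n) F,
    v = (g : Matrix (Fin n) (Fin n) F) *ᵥ ev ⟨0, by omega⟩ ∧
    φ = ev ⟨n - 1, by omega⟩ ᵥ* ((g⁻¹ : GL (Fin n) F) : Matrix (Fin n) (Fin n) F)

theorem StdPair.conj {hn : 2 ≤ n} {v φ : Fin n → F} (h : StdPair hn v φ) (g : GL (Fin n) F) :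
    StdPair hn ((g : Matrix (Fin n) (Fin n) F) *ᵥ v)
      (φ ᵥ* ((g⁻¹ : GL (Fin n) F) : Matrix (Fin n) (Fin n) F)) := by
  obtain ⟨k, rfl, rfl⟩ := h
  refine ⟨g * k, ?_, ?_⟩
  · rw [Matrix.mulVec_mulVec, Units.val_mul]
  · rw [Matrix.vecMul_vecMul, _root_.mul_inv_rev, Units.val_mul]

/-- A permutation matrix as an invertible matrix. -/
def permGL (π : Equiv.Perm (Fin n)) : GL (Fin n) F :=
  ⟨π.permMatrix F, π⁻¹.permMatrix F, by rw [← Matrix.permMatrix_mul]; simp,
    by rw [← Matrix.permMatrix_mul]; simp⟩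

theorem stdPair_single {hn : 2 ≤ n} {i j : Fin n} (h : i ≠ j) :
    StdPair (F := F) hn (ev i) (ev j) := by
  set z : Fin n := ⟨0, by omega⟩
  set l : Fin n := ⟨n - 1, by omega⟩
  have hzl : z ≠ l := by simp [z, l, Fin.ext_iff]; omega
  obtain ⟨τ, hτz, hτl⟩ : ∃ τ : Equiv.Perm (Fin n), τ i = z ∧ τ j = l := by
    refine ⟨Equiv.swap (Equiv.swap i z j) l * Equiv.swap i z, ?_, ?_⟩
    · rw [Equiv.Perm.mul_apply, Equiv.swap_apply_left, Equiv.swap_apply_of_ne_of_ne ?_ hzl]
      intro e
      have := (Equiv.swap i z).injective ((Equiv.swap_apply_left i z).trans e)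
      exact h this
    · rw [Equiv.Perm.mul_apply, Equiv.swap_apply_left]
  refine ⟨permGL τ, ?_, ?_⟩
  · show ev i = τ.permMatrix F *ᵥ ev z
    rw [Matrix.permMatrix_mulVec]
    funext k
    simp only [ev, Function.comp_apply, Pi.single_apply]
    rw [← hτz]; simp [τ.injective.eq_iff]
  · show ev j = ev l ᵥ* τ⁻¹.permMatrix F
    rw [Matrix.vecMul_permMatrix]
    funext k
    simp only [ev, Function.comp_apply, Pi.single_apply, ← hτl]
    simp [τ.injective.eq_iff, Equiv.Perm.inv_def]

theorem StdPair.facts {hn : 2 ≤ n} {v φ : Fin n → F} (h : StdPair hn v φ) :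
    v ≠ 0 ∧ φ ≠ 0 ∧ φ ⬝ᵥ v = 0 := by
  obtain ⟨g, rfl, rfl⟩ := h
  refine ⟨?_, ?_, ?_⟩
  · intro e
    apply ev_ne_zero (F := F) (⟨0, by omega⟩ : Fin n)
    have := congrArg (((g⁻¹ : GL (Fin n) F) : Matrix (Fin n) (Fin n) F) *ᵥ ·) e
    simpa [Matrix.mulVec_mulVec, -Matrix.mulVec_single_one, -Matrix.mulVec_single] using this
  · intro e
    apply ev_ne_zero (F := F) (⟨n - 1, by omega⟩ : Fin n)
    have := congrArg (· ᵥ* ((g : GL (Fin n) F) : Matrix (Fin n) (Fin n) F)) e
    simpa [Matrix.vecMul_vecMul, -Matrix.single_one_vecMul, -Matrix.single_vecMul] using this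
  · rw [dot_conj]; exact ev_dot _ _ (by simp [Fin.ext_iff]; omega)

/-- A root pair. -/
def IsPair (v φ : Fin n → F) : Prop := v ≠ 0 ∧ φ ≠ 0 ∧ φ ⬝ᵥ v = 0

variable [Fintype F]

theorem exists_image_first_last (hn : 2 ≤ n) (β : MulAut (PSLG n F)) :
    ∃ w ψ : Fin n → F, IsPair w ψ ∧ ∀ a : F, ∃ b : F,
      β (rootEl (ev ⟨0, by omega⟩) (ev ⟨n - 1, by omega⟩) a) = rootEl w ψ b := by
  obtain ⟨p, hp⟩ := CharP.exists F
  have : Fact p.Prime := ⟨CharP.char_is_prime F p⟩
  have hn1 : 1 ≤ n := le_trans one_le_two hn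
  set P := sylowT (F := F) hn1 p
  obtain ⟨g, hg⟩ := MulAction.exists_smul_eq (PSLG n F) P (β • P)
  have hmem : ∀ y, y ∈ P ↔ (MulAut.conj g)⁻¹ (β y) ∈ P := by
    intro y
    have h1 : β y ∈ (β • P : Sylow p (PSLG n F)) ↔ y ∈ P :=
      Subgroup.smul_mem_pointwise_smul_iff (a := β) (S := (P : Subgroup (PSLG n F)))
    rw [← h1, ← hg]
    exact Subgroup.mem_pointwise_smul_iff_inv_smul_mem
  set z : Fin n := ⟨0, by omega⟩
  set l : Fin n := ⟨n - 1, by omega⟩
  have h0 : ∀ i : Fin n, z ≤ i := fun i => by simp [z, Fin.le_def]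
  have hl : ∀ i : Fin n, i ≤ l := fun i => by simp [l, Fin.le_def]; omega
  have hzl : z ≠ l := by simp [z, l, Fin.ext_iff]; omega
  obtain ⟨s, rfl⟩ := QuotientGroup.mk_surjective g
  have hdot : (ev l : Fin n → F) ⬝ᵥ ev z = 0 := ev_dot _ _ hzl.symm
  refine ⟨s.1 *ᵥ ev z, ev l ᵥ* (s⁻¹ : SLG n F).1, ?_, fun a => ?_⟩
  · have hstd : StdPair (F := F) hn (ev z) (ev l) := ⟨1, by rw [Units.val_one, Matrix.one_mulVec], by rw [inv_one, Units.val_one, Matrix.vecMul_one]⟩
    have hc := (hstd.conj (Matrix.SpecialLinearGroup.toGL s)).facts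
    rw [← map_inv Matrix.SpecialLinearGroup.toGL s] at hc
    exact hc
  · obtain ⟨hx1, hx2⟩ := (center_sylowT (hn := hn) (p := p) h0 hl _).mpr ⟨a, rfl⟩
    have hy := (center_sylowT (hn := hn) (p := p) (F := F) h0 hl
      ((MulAut.conj (QuotientGroup.mk s))⁻¹ (β (rootEl (ev z) (ev l) a)))).mp
      ⟨(hmem _).mp hx1, fun y hy => by
        obtain ⟨y', rfl⟩ := ((β.trans (MulAut.conj (QuotientGroup.mk s : PSLG n F))⁻¹)).surjective y
        exact ((hx2 y' ((hmem y').mpr hy)).map β.toMonoidHom).map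
          (MulAut.conj (QuotientGroup.mk s : PSLG n F))⁻¹.toMonoidHom⟩
    obtain ⟨b, hb⟩ := hy
    refine ⟨b, ?_⟩
    have hb' : β (rootEl (ev z) (ev l) a) = MulAut.conj (QuotientGroup.mk s : PSLG n F)
        (rootEl (ev z) (ev l) b) := by rw [← hb, MulAut.apply_inv_self]
    rw [hb']
    have hconj : MulAut.conj (QuotientGroup.mk s : PSLG n F) (rootEl (ev z) (ev l) b) =
        conjAut (Matrix.SpecialLinearGroup.toGL s) (rootEl (ev z) (ev l) b) := by
      rw [rootEl, conjAut_mk, MulAut.conj_apply, ← QuotientGroup.mk_inv, ← QuotientGroup.mk_mul,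
        ← QuotientGroup.mk_mul]
      rfl
    rw [hconj, conjAut_rootEl _ hdot, ← map_inv]
    rfl

theorem exists_image (hn : 2 ≤ n) (β : MulAut (PSLG n F)) {v φ : Fin n → F} (h : StdPair hn v φ) :
    ∃ w ψ : Fin n → F, IsPair w ψ ∧ ∀ a : F, ∃ b : F, β (rootEl v φ a) = rootEl w ψ b := by
  obtain ⟨g, rfl, rfl⟩ := h
  obtain ⟨w, ψ, hp, hb⟩ := exists_image_first_last hn (β * conjAut g)
  refine ⟨w, ψ, hp, fun a => ?_⟩
  obtain ⟨b, hb⟩ := hb a
  refine ⟨b, ?_⟩
  rw [← hb, MulAut.mul_apply, conjAut_rootEl _ (ev_dot _ _ (by simp [Fin.ext_iff]; omega))]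

/-- Image data of `β` on the coordinate root groups. -/
structure RootImage (β : MulAut (PSLG n F)) (v φ : Fin n → Fin n → Fin n → F) : Prop where
  pair : ∀ i j, i ≠ j → IsPair (v i j) (φ i j)
  img : ∀ i j, i ≠ j → ∀ a : F, ∃ b : F, β (rootEl (ev i) (ev j) a) = rootEl (v i j) (φ i j) b

theorem exists_rootImage (hn : 2 ≤ n) (β : MulAut (PSLG n F)) :
    ∃ v φ, RootImage β v φ := by
  classical
  have h : ∀ i j : Fin n, ∃ w ψ : Fin n → F, i ≠ j → IsPair w ψ ∧
      ∀ a : F, ∃ b : F, β (rootEl (ev i) (ev j) a) = rootEl w ψ b := by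
    intro i j
    by_cases hij : i = j
    · exact ⟨0, 0, fun e => absurd hij e⟩
    · obtain ⟨w, ψ, h⟩ := exists_image hn β (stdPair_single (F := F) hij)
      exact ⟨w, ψ, fun _ => h⟩
  choose v φ h using h
  exact ⟨v, φ, ⟨fun i j hij => (h i j hij).1, fun i j hij => (h i j hij).2⟩⟩

section data

variable {β : MulAut (PSLG n F)} {v φ : Fin n → Fin n → Fin n → F} (D : RootImage β v φ)

omit [Fintype F] in
include D in
theorem RootImage.img_one (hn : 1 ≤ n) {i j : Fin n} (hij : i ≠ j) :
    ∃ b : F, b ≠ 0 ∧ β (rootEl (ev i) (ev j) 1) = rootEl (v i j) (φ i j) b := by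
  obtain ⟨b, hb⟩ := D.img i j hij 1
  refine ⟨b, ?_, hb⟩
  rintro rfl
  rw [rootEl_zero] at hb
  exact rootEl_ne_one hn (ev_ne_zero i) (ev_ne_zero j) (ev_dot _ _ hij.symm) one_ne_zero
    ((map_eq_one_iff β β.injective).mp hb)

omit [Fintype F] in
include D in
theorem RootImage.commute_iff (hn : 1 ≤ n) {i j k l : Fin n} (hij : i ≠ j) (hkl : k ≠ l) :
    (φ i j ⬝ᵥ v k l = 0 ∧ φ k l ⬝ᵥ v i j = 0) ↔ (j ≠ k ∧ l ≠ i) := by
  obtain ⟨b, hb, hbe⟩ := D.img_one hn hij
  obtain ⟨c, hc, hce⟩ := D.img_one hn hkl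
  have e1 := commute_rootEl_iff hn (D.pair i j hij).1 (D.pair i j hij).2.1 (D.pair k l hkl).1
    (D.pair k l hkl).2.1 (D.pair i j hij).2.2 (D.pair k l hkl).2.2 hb hc
  rw [← e1, ← hbe, ← hce]
  have e2 := commute_rootEl_iff hn (ev_ne_zero (F := F) i) (ev_ne_zero j) (ev_ne_zero k)
    (ev_ne_zero l) (ev_dot _ _ hij.symm) (ev_dot _ _ hkl.symm) one_ne_zero one_ne_zero
  have e3 : Commute (β (rootEl (ev i) (ev j) (1 : F))) (β (rootEl (ev k) (ev l) 1)) ↔
      Commute (rootEl (ev i) (ev j) (1 : F)) (rootEl (ev k) (ev l) 1) := by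
    constructor
    · intro h; exact β.injective (by rw [map_mul, map_mul]; exact h)
    · intro h; exact h.map β.toMonoidHom
  rw [e3, e2]
  constructor
  · rintro ⟨h1, h2⟩
    exact ⟨fun e => by subst e; simp [ev_dot_self] at h1, fun e => by subst e; simp [ev_dot_self] at h2⟩
  · rintro ⟨h1, h2⟩
    exact ⟨ev_dot _ _ h1, ev_dot _ _ h2⟩

omit [Fintype F] in
include D in
/-- Two pairs with parallel vectors and covectors commute with the same root groups. -/
theorem RootImage.not_both (hn : 1 ≤ n) {i j k l : Fin n} (hij : i ≠ j) (hkl : k ≠ l)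
    {a b : Fin n} (hab : a ≠ b) (h1 : j ≠ a ∧ b ≠ i) (h2 : ¬ (l ≠ a ∧ b ≠ k)) :
    ¬ (Par (v i j) (v k l) ∧ Par (φ i j) (φ k l)) := by
  rintro ⟨⟨c, -, hv⟩, ⟨d, -, hφ⟩⟩
  apply h2
  obtain ⟨e1, e2⟩ := (D.commute_iff hn hij hab).mpr h1
  refine (D.commute_iff hn hkl hab).mp ⟨?_, ?_⟩
  · rw [hφ, smul_dotProduct, e1, smul_zero]
  · rw [hv, dotProduct_smul, e2, smul_zero]

include D in
theorem RootImage.row_par (hn : 2 ≤ n) {i j k : Fin n} (hij : i ≠ j) (hik : i ≠ k) (hjk : j ≠ k) :
    (Par (v i j) (v i k) ∨ Par (φ i j) (φ i k)) ∧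
      ¬ (Par (v i j) (v i k) ∧ Par (φ i j) (φ i k)) := by
  have hn1 : 1 ≤ n := le_trans one_le_two hn
  refine ⟨?_, D.not_both hn1 hij hik (a := k) (b := j) hjk.symm ⟨hjk, hij.symm⟩ (fun h => h.1 rfl)⟩
  have ht : StdPair (F := F) hn (ev i) (ev j + ev k) := by
    set t : GL (Fin n) F := Matrix.SpecialLinearGroup.toGL
      (Matrix.SpecialLinearGroup.transvection hjk.symm (-1 : F)) with hte
    have hh := (stdPair_single (F := F) (hn := hn) hik).conj t
    rw [hte, ← map_inv, Matrix.SpecialLinearGroup.transvection_inv] at hh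
    rw [show ((Matrix.SpecialLinearGroup.toGL (Matrix.SpecialLinearGroup.transvection hjk.symm (-1 : F)) :
        GL (Fin n) F) : Matrix (Fin n) (Fin n) F) = 1 + Matrix.single k j (-1) from rfl,
      show ((Matrix.SpecialLinearGroup.toGL (Matrix.SpecialLinearGroup.transvection hjk.symm (-(-1) : F)) :
        GL (Fin n) F) : Matrix (Fin n) (Fin n) F) = 1 + Matrix.single k j (-(-1)) from rfl,
      neg_neg, Matrix.add_mulVec, Matrix.one_mulVec, Matrix.vecMul_add, Matrix.vecMul_one] at hh
    convert hh using 1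
    · ext r
      simp [ev, Pi.single_apply, Matrix.single_apply, hjk, hij.symm]
    · ext r
      simp [ev, Pi.single_apply, Matrix.single_apply, eq_comm]
      ring
  obtain ⟨w, ψ, hwψ, himg⟩ := exists_image hn β ht
  obtain ⟨b, hb, hbe⟩ := D.img_one hn1 hij
  obtain ⟨c, hc, hce⟩ := D.img_one hn1 hik
  obtain ⟨d, hd⟩ := himg 1
  have hdot : (ev j + ev k : Fin n → F) ⬝ᵥ ev i = 0 := by
    rw [add_dotProduct, ev_dot _ _ hij.symm, ev_dot _ _ hik.symm, add_zero]
  have hprod : rootEl (ev i) (ev j + ev k) (1 : F) =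
      rootEl (ev i) (ev j) 1 * rootEl (ev i) (ev k) 1 := by
    refine congrArg (QuotientGroup.mk : SLG n F → PSLG n F) ?_
    apply Subtype.ext
    simp only [Matrix.SpecialLinearGroup.coe_mul, slRoot_coe hdot, slRoot_coe (ev_dot _ _ hij.symm),
      slRoot_coe (ev_dot _ _ hik.symm), one_smul, mul_add, add_mul,
      one_mul, mul_one, vecMulVec_mul_self_zero (ev_dot _ _ hij.symm),
      vecMulVec_add, add_zero, add_assoc]
  rw [hprod, map_mul, hbe, hce] at hd
  exact par_of_product hn1 (D.pair i j hij).1 (D.pair i j hij).2.1 (D.pair i k hik).1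
    (D.pair i k hik).2.1 (D.pair i j hij).2.2 (D.pair i k hik).2.2 hwψ.2.2 hb hc
    ((commute_rootEl_iff hn1 (D.pair i j hij).1 (D.pair i j hij).2.1 (D.pair i k hik).1
      (D.pair i k hik).2.1 (D.pair i j hij).2.2 (D.pair i k hik).2.2 hb hc).mpr
        ((D.commute_iff hn1 hij hik).mpr ⟨hij.symm, hik.symm⟩)) hd

omit [Fintype F] in
include D in
theorem RootImage.swap : RootImage (β * iotaAut) (fun i j => v j i) (fun i j => φ j i) where
  pair i j h := D.pair j i h.symm
  img i j h a := by
    rw [MulAut.mul_apply, iotaAut_rootEl (ev_dot _ _ h.symm)]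
    exact D.img j i h.symm _

include D in
/-- Images of a row and of a crossing column never share the same kind of line. -/
theorem RootImage.cross (hn : 2 ≤ n) {i j k : Fin n} (hij : i ≠ j) (hik : i ≠ k) (hjk : j ≠ k) :
    ¬ (Par (v i j) (v i k) ∧ Par (v i k) (v j k)) ∧
      ¬ (Par (φ i j) (φ i k) ∧ Par (φ i k) (φ j k)) := by
  have hn1 : 1 ≤ n := le_trans one_le_two hn
  have hno : ¬ (φ i j ⬝ᵥ v j k = 0 ∧ φ j k ⬝ᵥ v i j = 0) := fun h =>
    ((D.commute_iff hn1 hij hjk).mp h).1 rfl
  constructor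
  · rintro ⟨h1, h2⟩
    obtain ⟨c, -, hc⟩ := h1.trans' h2
    apply hno
    refine ⟨by rw [hc, dotProduct_smul, (D.pair i j hij).2.2, smul_zero], ?_⟩
    obtain ⟨c', -, hc'⟩ := (h1.trans' h2).symm'
    rw [hc', dotProduct_smul, (D.pair j k hjk).2.2, smul_zero]
  · rintro ⟨h1, h2⟩
    obtain ⟨c, -, hc⟩ := h1.trans' h2
    apply hno
    refine ⟨?_, by rw [hc, smul_dotProduct, (D.pair i j hij).2.2, smul_zero]⟩
    obtain ⟨c', -, hc'⟩ := (h1.trans' h2).symm'
    rw [hc', smul_dotProduct, (D.pair j k hjk).2.2, smul_zero]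

end data

/-- The rows of the image data share vectors. -/
def RowsPoint (v : Fin n → Fin n → Fin n → F) : Prop :=
  ∀ i j k : Fin n, i ≠ j → i ≠ k → j ≠ k → Par (v i j) (v i k)

theorem par_refl' (v : Fin n → F) : Par v v := ⟨1, one_ne_zero, (one_smul _ _).symm⟩

theorem rows_or_cols (hn : 2 ≤ n) {β : MulAut (PSLG n F)} {v φ : Fin n → Fin n → Fin n → F}
    (D : RootImage β v φ) : RowsPoint v ∨ RowsPoint (fun i j => v j i) := by
  classical
  -- purity of rows
  have pure : ∀ i j k l : Fin n, i ≠ j → i ≠ k → i ≠ l → j ≠ k → j ≠ l →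
      Par (v i j) (v i k) → Par (v i j) (v i l) := by
    intro i j k l hij hik hil hjk hjl h
    rcases eq_or_ne k l with rfl | hkl
    · exact h
    by_contra hn'
    have h1 := (D.row_par hn hij hil hjl).1.resolve_left hn'
    rcases (D.row_par hn hik hil hkl).1 with h2 | h2
    · exact hn' (h.trans' h2)
    · exact (D.row_par hn hij hik hjk).2 ⟨h, h1.trans' h2.symm'⟩
  have step : ∀ i j k : Fin n, i ≠ j → i ≠ k → j ≠ k →
      Par (v i j) (v i k) → Par (v j i) (v j k) := by
    intro i j k hij hik hjk h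
    have h1 : ¬ Par (v i k) (v j k) := fun e => (D.cross hn hij hik hjk).1 ⟨h, e⟩
    have h2 : Par (φ i k) (φ j k) := by
      rcases (D.swap.row_par hn hik.symm hjk.symm hij).1 with h3 | h3
      · exact absurd h3 h1
      · exact h3
    rcases (D.row_par hn hij.symm hjk hik).1 with h3 | h3
    · exact h3
    · exact absurd ⟨h3, h2.symm'⟩ (D.cross hn hij.symm hjk hik).2
  by_cases hall : ∀ i j k : Fin n, i ≠ j → i ≠ k → j ≠ k → Par (v i j) (v i k)
  · exact Or.inl hall
  · refine Or.inr fun i j k hij hik hjk => ?_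
    push Not at hall
    obtain ⟨a, b, c, hab, hac, hbc, hN⟩ := hall
    have row : ∀ x y z : Fin n, x ≠ y → x ≠ z → y ≠ z → Par (v x y) (v x z) →
        ∀ y' z' : Fin n, x ≠ y' → x ≠ z' → y' ≠ z' → Par (v x y') (v x z') := by
      intro x y z hxy hxz hyz h y' z' hxy' hxz' hyz'
      by_cases hy : y' = y
      · subst hy; exact pure x y' z z' hxy hxz hxz' hyz hyz' h
      · have h1 : Par (v x y) (v x y') := pure x y z y' hxy hxz hxy' hyz (Ne.symm hy) h
        exact pure x y' y z' hxy' hxy hxz' hy hyz' h1.symm'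
    have noRow : ∀ x y z : Fin n, x ≠ y → x ≠ z → y ≠ z → ¬ Par (v x y) (v x z) := by
      intro x y z hxy hxz hyz h
      apply hN
      rcases eq_or_ne a x with rfl | hax
      · exact row a y z hxy hxz hyz h b c hab hac hbc
      · obtain ⟨w, hxw, haw⟩ : ∃ w : Fin n, x ≠ w ∧ a ≠ w := by
          rcases eq_or_ne x b with rfl | hxb
          · exact ⟨c, hbc, hac⟩
          · exact ⟨b, hxb, hab⟩
        have h1 := row x y z hxy hxz hyz h a w (Ne.symm hax) hxw haw
        exact row a x w hax haw hxw (step x a w (Ne.symm hax) hxw haw h1) b c hab hac hbc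
    rcases (D.swap.row_par hn hij hik hjk).1 with h3 | h3
    · exact h3
    · exfalso
      rcases (D.row_par hn hij.symm hjk hik).1 with h4 | h4
      · exact noRow j i k hij.symm hjk hik h4
      · exact (D.cross hn hjk hij.symm hik.symm).2 ⟨h4.symm', h3⟩

theorem par_of_perp_two (hn : n = 2) {φ v w : Fin n → F} (hφ : φ ≠ 0) (hv : v ≠ 0) (hw : w ≠ 0)
    (h1 : φ ⬝ᵥ v = 0) (h2 : φ ⬝ᵥ w = 0) : Par v w := by
  subst hn
  simp only [dotProduct, Fin.sum_univ_two] at h1 h2
  have e0 : φ 0 * (v 0 * w 1 - v 1 * w 0) = 0 := by linear_combination w 1 * h1 - v 1 * h2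
  have e1 : φ 1 * (v 0 * w 1 - v 1 * w 0) = 0 := by linear_combination v 0 * h2 - w 0 * h1
  have hd : v 0 * w 1 - v 1 * w 0 = 0 := by
    by_contra hd
    exact hφ (funext (Fin.forall_fin_two.mpr
      ⟨(mul_eq_zero.mp e0).resolve_right hd, (mul_eq_zero.mp e1).resolve_right hd⟩))
  refine par_of_minors hv hw (Fin.forall_fin_two.mpr ⟨Fin.forall_fin_two.mpr ⟨rfl, ?_⟩,
    Fin.forall_fin_two.mpr ⟨?_, rfl⟩⟩)
  · linear_combination hd
  · linear_combination -hd

/-- After conjugation, an automorphism with point rows maps each coordinate root group to itself. -/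
theorem exists_frame (hn : 2 ≤ n) {β : MulAut (PSLG n F)} {v φ : Fin n → Fin n → Fin n → F}
    (D : RootImage β v φ) (hrow : RowsPoint v) :
    ∃ M : GL (Fin n) F, ∀ i j : Fin n, i ≠ j → ∀ a : F, ∃ b : F,
      ((conjAut M)⁻¹ * β) (rootEl (ev i) (ev j) a) = rootEl (ev i) (ev j) b := by
  classical
  have hn1 : 1 ≤ n := le_trans one_le_two hn
  have : Nontrivial (Fin n) := Fin.nontrivial_iff_two_le.mpr hn
  choose o ho using fun i : Fin n => exists_ne i
  set P : Fin n → Fin n → F := fun i => v i (o i) with hP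
  set H : Fin n → Fin n → F := fun k => φ (o k) k with hH
  have hv : ∀ i j : Fin n, i ≠ j → Par (P i) (v i j) := by
    intro i j hij
    rcases eq_or_ne j (o i) with e | e
    · subst e; exact par_refl' _
    · exact hrow i (o i) j (ho i).symm hij e.symm
  have hφ : ∀ i k : Fin n, i ≠ k → Par (H k) (φ i k) := by
    intro i k hik
    rcases eq_or_ne (o k) i with e | e
    · subst e; exact par_refl' _
    · rcases (D.swap.row_par hn (ho k).symm hik.symm e).1 with h3 | h3
      · exact absurd ⟨hrow (o k) i k e (ho k) hik, h3⟩ (D.cross hn e (ho k) hik).1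
      · exact h3
  have hzero : ∀ i k : Fin n, i ≠ k → H k ⬝ᵥ P i = 0 := by
    intro i k hik
    obtain ⟨c, hc, e1⟩ := hv i k hik
    obtain ⟨d, hd, e2⟩ := hφ i k hik
    have h := (D.pair i k hik).2.2
    rw [e1, e2, dotProduct_smul, smul_dotProduct, smul_smul, smul_eq_mul] at h
    exact (mul_eq_zero.mp h).resolve_left (mul_ne_zero hc hd)
  have hne : ∀ j : Fin n, H j ⬝ᵥ P j ≠ 0 := by
    intro j hj
    by_cases h3 : ∃ k : Fin n, k ≠ j ∧ k ≠ o j
    · obtain ⟨k, hkj, hki⟩ := h3
      set i := o j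
      have hij : i ≠ j := ho j
      obtain ⟨c, -, e1⟩ := hv j k hkj.symm
      obtain ⟨d, -, e2⟩ := hφ i j hij
      obtain ⟨c', -, e3⟩ := hv i j hij
      obtain ⟨d', -, e4⟩ := hφ j k hkj.symm
      refine ((D.commute_iff hn1 hij hkj.symm).mp ⟨?_, ?_⟩).1 rfl
      · rw [e1, e2, dotProduct_smul, smul_dotProduct, hj, smul_zero, smul_zero]
      · rw [e3, e4, dotProduct_smul, smul_dotProduct, hzero i k hki.symm, smul_zero, smul_zero]
    · push Not at h3
      have h2 : n = 2 := by
        have : (Finset.univ : Finset (Fin n)) ⊆ {j, o j} := fun k _ => by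
          rcases eq_or_ne k j with e | e
          · simp [e]
          · simp [h3 k e]
        have := (Finset.card_le_card this).trans Finset.card_le_two
        rw [Finset.card_univ, Fintype.card_fin] at this
        omega
      set i := o j with hi
      have hij : i ≠ j := ho j
      obtain ⟨d, -, e2⟩ := hφ i j hij
      obtain ⟨c, -, e1⟩ := hv j i hij.symm
      have h1 : φ i j ⬝ᵥ v j i = 0 := by
        rw [e1, e2, dotProduct_smul, smul_dotProduct, hj, smul_zero, smul_zero]
      obtain ⟨e, -, he⟩ := (par_of_perp_two h2 (D.pair i j hij).2.1 (D.pair i j hij).1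
        (D.pair j i hij.symm).1 (D.pair i j hij).2.2 h1).symm'
      refine ((D.commute_iff hn1 hij hij.symm).mp ⟨h1, ?_⟩).1 rfl
      rw [he, dotProduct_smul, (D.pair j i hij.symm).2.2, smul_zero]
  set Mm : Matrix (Fin n) (Fin n) F := Matrix.of fun r i => P i r with hMm
  set Hm : Matrix (Fin n) (Fin n) F := Matrix.of fun k r => H k r with hHm
  have hHM : Hm * Mm = Matrix.diagonal fun k => H k ⬝ᵥ P k := by
    ext k i
    rw [Matrix.mul_apply]
    rcases eq_or_ne k i with rfl | h
    · simp [hHm, hMm, dotProduct]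
    · rw [Matrix.diagonal_apply_ne _ h]; exact hzero i k h.symm
  have hdet : Mm.det ≠ 0 := by
    intro h
    have e := congrArg Matrix.det hHM
    rw [Matrix.det_mul, h, mul_zero, Matrix.det_diagonal] at e
    exact Finset.prod_ne_zero_iff.mpr (fun k _ => hne k) e.symm
  set M : GL (Fin n) F := Matrix.GeneralLinearGroup.mkOfDetNeZero Mm hdet with hM
  have hMv : ∀ i, (M : Matrix (Fin n) (Fin n) F) *ᵥ ev i = P i := by
    intro i; ext r
    show (Mm *ᵥ ev i) r = P i r
    simp [ev, hMm]
  have hMφ : ∀ k, H k = (H k ⬝ᵥ P k) •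
      (ev k ᵥ* ((M⁻¹ : GL (Fin n) F) : Matrix (Fin n) (Fin n) F)) := by
    intro k
    have e1 : H k ᵥ* Mm = (H k ⬝ᵥ P k) • ev k := by
      ext i
      show (fun r => H k r) ⬝ᵥ (fun r => P i r) = _
      rcases eq_or_ne k i with rfl | h
      · simp [ev]
      · rw [hzero i k h.symm]; simp [ev, h.symm]
    have e2 := congrArg (· ᵥ* ((M⁻¹ : GL (Fin n) F) : Matrix (Fin n) (Fin n) F)) e1
    simp only [Matrix.vecMul_vecMul, Matrix.smul_vecMul] at e2
    rw [← e2]
    show _ = H k ᵥ* ((M : Matrix (Fin n) (Fin n) F) * _)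
    rw [← Units.val_mul, mul_inv_cancel, Units.val_one, Matrix.vecMul_one]
  refine ⟨M, fun i j hij a => ?_⟩
  obtain ⟨b, hb⟩ := D.img i j hij a
  obtain ⟨c, -, hc⟩ := hv i j hij
  obtain ⟨d, -, hd⟩ := hφ i j hij
  refine ⟨b * (d * (H j ⬝ᵥ P j)) * c, ?_⟩
  have hdot : (ev j ᵥ* ((M⁻¹ : GL (Fin n) F) : Matrix (Fin n) (Fin n) F)) ⬝ᵥ
      ((M : Matrix (Fin n) (Fin n) F) *ᵥ ev i) = 0 := by
    rw [dot_conj, ev_dot _ _ hij.symm]
  have hd' : φ i j = (d * (H j ⬝ᵥ P j)) •
      (ev j ᵥ* ((M⁻¹ : GL (Fin n) F) : Matrix (Fin n) (Fin n) F)) := by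
    conv_lhs => rw [hd, hMφ j, smul_smul]
  rw [MulAut.mul_apply, hb, hc, hd']
  conv_lhs => rw [← hMv i]
  rw [rootEl_smul_left (by rw [smul_dotProduct, hdot, smul_zero]), rootEl_smul_right hdot,
    ← conjAut_rootEl _ (ev_dot _ _ hij.symm), MulAut.inv_apply_self]
  congr 1
  ring

/-- An invertible diagonal matrix. -/
def diagGL (d : Fin n → Fˣ) : GL (Fin n) F :=
  ⟨Matrix.diagonal fun i => (d i : F), Matrix.diagonal fun i => ((d i)⁻¹ : Fˣ),
    by rw [Matrix.diagonal_mul_diagonal]; simp, by rw [Matrix.diagonal_mul_diagonal]; simp⟩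

omit [Fintype F] in
theorem conjAut_diag (d : Fin n → Fˣ) {i j : Fin n} (h : i ≠ j) (a : F) :
    conjAut (diagGL d) (rootEl (ev i) (ev j) a) =
      rootEl (ev i) (ev j) ((d i : F) * a * ((d j)⁻¹ : Fˣ)) := by
  have hd := ev_dot (F := F) j i h.symm
  have e1 : (diagGL d : Matrix (Fin n) (Fin n) F) *ᵥ ev i = (d i : F) • ev i := by
    ext r
    show (Matrix.diagonal (fun i => (d i : F)) *ᵥ ev i) r = _
    rw [Matrix.mulVec_diagonal]
    by_cases hr : r = i
    · subst hr; simp
    · simp [ev, hr]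
  have e2 : ev j ᵥ* (((diagGL d)⁻¹ : GL (Fin n) F) : Matrix (Fin n) (Fin n) F) =
      (((d j)⁻¹ : Fˣ) : F) • ev j := by
    ext r
    show (ev j ᵥ* Matrix.diagonal (fun i => (((d i)⁻¹ : Fˣ) : F))) r = _
    rw [Matrix.vecMul_diagonal]
    by_cases hr : r = j
    · subst hr; simp
    · simp [ev, hr]
  rw [conjAut_rootEl _ hd, e1, e2, rootEl_smul_left (by rw [smul_dotProduct, hd, smul_zero]),
    rootEl_smul_right hd]
  congr 1
  ring

omit [Fintype F] in
theorem rootEl_eq_transvection {i j : Fin n} (h : i ≠ j) (a : F) :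
    rootEl (ev i) (ev j) a =
      (QuotientGroup.mk (Matrix.SpecialLinearGroup.transvection h a) : PSLG n F) := by
  rw [rootEl]; exact congrArg _ (slRoot_single h a)

omit [Fintype F] in
theorem fieldAut_rootEl_ev (σ : F ≃+* F) {i j : Fin n} (h : i ≠ j) (a : F) :
    fieldAut σ (rootEl (ev i) (ev j) a) = rootEl (ev i) (ev j) (σ a) := by
  rw [fieldAut_rootEl σ (ev_dot _ _ h.symm)]
  congr 1 <;> ext k <;> simp [ev, Pi.single_apply, apply_ite σ]

omit [Fintype F] in
theorem aut_ext_ev {β β' : MulAut (PSLG n F)}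
    (h : ∀ i j : Fin n, i ≠ j → ∀ a : F,
      β (rootEl (ev i) (ev j) a) = β' (rootEl (ev i) (ev j) a)) : β = β' :=
  aut_ext_of_gen Cfsg.Agent.Classical.sl_subgroup_eq_top_of_transvection_mem fun i j hij c => by
    rw [← rootEl_eq_transvection hij, h i j hij c]

theorem eq_conj_field_of_fixes (hn : 2 ≤ n) (β : MulAut (PSLG n F))
    (hfix : ∀ i j : Fin n, i ≠ j → ∀ a : F, ∃ b : F,
      β (rootEl (ev i) (ev j) a) = rootEl (ev i) (ev j) b) :
    ∃ (g : GL (Fin n) F) (σ : F ≃+* F), β = conjAut g * fieldAut σ := by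
  classical
  have hn1 : 1 ≤ n := le_trans one_le_two hn
  choose f hf using hfix
  have inj : ∀ i j : Fin n, i ≠ j → Function.Injective (rootEl (ev i) (ev j : Fin n → F)) :=
    fun i j h => rootEl_injective hn1 (ev_ne_zero i) (ev_ne_zero j) (ev_dot _ _ h.symm)
  have hadd : ∀ i j (h : i ≠ j) a b, f i j h (a + b) = f i j h a + f i j h b := fun i j h a b =>
    inj i j h (by
      rw [← hf, rootEl_add (ev_dot _ _ h.symm), map_mul, hf i j h, hf i j h,
        ← rootEl_add (ev_dot _ _ h.symm)])
  have hf0 : ∀ i j (h : i ≠ j), f i j h 0 = 0 := fun i j h => inj i j h (by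
    rw [← hf, rootEl_zero, map_one])
  have hfinj : ∀ i j (h : i ≠ j), Function.Injective (f i j h) := fun i j h a b e => by
    apply inj i j h; apply β.injective; rw [hf i j h, hf i j h, e]
  have hf1 : ∀ i j (h : i ≠ j), f i j h 1 ≠ 0 := fun i j h e =>
    one_ne_zero (hfinj i j h (e.trans (hf0 i j h).symm))
  have hcomm : ∀ (i j k : Fin n) (hij : i ≠ j) (hik : i ≠ k) (hkj : k ≠ j) (a b : F),
      f i j hij (a * b) = f i k hik a * f k j hkj b := by
    intro i j k hij hik hkj a b
    have key : ∀ a b : F, rootEl (ev i) (ev j) (a * b) =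
        rootEl (ev i) (ev k) a * rootEl (ev k) (ev j) b *
          (rootEl (ev i) (ev k) a)⁻¹ * (rootEl (ev k) (ev j) b)⁻¹ := by
      intro a b
      rw [rootEl_eq_transvection hij, rootEl_eq_transvection hik, rootEl_eq_transvection hkj,
        ← Cfsg.Agent.Classical.commutator_transvection_transvection hij hik hkj a b,
        commutatorElement_def]
      rfl
    apply inj i j hij
    rw [← hf, key, key, map_mul, map_mul, map_mul, map_inv, map_inv, hf i k hik, hf k j hkj]
  set z : Fin n := ⟨0, by omega⟩ with hz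
  set d : Fin n → Fˣ :=
    fun i => if h : i = z then 1 else Units.mk0 (f i z h 1) (hf1 i z h) with hd
  have hdz : (d z : F) = 1 := by simp [hd]
  have hdne : ∀ i (h : i ≠ z), (d i : F) = f i z h 1 := fun i h => by simp [hd, h]
  set f' : ∀ i j : Fin n, i ≠ j → F → F :=
    fun i j h a => (((d i)⁻¹ : Fˣ) : F) * f i j h a * (d j : F) with hf'
  have hβ' : ∀ i j (h : i ≠ j) a, ((conjAut (diagGL d))⁻¹ * β) (rootEl (ev i) (ev j) a) =
      rootEl (ev i) (ev j) (f' i j h a) := by
    intro i j h a
    rw [MulAut.mul_apply, hf i j h a]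
    apply (conjAut (diagGL d)).injective
    rw [MulAut.apply_inv_self, conjAut_diag d h]
    congr 1
    simp only [hf', Units.val_inv_eq_inv_val]
    field_simp
  suffices hs : ∃ σ : F ≃+* F, ∀ i j (h : i ≠ j) a, f' i j h a = σ a by
    obtain ⟨σ, hσ⟩ := hs
    refine ⟨diagGL d, σ, ?_⟩
    rw [← inv_mul_eq_iff_eq_mul]
    refine aut_ext_ev fun i j h a => ?_
    rw [hβ' i j h a, fieldAut_rootEl_ev σ h, hσ]
  rcases Nat.lt_or_ge n 3 with h2 | h3
  · -- n = 2
    obtain rfl : n = 2 := by omega
    set γ := (conjAut (diagGL d))⁻¹ * β with hγ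
    have h10 : (1 : Fin 2) ≠ 0 := by decide
    set F1 := f' 0 1 h10.symm with hF1
    set G1 := f' 1 0 h10 with hG1
    have hG11 : G1 1 = 1 := by
      simp only [hG1, hf']
      rw [show (d 0 : F) = 1 from hdz, mul_one, Units.val_inv_eq_inv_val,
        hdne 1 h10]
      exact inv_mul_cancel₀ (hf1 1 z h10)
    have key : ∀ a b : F, (∃ c, conjAut (Matrix.SpecialLinearGroup.toGL
          (Matrix.SpecialLinearGroup.transvection h10.symm a *
            Matrix.SpecialLinearGroup.transvection h10 b *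
            Matrix.SpecialLinearGroup.transvection h10.symm a))
          (rootEl (ev 0) (ev 1) (1 : F)) = rootEl (ev 1) (ev 0) c) ↔ a * b = -1 := by
      intro a b
      have hmat : (Matrix.SpecialLinearGroup.transvection h10.symm a *
            Matrix.SpecialLinearGroup.transvection h10 b *
            Matrix.SpecialLinearGroup.transvection h10.symm a).1 *ᵥ ev 0 = ![1 + a * b, b] := by
        simp only [Matrix.SpecialLinearGroup.coe_mul, Matrix.SpecialLinearGroup.transvection_coe]
        ext r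
        fin_cases r <;>
          simp [ev, Matrix.mul_apply, Fin.sum_univ_two, Matrix.single_apply]
      rw [conjAut_rootEl _ (ev_dot _ _ h10)]
      constructor
      · rintro ⟨c, hc⟩
        have hc0 : c ≠ 0 := by
          rintro rfl
          rw [rootEl_zero] at hc
          have hstd : StdPair (F := F) le_rfl (ev 0) (ev 1) := stdPair_single h10.symm
          obtain ⟨q1, q2, q3⟩ := (hstd.conj (Matrix.SpecialLinearGroup.toGL
          (Matrix.SpecialLinearGroup.transvection h10.symm a *
            Matrix.SpecialLinearGroup.transvection h10 b *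
            Matrix.SpecialLinearGroup.transvection h10.symm a))).facts
          exact rootEl_ne_one (by omega) q1 q2 q3 one_ne_zero hc
        have hstd : StdPair (F := F) le_rfl (ev 0) (ev 1) := stdPair_single h10.symm
        obtain ⟨q1, q2, q3⟩ := (hstd.conj (Matrix.SpecialLinearGroup.toGL
          (Matrix.SpecialLinearGroup.transvection h10.symm a *
            Matrix.SpecialLinearGroup.transvection h10 b *
            Matrix.SpecialLinearGroup.transvection h10.symm a))).facts
        obtain ⟨h01, -⟩ := (commute_rootEl_iff (by omega) q1 q2 (ev_ne_zero (1 : Fin 2))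
          (ev_ne_zero (0 : Fin 2)) q3 (ev_dot _ _ h10.symm) one_ne_zero hc0).mp
          (by rw [hc])
        have h02 := (commute_rootEl_iff (by omega) q1 q2 (ev_ne_zero (1 : Fin 2))
          (ev_ne_zero (0 : Fin 2)) q3 (ev_dot _ _ h10.symm) one_ne_zero hc0).mp
          (by rw [hc]) |>.2
        have e : (![1 + a * b, b] : Fin 2 → F) 0 = 0 := by
          rw [← hmat]
          exact (single_one_dotProduct _ _).symm.trans h02
        have e' : (1 : F) + a * b = 0 := e
        linear_combination e'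
      · intro hab
        have hb : b ≠ 0 := by rintro rfl; simp at hab
        refine ⟨-(b * b), ?_⟩
        have e1 : ((Matrix.SpecialLinearGroup.toGL
          (Matrix.SpecialLinearGroup.transvection h10.symm a *
            Matrix.SpecialLinearGroup.transvection h10 b *
            Matrix.SpecialLinearGroup.transvection h10.symm a) : GL (Fin 2) F) :
              Matrix (Fin 2) (Fin 2) F) *ᵥ ev 0 = b • ev 1 := by
          show (Matrix.SpecialLinearGroup.transvection h10.symm a *
            Matrix.SpecialLinearGroup.transvection h10 b *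
            Matrix.SpecialLinearGroup.transvection h10.symm a).1 *ᵥ ev 0 = _
          rw [hmat]
          ext r
          fin_cases r
          · simp [ev]; linear_combination hab
          · simp [ev]
        have e2 : ev 1 ᵥ* (((Matrix.SpecialLinearGroup.toGL
          (Matrix.SpecialLinearGroup.transvection h10.symm a *
            Matrix.SpecialLinearGroup.transvection h10 b *
            Matrix.SpecialLinearGroup.transvection h10.symm a))⁻¹ : GL (Fin 2) F) :
              Matrix (Fin 2) (Fin 2) F) = (-b) • ev 0 := by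
          rw [← map_inv]
          show ev 1 ᵥ* ((Matrix.SpecialLinearGroup.transvection h10.symm a *
            Matrix.SpecialLinearGroup.transvection h10 b *
            Matrix.SpecialLinearGroup.transvection h10.symm a)⁻¹).1 = _
          simp only [_root_.mul_inv_rev, Matrix.SpecialLinearGroup.transvection_inv,
            Matrix.SpecialLinearGroup.coe_mul, Matrix.SpecialLinearGroup.transvection_coe]
          ext r
          fin_cases r
          · simp [ev, Matrix.mul_apply, Fin.sum_univ_two, Matrix.single_apply]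
          · simp [ev, Matrix.mul_apply, Fin.sum_univ_two, Matrix.single_apply]; linear_combination hab
        rw [e1, e2, rootEl_smul_left (by rw [smul_dotProduct, ev_dot _ _ h10.symm, smul_zero]),
          rootEl_smul_right (ev_dot _ _ h10.symm)]
        congr 1
        ring
    have hmap : ∀ a b : F, a * b = -1 → F1 a * G1 b = -1 := by
      intro a b hab
      obtain ⟨c, hc⟩ := (key a b).mpr hab
      rw [← key]
      have hone : ∃ d, γ (rootEl (ev 0) (ev 1) d) = rootEl (ev 0) (ev 1) (1 : F) := by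
        have : Function.Surjective F1 := Finite.injective_iff_surjective.mp (fun x y e => by
          apply inj 0 1 h10.symm
          apply γ.injective
          rw [hβ' 0 1 h10.symm, hβ' 0 1 h10.symm]
          exact congrArg _ e)
        obtain ⟨d, hd'⟩ := this 1
        exact ⟨d, by rw [hβ' 0 1 h10.symm]; exact congrArg _ hd'⟩
      obtain ⟨e, he⟩ := hone
      have conv : ∀ (s : SLG 2 F) (x : PSLG 2 F), conjAut (Matrix.SpecialLinearGroup.toGL s) x =
          (QuotientGroup.mk s : PSLG 2 F) * x * (QuotientGroup.mk s)⁻¹ := by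
        intro s x
        induction x using QuotientGroup.induction_on with
        | H t =>
          rw [conjAut_mk, ← QuotientGroup.mk_inv, ← QuotientGroup.mk_mul, ← QuotientGroup.mk_mul]
          rfl
      have hc' : ∃ c', conjAut (Matrix.SpecialLinearGroup.toGL
          (Matrix.SpecialLinearGroup.transvection h10.symm a *
            Matrix.SpecialLinearGroup.transvection h10 b *
            Matrix.SpecialLinearGroup.transvection h10.symm a))
          (rootEl (ev 0) (ev 1) e) = rootEl (ev 1) (ev 0) c' := by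
        refine ⟨c * e, ?_⟩
        have hd0 : (ev 1 : Fin 2 → F) ⬝ᵥ ev 0 = 0 := ev_dot _ _ h10
        rw [conjAut_rootEl _ hd0] at hc ⊢
        rw [show (e : F) = 1 * e from (one_mul e).symm, ← rootEl_smul_right
          (by rw [dot_conj]; exact hd0), show c * (1 * e) = c * e by ring,
          ← rootEl_smul_right (ev_dot _ _ h10.symm)]
        rw [rootEl, rootEl] at hc ⊢
        have hcs := unipotent_mk_inj (by omega) (slRoot_sub_one_sq (by rw [dot_conj]; exact hd0) _)
          (slRoot_sub_one_sq (ev_dot _ _ h10.symm) _) hc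
        refine congrArg _ (Subtype.ext ?_)
        have hcv := congrArg Subtype.val hcs
        rw [slRoot_coe (by rw [dot_conj]; exact hd0), slRoot_coe (ev_dot _ _ h10.symm),
          add_right_inj, one_smul] at hcv
        rw [slRoot_coe (by rw [smul_dotProduct, dot_conj, hd0, smul_zero]),
          slRoot_coe (by rw [smul_dotProduct, ev_dot _ _ h10.symm, smul_zero]), add_right_inj,
          one_smul, vecMulVec_smul, vecMulVec_smul, hcv, smul_comm]
      obtain ⟨c', hc'⟩ := hc'
      refine ⟨G1 c', ?_⟩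
      have := congrArg γ hc'
      rw [conv, map_mul, map_mul, map_inv, he, hβ' 1 0 h10] at this
      have hW : γ (QuotientGroup.mk (Matrix.SpecialLinearGroup.transvection h10.symm a *
            Matrix.SpecialLinearGroup.transvection h10 b *
            Matrix.SpecialLinearGroup.transvection h10.symm a)) =
          (QuotientGroup.mk (Matrix.SpecialLinearGroup.transvection h10.symm (F1 a) *
            Matrix.SpecialLinearGroup.transvection h10 (G1 b) *
            Matrix.SpecialLinearGroup.transvection h10.symm (F1 a)) : PSLG 2 F) := by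
        rw [QuotientGroup.mk_mul, QuotientGroup.mk_mul, QuotientGroup.mk_mul, QuotientGroup.mk_mul,
          map_mul, map_mul, ← rootEl_eq_transvection h10.symm a, ← rootEl_eq_transvection h10 b,
          hβ' 0 1 h10.symm, hβ' 1 0 h10, rootEl_eq_transvection h10.symm, rootEl_eq_transvection h10]
      rw [hW] at this
      rw [conv, ← this]
    have hF1add : ∀ a b, F1 (a + b) = F1 a + F1 b := fun a b => by
      simp only [hF1, hf', hadd]; ring
    have hG1add : ∀ a b, G1 (a + b) = G1 a + G1 b := fun a b => by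
      simp only [hG1, hf', hadd]; ring
    have hF0 : F1 0 = 0 := by simp [hF1, hf', hf0]
    have hG0 : G1 0 = 0 := by simp [hG1, hf', hf0]
    have hG1neg : ∀ a, G1 (-a) = -G1 a := fun a => by
      have := hG1add a (-a); rw [add_neg_cancel, hG0] at this
      exact (neg_eq_of_add_eq_zero_right this.symm).symm
    have hF11 : F1 1 = 1 := by
      have := hmap 1 (-1) (by ring)
      rw [hG1neg, hG11] at this
      linear_combination -this
    have hFG : ∀ a, G1 a = F1 a := by
      intro a
      -- the Weyl element built from `a = 1` conjugates one root group to the other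
      have key2 : ∀ x : F, conjAut (Matrix.SpecialLinearGroup.toGL
          (Matrix.SpecialLinearGroup.transvection h10.symm 1 *
            Matrix.SpecialLinearGroup.transvection h10 (-1) *
            Matrix.SpecialLinearGroup.transvection h10.symm 1))
          (rootEl (ev 0) (ev 1) x) = rootEl (ev 1) (ev 0) (-x) := by
        intro x
        rw [rootEl_eq_transvection h10.symm, rootEl_eq_transvection h10, conjAut_mk]
        congr 1
        apply Subtype.ext
        rw [slConj_coe, ← map_inv]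
        show (_ * _ * _ : SLG 2 F).1 * _ * ((_ * _ * _)⁻¹ : SLG 2 F).1 = _
        simp only [_root_.mul_inv_rev, Matrix.SpecialLinearGroup.transvection_inv,
          Matrix.SpecialLinearGroup.coe_mul, Matrix.SpecialLinearGroup.transvection_coe]
        ext r s
        fin_cases r <;> fin_cases s <;>
          simp [Matrix.mul_apply, Fin.sum_univ_two, Matrix.single_apply]
      have e := congrArg γ (key2 a)
      rw [hβ' 1 0 h10] at e
      set W : SLG 2 F := Matrix.SpecialLinearGroup.transvection h10.symm 1 *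
            Matrix.SpecialLinearGroup.transvection h10 (-1) *
            Matrix.SpecialLinearGroup.transvection h10.symm 1 with hW
      have hγW : γ (QuotientGroup.mk W) = QuotientGroup.mk W := by
        rw [hW, QuotientGroup.mk_mul, QuotientGroup.mk_mul, map_mul, map_mul,
          ← rootEl_eq_transvection h10.symm, ← rootEl_eq_transvection h10,
          hβ' 0 1 h10.symm, hβ' 1 0 h10, show f' 0 1 h10.symm 1 = F1 1 from rfl, hF11,
          show f' 1 0 h10 (-1) = G1 (-1) from rfl, hG1neg, hG11]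
      have conv : ∀ x : PSLG 2 F, conjAut (Matrix.SpecialLinearGroup.toGL W) x =
          (QuotientGroup.mk W : PSLG 2 F) * x * (QuotientGroup.mk W)⁻¹ := by
        intro x
        induction x using QuotientGroup.induction_on with
        | H t =>
          rw [conjAut_mk, ← QuotientGroup.mk_inv, ← QuotientGroup.mk_mul, ← QuotientGroup.mk_mul]
          rfl
      rw [conv, map_mul, map_mul, map_inv, hγW, hβ' 0 1 h10.symm, ← conv, key2] at e
      have e' := inj 1 0 h10 e
      rw [show f' 1 0 h10 (-a) = G1 (-a) from rfl, hG1neg] at e'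
      exact neg_injective e'.symm
    have hinv : ∀ a, F1 a⁻¹ = (F1 a)⁻¹ := by
      intro a
      rcases eq_or_ne a 0 with rfl | ha
      · rw [_root_.inv_zero, hF0, _root_.inv_zero]
      · have := hmap a (-a⁻¹) (by rw [mul_neg, mul_inv_cancel₀ ha])
        rw [hG1neg, mul_neg, neg_inj, hFG] at this
        exact eq_inv_of_mul_eq_one_right this
    have hFinj : Function.Injective F1 := fun x y e => by
      apply inj 0 1 h10.symm
      apply γ.injective
      rw [hβ' 0 1 h10.symm, hβ' 0 1 h10.symm]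
      exact congrArg _ e
    refine ⟨ringEquivOfFun F1 hF1add hF11 (mul_of_inv_compat F1 hF1add hF11 hinv hFinj), ?_⟩
    intro i j h a
    rw [ringEquivOfFun_apply]
    fin_cases i <;> fin_cases j
    · exact absurd rfl h
    · rfl
    · exact hFG a
    · exact absurd rfl h
  · -- n ≥ 3
    have third : ∀ i j : Fin n, ∃ k : Fin n, k ≠ i ∧ k ≠ j := by
      intro i j
      by_contra hh
      push Not at hh
      have : (Finset.univ : Finset (Fin n)) ⊆ {i, j} := fun k _ => by
        rcases eq_or_ne k i with e | e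
        · simp [e]
        · simp [hh k e]
      have := (Finset.card_le_card this).trans Finset.card_le_two
      rw [Finset.card_univ, Fintype.card_fin] at this
      omega
    have hf'mul : ∀ (i j k : Fin n) (hij : i ≠ j) (hik : i ≠ k) (hkj : k ≠ j) (a b : F),
        f' i j hij (a * b) = f' i k hik a * f' k j hkj b := by
      intro i j k hij hik hkj a b
      simp only [hf', hcomm i j k hij hik hkj, Units.val_inv_eq_inv_val]
      field_simp
    have hz0 : ∀ i (h : i ≠ z), f' i z h 1 = 1 := by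
      intro i h
      simp only [hf', hdz, hdne i h, Units.val_inv_eq_inv_val, mul_one]
      exact inv_mul_cancel₀ (hf1 i z h)
    have hone : ∀ i j (h : i ≠ j), f' i j h 1 = 1 := by
      have away : ∀ i j (h : i ≠ j), i ≠ z → j ≠ z → f' i j h 1 = 1 := by
        intro i j h hi hj
        have := hf'mul i z j hi h hj 1 1
        rw [mul_one, hz0 i hi, hz0 j hj, mul_one] at this
        exact this.symm
      intro i j h
      rcases eq_or_ne j z with rfl | hj
      · exact hz0 i h
      rcases eq_or_ne i z with rfl | hi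
      · obtain ⟨k, hkz, hkj⟩ := third z j
        have := hf'mul k j z hkj hkz h 1 1
        rw [mul_one, away k j hkj hkz hj, hz0 k hkz, one_mul] at this
        exact this.symm
      exact away i j h hi hj
    have hrow' : ∀ i j k (hij : i ≠ j) (hik : i ≠ k), j ≠ k → ∀ a, f' i j hij a = f' i k hik a := by
      intro i j k hij hik hjk a
      have := hf'mul i j k hij hik hjk.symm a 1
      rw [mul_one, hone k j, mul_one] at this
      exact this
    have hcol' : ∀ i j k (hik : i ≠ k) (hjk : j ≠ k), i ≠ j → ∀ a, f' i k hik a = f' j k hjk a := by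
      intro i j k hik hjk hij a
      have := hf'mul i k j hik hij hjk 1 a
      rw [one_mul, hone i j, one_mul] at this
      exact this
    set o : Fin n := ⟨1, by omega⟩ with ho
    have hoz : o ≠ z := by simp [ho, hz, Fin.ext_iff]
    have hall : ∀ i j (h : i ≠ j) a, f' i j h a = f' o z hoz a := by
      intro i j h a
      obtain ⟨k, hki, hko⟩ := third i o
      have e1 : f' i j h a = f' i k hki.symm a := by
        rcases eq_or_ne j k with rfl | hjk
        · rfl
        · exact hrow' i j k h hki.symm hjk a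
      have e2 : f' o z hoz a = f' o k hko.symm a := by
        rcases eq_or_ne z k with hzk | hzk
        · subst hzk; rfl
        · exact hrow' o z k hoz hko.symm hzk a
      rw [e1, e2]
      rcases eq_or_ne i o with rfl | hio
      · rfl
      · exact hcol' i o k hki.symm hko.symm hio a
    refine ⟨ringEquivOfFun (f' o z hoz) (fun a b => by simp only [hf', hadd]; ring) (hone o z hoz)
      (fun a b => ?_), fun i j h a => by rw [ringEquivOfFun_apply, hall i j h a]⟩
    obtain ⟨k, hko, hkz⟩ := third o z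
    rw [hf'mul o z k hoz hko.symm hkz a b, hall o k, hall k z]

/-- Every automorphism of `PSL_n(q)`, `n ≥ 2`, is semilinear, possibly times inverse-transpose. -/
theorem aut_psl_structure (hn : 2 ≤ n) (β : MulAut (PSLG n F)) :
    ∃ (g : GL (Fin n) F) (σ : F ≃+* F),
      β = conjAut g * fieldAut σ ∨ β = conjAut g * fieldAut σ * iotaAut := by
  obtain ⟨v, φ, D⟩ := exists_rootImage hn β
  rcases rows_or_cols hn D with h | h
  · obtain ⟨M, hM⟩ := exists_frame hn D h
    obtain ⟨g, σ, hg⟩ := eq_conj_field_of_fixes hn _ hM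
    refine ⟨M * g, σ, Or.inl ?_⟩
    rw [map_mul, mul_assoc, ← hg, mul_inv_cancel_left]
  · obtain ⟨M, hM⟩ := exists_frame hn D.swap h
    obtain ⟨g, σ, hg⟩ := eq_conj_field_of_fixes hn _ hM
    refine ⟨M * g, σ, Or.inr ?_⟩
    rw [map_mul, mul_assoc (conjAut M), ← hg, mul_inv_cancel_left, mul_assoc, iotaAut_sq, mul_one]

end CfsgLib.AutPSL
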