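import Cfsg.Agent.Lib.PCore.Basic
import Cfsg.Agent.Lib.AutPSL.FieldGalois
import Cfsg.Prelude.Def_Solvable

/-!
The `p'`-core of the centralizer of an automorphism of prime order in a group of automorphisms
containing the inner ones.
-/

set_option autoImplicit false

namespace CfsgLib.AutBalance

open Cfsg

variable {K : Type*} [Group K]

/-- The fixed points of an automorphism. -/
abbrev fixedPts (x : MulAut K) : Subgroup K := MonoidHom.eqLocus x.toMonoidHom (MonoidHom.id K)

theorem conj_map (a : MulAut K) (k : K) : a * MulAut.conj k * a⁻¹ = MulAut.conj (a k) := by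
  ext y
  simp [MulAut.conj_apply, map_mul, map_inv]

theorem conj_mem_centralizer {x : MulAut K} {k : K} (hk : x k = k) :
    MulAut.conj k ∈ Subgroup.centralizer {x} := by
  rw [Subgroup.mem_centralizer_singleton_iff]
  exact ((mul_inv_eq_iff_eq_mul.mp ((conj_map x k).trans (congrArg _ hk)))).symm

variable [Finite K] {p : ℕ} [Fact p.Prime]

theorem core_ne_bot (hinj : Function.Injective (MulAut.conj : K →* MulAut K))
    (A : Subgroup (MulAut K)) (hinn : ∀ k : K, MulAut.conj k ∈ A) (x : MulAut K)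
    (hne : ∃ k : K, k ≠ 1 ∧ x k = k) (hp : Nat.Coprime p (Nat.card (fixedPts x))) :
    pPrimeCore p ↥(A ⊓ Subgroup.centralizer {x}) ≠ ⊥ := by
  set C := A ⊓ Subgroup.centralizer {x}
  have : Finite C := inferInstance
  let c : fixedPts x →* C := ((MulAut.conj : K →* MulAut K).comp (fixedPts x).subtype).codRestrict _
    fun k => ⟨hinn k.1, conj_mem_centralizer k.2⟩
  have hn : c.range.Normal := by
    refine ⟨?_⟩
    rintro _ ⟨k, rfl⟩ a
    refine ⟨⟨a.1 k.1, ?_⟩, Subtype.ext ?_⟩
    · show x (a.1 k.1) = a.1 k.1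
      have h := Subgroup.mem_centralizer_singleton_iff.mp a.2.2
      rw [← MulAut.mul_apply, ← h, MulAut.mul_apply, show x k.1 = k.1 from k.2]
    · exact (conj_map a.1 k.1).symm
  intro h
  have hle := CfsgLib.PCore.le_pPrimeCore hn
    ((hp.symm).coprime_dvd_left (Subgroup.card_range_dvd c))
  obtain ⟨k, hk1, hk⟩ := hne
  rw [h, le_bot_iff] at hle
  have : c ⟨k, hk⟩ = 1 := Subgroup.mem_bot.mp (hle ▸ ⟨_, rfl⟩)
  exact hk1 (hinj ((congrArg Subtype.val this).trans (map_one _).symm))

theorem core_eq_bot (hinj : Function.Injective (MulAut.conj : K →* MulAut K))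
    (A : Subgroup (MulAut K)) (hinn : ∀ k : K, MulAut.conj k ∈ A) (x : MulAut K)
    (hxp : x ^ p = 1) (hG : pPrimeCore p (fixedPts x) = ⊥)
    (hC : ∀ n : MulAut K, n * x = x * n → (∀ k ∈ fixedPts x, n k = k) → n ∈ Subgroup.zpowers x) :
    pPrimeCore p ↥(A ⊓ Subgroup.centralizer {x}) = ⊥ := by
  set C := A ⊓ Subgroup.centralizer {x}
  have : Finite C := inferInstance
  set N := pPrimeCore p ↥C with hN
  let c : fixedPts x →* C := ((MulAut.conj : K →* MulAut K).comp (fixedPts x).subtype).codRestrict _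
    fun k => ⟨hinn k.1, conj_mem_centralizer k.2⟩
  have hcinj : Function.Injective c := fun a b e => Subtype.ext (hinj (congrArg Subtype.val e))
  have hNn : N.Normal := Cfsg.pPrimeCore_normal p C
  have hM : N.comap c = ⊥ := by
    rw [← le_bot_iff, ← hG]
    exact CfsgLib.PCore.le_pPrimeCore (hNn.comap c)
      (CfsgLib.PCore.pPrimeCore_coprime.coprime_dvd_left (Subgroup.card_comap_dvd_of_injective N c hcinj))
  rw [eq_bot_iff]
  intro n hn
  have hcomm : n.1 * x = x * n.1 := Subgroup.mem_centralizer_singleton_iff.mp n.2.2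
  have hfix : ∀ k ∈ fixedPts x, n.1 k = k := by
    intro k hk
    have hnk : n.1 k ∈ fixedPts x := by
      show x (n.1 k) = n.1 k
      rw [← MulAut.mul_apply, ← hcomm, MulAut.mul_apply, show x k = k from hk]
    have hmem : c (⟨n.1 k, hnk⟩ * ⟨k, hk⟩⁻¹) ∈ N := by
      have e : c (⟨n.1 k, hnk⟩ * ⟨k, hk⟩⁻¹) = n * (c ⟨k, hk⟩ * n⁻¹ * (c ⟨k, hk⟩)⁻¹) := by
        rw [map_mul, map_inv]
        apply Subtype.ext
        show MulAut.conj (n.1 k) * (MulAut.conj k)⁻¹ =
          n.1 * (MulAut.conj k * n.1⁻¹ * (MulAut.conj k)⁻¹)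
        rw [← conj_map]
        group
      rw [e]
      exact N.mul_mem hn (hNn.conj_mem _ (N.inv_mem hn) _)
    have : (⟨n.1 k, hnk⟩ * ⟨k, hk⟩⁻¹ : fixedPts x) ∈ N.comap c := hmem
    rw [hM, Subgroup.mem_bot, mul_inv_eq_one] at this
    exact congrArg Subtype.val this
  obtain ⟨j, hj⟩ := hC n.1 hcomm hfix
  have hnp : n ^ p = 1 := by
    apply Subtype.ext
    rw [SubgroupClass.coe_pow, ← hj, ← zpow_natCast, ← zpow_mul, mul_comm, zpow_mul, zpow_natCast,
      hxp, one_zpow]
    rfl
  have h1 : orderOf n ∣ p := orderOf_dvd_of_pow_eq_one hnp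
  have h2 : orderOf n ∣ Nat.card N := by
    rw [show orderOf n = orderOf (⟨n, hn⟩ : N) from (Subgroup.orderOf_coe (⟨n, hn⟩ : N))]
    exact orderOf_dvd_natCard _
  have h3 : orderOf n = 1 :=
    Nat.eq_one_of_dvd_coprimes CfsgLib.PCore.pPrimeCore_coprime h2 h1
  rw [Subgroup.mem_bot, ← orderOf_eq_one_iff]
  exact h3

/-- An automorphism of a finite field fixing the fixed field of `σ` is a power of `σ`. -/
theorem mem_zpowers_of_fixed {F : Type*} [Field F] [Finite F] {σ τ : F ≃+* F}
    (h : ∀ a, σ a = a → τ a = a) : τ ∈ Subgroup.zpowers σ := by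
  have := CfsgLib.FieldGalois.isCyclic_ringAut (F := F)
  set H := Subgroup.zpowers σ ⊔ Subgroup.zpowers τ with hH
  obtain ⟨⟨ρ, hρ⟩, hgen⟩ := IsCyclic.exists_generator (α := H)
  have hle : H = Subgroup.zpowers ρ := by
    refine le_antisymm (fun y hy => ?_) ((Subgroup.zpowers_le).mpr hρ)
    obtain ⟨k, hk⟩ := hgen ⟨y, hy⟩
    exact ⟨k, congrArg Subtype.val hk⟩
  have hfix : ∀ a, σ a = a → ρ a = a := by
    intro a ha
    have hst : H ≤ MulAction.stabilizer (F ≃+* F) a :=
      sup_le ((Subgroup.zpowers_le).mpr ha) ((Subgroup.zpowers_le).mpr (h a ha))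
    exact hst hρ
  have hcard : Nat.card (CfsgLib.FieldGalois.fixedSub σ) ≤ Nat.card (CfsgLib.FieldGalois.fixedSub ρ) :=
    Nat.card_le_card_of_injective
      (fun a => (⟨a.1, hfix a.1 a.2⟩ : CfsgLib.FieldGalois.fixedSub ρ))
      fun a b e => Subtype.ext (Subtype.ext_iff.mp e :)
  have hord : orderOf ρ ≤ orderOf σ := by
    have h1 := CfsgLib.FieldGalois.natCard_fixedSub σ
    have h2 := CfsgLib.FieldGalois.natCard_fixedSub ρ
    by_contra hlt
    push Not at hlt
    have hone : 1 < Nat.card (CfsgLib.FieldGalois.fixedSub σ) := Finite.one_lt_card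
    have h3 := (Nat.pow_lt_pow_right hone hlt).trans_le (Nat.pow_le_pow_left hcard (orderOf ρ))
    omega
  have heq : Subgroup.zpowers σ = H := by
    apply Subgroup.eq_of_le_of_card_ge le_sup_left
    rw [← hH, hle, Nat.card_zpowers, Nat.card_zpowers]
    exact hord
  rw [heq]
  exact Subgroup.mem_sup_right (Subgroup.mem_zpowers τ)

end CfsgLib.AutBalance
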