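import Cfsg.Agent.Lib.AutPSL.Centralizers
import Cfsg.Agent.Lib.AutPSL.BalanceCore
import Cfsg.Agent.Lib.AutPSL.OutPSL
import Cfsg.Agent.Classical.SLGen
import Cfsg.Agent.Classical.SLBasic

/-!
The centralizer of a field automorphism of prime order in an almost simple group with socle `PSL_n`.
-/

set_option autoImplicit false

namespace CfsgLib.AutPSL

open Matrix CfsgLib.FieldGalois CfsgLib.AutBalance

variable {n : ℕ} {F : Type*} [Field F]

theorem conjAut_toGL (s : SLG n F) :
    conjAut (Matrix.SpecialLinearGroup.toGL s) = MulAut.conj (QuotientGroup.mk s : PSLG n F) := by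
  apply MulEquiv.ext
  intro x
  induction x using QuotientGroup.induction_on with
  | H t =>
    rw [conjAut_mk, MulAut.conj_apply, ← QuotientGroup.mk_inv, ← QuotientGroup.mk_mul,
      ← QuotientGroup.mk_mul]
    rfl

theorem sl_coe_mul (s t : SLG n F) : (s * t).1 = s.1 * t.1 := rfl

theorem sl_coe_inv (s : SLG n F) : s⁻¹.1 = s.1.adjugate := rfl

theorem sl_coe_pow (s : SLG n F) (k : ℕ) : (s ^ k).1 = s.1 ^ k :=
  Matrix.SpecialLinearGroup.coe_pow s k

theorem mem_center_of_scalar {s : SLG n F} {r : F}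
    (h : (s : Matrix (Fin n) (Fin n) F) = Matrix.scalar (Fin n) r) :
    s ∈ Subgroup.center (SLG n F) := by
  rw [Subgroup.mem_center_iff]
  intro g
  apply Subtype.ext
  rw [sl_coe_mul, sl_coe_mul, h]
  exact (Matrix.scalar_commute r (fun r => mul_comm _ _) g.1).symm

theorem scalar_of_mem_center {s : SLG n F} (h : s ∈ Subgroup.center (SLG n F)) :
    ∃ r : F, (s : Matrix (Fin n) (Fin n) F) = Matrix.scalar (Fin n) r := by
  obtain ⟨r, -, hr⟩ := Matrix.SpecialLinearGroup.mem_center_iff.mp h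
  exact ⟨r, hr.symm⟩

theorem pslConj_injective (hn : 2 ≤ n) :
    Function.Injective (MulAut.conj : PSLG n F →* MulAut (PSLG n F)) := by
  refine (injective_iff_map_eq_one _).mpr fun x hx => ?_
  obtain ⟨s, rfl⟩ := QuotientGroup.mk_surjective x
  rw [← conjAut_toGL] at hx
  obtain ⟨u, hu⟩ := (conjAut_eq_one_iff hn).mp hx
  exact (QuotientGroup.eq_one_iff s).mpr (mem_center_of_scalar (r := u) (congrArg Units.val hu))

/-- An automorphism fixing the root elements over a subfield is a field automorphism. -/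
theorem eq_field_of_fixes [Fintype F] (hn : 2 ≤ n) (σ : F ≃+* F) (u : MulAut (PSLG n F))
    (h : ∀ i j : Fin n, i ≠ j → ∀ a, σ a = a →
      u (rootEl (ev i) (ev j) a) = rootEl (ev i) (ev j) a) :
    ∃ τ ∈ Subgroup.zpowers σ, u = fieldAut τ := by
  have hn1 : 1 ≤ n := by omega
  obtain ⟨g, τ, hu⟩ : ∃ (g : GL (Fin n) F) (τ : F ≃+* F), u = conjAut g * fieldAut τ := by
    obtain ⟨g, τ, e | e⟩ := aut_psl_structure hn u
    · exact ⟨g, τ, e⟩
    by_cases h3 : 3 ≤ n
    · exfalso
      have key : ∀ i j : Fin n, i ≠ j → ∀ k, k ≠ i →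
          ((g : Matrix (Fin n) (Fin n) F) *ᵥ ev j) k = 0 := by
        intro i j hij k hk
        have hd : (ev j : Fin n → F) ⬝ᵥ ev i = 0 := ev_dot _ _ hij.symm
        have hd' : (ev i : Fin n → F) ⬝ᵥ ev j = 0 := ev_dot _ _ hij
        have e1 := h i j hij 1 (map_one σ)
        rw [e, MulAut.mul_apply, MulAut.mul_apply, iotaAut_rootEl hd, fieldAut_rootEl τ hd',
          comp_single, comp_single, conjAut_rootEl g hd'] at e1
        have e2 := root_one_eq hn1 (by rw [dot_conj]; exact hd') hd e1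
        by_contra hne
        obtain ⟨l, hl⟩ : ∃ l, (ev i ᵥ* ((g⁻¹ : GL (Fin n) F) : Matrix (Fin n) (Fin n) F)) l ≠ 0 := by
          by_contra hc
          push Not at hc
          have hz : ev i ᵥ* ((g⁻¹ : GL (Fin n) F) : Matrix (Fin n) (Fin n) F) = 0 := funext hc
          exact ev_ne_zero (F := F) i (Matrix.vecMul_injective_iff_isUnit.2 (g⁻¹).isUnit
            (hz.trans (Matrix.zero_vecMul _).symm))
        have e3 := congrFun (congrFun e2 k) l
        rw [Matrix.smul_apply, Matrix.smul_apply, vecMulVec_apply, vecMulVec_apply,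
          show (ev i : Fin n → F) k = 0 from Pi.single_eq_of_ne hk 1, zero_mul, smul_zero,
          smul_eq_zero, mul_eq_zero] at e3
        rcases e3 with e3 | e3 | e3
        · exact one_ne_zero (neg_eq_zero.1 ((map_eq_zero τ).1 e3))
        · exact hne e3
        · exact hl e3
      let i0 : Fin n := ⟨0, by omega⟩
      let i1 : Fin n := ⟨1, by omega⟩
      let j : Fin n := ⟨2, by omega⟩
      suffices hz : (g : Matrix (Fin n) (Fin n) F) *ᵥ ev j = 0 from
        ev_ne_zero (F := F) j (Matrix.mulVec_injective_iff_isUnit.2 g.isUnit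
          (hz.trans (Matrix.mulVec_zero _).symm))
      funext k
      by_cases hk : k = i0
      · exact key i1 j (by simp [i1, j]) k (by rw [hk]; simp [i0, i1])
      · exact key i0 j (by simp [i0, j]) k hk
    · obtain rfl : n = 2 := by omega
      obtain ⟨w, hw⟩ := iotaAut_two (F := F)
      exact ⟨g * glField τ w, τ, by rw [e, ← hw, mul_assoc, fieldAut_mul_conjAut, ← mul_assoc, ← map_mul]⟩
  have key : ∀ i j : Fin n, i ≠ j → ∀ a : F, σ a = a →
      τ a • ((g : Matrix (Fin n) (Fin n) F) * vecMulVec (ev i) (ev j) *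
        ((g⁻¹ : GL (Fin n) F) : Matrix (Fin n) (Fin n) F)) = a • vecMulVec (ev i) (ev j) := by
    intro i j hij a ha
    have hd : (ev j : Fin n → F) ⬝ᵥ ev i = 0 := ev_dot _ _ hij.symm
    have e := h i j hij a ha
    rw [hu, MulAut.mul_apply, fieldAut_rootEl_ev τ hij, conjAut_rootEl _ hd] at e
    rw [mul_vecMulVec, vecMulVec_mul]
    exact root_one_eq hn1 (by rw [dot_conj]; exact hd) hd e
  obtain ⟨r, hr⟩ := matrix_commute_of_transvections hn1 (M := (g : Matrix (Fin n) (Fin n) F))
    fun i j hij => by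
      show _ * _ = _ * _
      have k1 := key i j hij 1 (map_one σ)
      rw [map_one, one_smul, one_smul] at k1
      conv_rhs => rw [← k1, Matrix.mul_assoc, ← Units.val_mul, inv_mul_cancel, Units.val_one, mul_one]
  have hr0 : r ≠ 0 := by
    rintro rfl
    rw [map_zero] at hr
    have h3 := g.isUnit
    rw [hr, isUnit_zero_iff] at h3
    exact zero_ne_one (congrFun (congrFun h3 ⟨0, by omega⟩) ⟨0, by omega⟩ |>.trans (by simp) : (0 : F) = 1)
  have hg : conjAut g = 1 := (conjAut_eq_one_iff hn).mpr ⟨Units.mk0 r hr0, Units.ext hr⟩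
  rw [hg, one_mul] at hu
  refine ⟨τ, mem_zpowers_of_fixed fun a ha => ?_, hu⟩
  set i : Fin n := ⟨0, by omega⟩
  set j : Fin n := ⟨1, by omega⟩
  have hij : i ≠ j := by simp [i, j]
  have e := h i j hij a ha
  rw [hu, fieldAut_rootEl_ev τ hij] at e
  exact rootEl_injective hn1 (ev_ne_zero i) (ev_ne_zero j) (ev_dot _ _ hij.symm) e

section SLNormal

variable {K : Type*} [Field K] [Fintype K]

theorem card_pgl_eq_card_sl (hn : 1 ≤ n) :
    Nat.card (Matrix.ProjGenLinGroup (Fin n) K) = Nat.card (SLG n K) := by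
  classical
  have h1 : Nat.card (Subgroup.center (GL (Fin n) K)) = Nat.card Kˣ := by
    rw [Matrix.GeneralLinearGroup.center_eq_range_scalar]
    exact (Nat.card_congr (MonoidHom.ofInjective (f := Matrix.GeneralLinearGroup.scalar (Fin n))
      fun u v h => scalar_injective hn h).toEquiv).symm
  have h2 : Nat.card (GL (Fin n) K) = Nat.card Kˣ * Nat.card (SLG n K) := by
    set d : GL (Fin n) K →* Kˣ := Matrix.GeneralLinearGroup.det
    have hs : Function.Surjective d := fun u =>
      ⟨diagGL (fun i : Fin n => if i = ⟨0, by omega⟩ then u else 1), Units.ext (by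
        rw [Matrix.GeneralLinearGroup.val_det_apply]
        show (Matrix.diagonal _).det = _
        rw [Matrix.det_diagonal, Finset.prod_eq_single ⟨0, by omega⟩]
        · simp
        · intro b _ hb; simp [hb]
        · simp)⟩
    rw [Subgroup.card_eq_card_quotient_mul_card_subgroup d.ker,
      Nat.card_congr (QuotientGroup.quotientKerEquivOfSurjective d hs).toEquiv]
    congr 1
    refine Nat.card_congr
      { toFun := fun g => ⟨g.1.1, congrArg Units.val g.2⟩
        invFun := fun s => ⟨Matrix.SpecialLinearGroup.toGL s, Units.ext s.2⟩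
        left_inv := fun g => Subtype.ext (Units.ext rfl)
        right_inv := fun s => Subtype.ext rfl }
  have h3 := Subgroup.card_eq_card_quotient_mul_card_subgroup (Subgroup.center (GL (Fin n) K))
  rw [h1, h2, mul_comm] at h3
  exact (Nat.eq_of_mul_eq_mul_right Nat.card_pos h3).symm

set_option synthInstance.maxSize 4000 in
theorem small_two_two : ∀ a b c d : ZMod 2, ((!![a, b; c, d] : Matrix (Fin 2) (Fin 2) (ZMod 2))).det = 1 → (!![a, b; c, d] : Matrix (Fin 2) (Fin 2) (ZMod 2)) ≠ 1 →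
    (!![a, b; c, d] : Matrix (Fin 2) (Fin 2) (ZMod 2)) * (!![a, b; c, d] : Matrix (Fin 2) (Fin 2) (ZMod 2)) * (!![a, b; c, d] : Matrix (Fin 2) (Fin 2) (ZMod 2)) = 1 ∨
    ((!![a, b; c, d] : Matrix (Fin 2) (Fin 2) (ZMod 2)) * !![1,1;0,1] * ((!![a, b; c, d] : Matrix (Fin 2) (Fin 2) (ZMod 2))).adjugate * !![1,1;0,1] ≠ 1 ∧
      (!![a, b; c, d] : Matrix (Fin 2) (Fin 2) (ZMod 2)) * !![1,1;0,1] * ((!![a, b; c, d] : Matrix (Fin 2) (Fin 2) (ZMod 2))).adjugate * !![1,1;0,1] * ((!![a, b; c, d] : Matrix (Fin 2) (Fin 2) (ZMod 2)) * !![1,1;0,1] * ((!![a, b; c, d] : Matrix (Fin 2) (Fin 2) (ZMod 2))).adjugate * !![1,1;0,1]) *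
        ((!![a, b; c, d] : Matrix (Fin 2) (Fin 2) (ZMod 2)) * !![1,1;0,1] * ((!![a, b; c, d] : Matrix (Fin 2) (Fin 2) (ZMod 2))).adjugate * !![1,1;0,1]) = 1) ∨
    ((!![a, b; c, d] : Matrix (Fin 2) (Fin 2) (ZMod 2)) * !![1,0;1,1] * ((!![a, b; c, d] : Matrix (Fin 2) (Fin 2) (ZMod 2))).adjugate * !![1,0;1,1] ≠ 1 ∧
      (!![a, b; c, d] : Matrix (Fin 2) (Fin 2) (ZMod 2)) * !![1,0;1,1] * ((!![a, b; c, d] : Matrix (Fin 2) (Fin 2) (ZMod 2))).adjugate * !![1,0;1,1] * ((!![a, b; c, d] : Matrix (Fin 2) (Fin 2) (ZMod 2)) * !![1,0;1,1] * ((!![a, b; c, d] : Matrix (Fin 2) (Fin 2) (ZMod 2))).adjugate * !![1,0;1,1]) *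
        ((!![a, b; c, d] : Matrix (Fin 2) (Fin 2) (ZMod 2)) * !![1,0;1,1] * ((!![a, b; c, d] : Matrix (Fin 2) (Fin 2) (ZMod 2))).adjugate * !![1,0;1,1]) = 1) := by
  decide +kernel

theorem small_two_three : ∀ a b c d : ZMod 3, ((!![a, b; c, d] : Matrix (Fin 2) (Fin 2) (ZMod 3))).det = 1 → (!![a, b; c, d] : Matrix (Fin 2) (Fin 2) (ZMod 3)) ≠ 1 → (!![a, b; c, d] : Matrix (Fin 2) (Fin 2) (ZMod 3)) ≠ -1 →
    (!![a, b; c, d] : Matrix (Fin 2) (Fin 2) (ZMod 3)) * (!![a, b; c, d] : Matrix (Fin 2) (Fin 2) (ZMod 3)) = -1 ∨ (!![a, b; c, d] : Matrix (Fin 2) (Fin 2) (ZMod 3)) * !![1,1;0,1] * ((!![a, b; c, d] : Matrix (Fin 2) (Fin 2) (ZMod 3))).adjugate * !![1,2;0,1] * ((!![a, b; c, d] : Matrix (Fin 2) (Fin 2) (ZMod 3)) * !![1,1;0,1] * ((!![a, b; c, d] : Matrix (Fin 2) (Fin 2) (ZMod 3))).adjugate * !![1,2;0,1]) = -1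
      ∨ (!![a, b; c, d] : Matrix (Fin 2) (Fin 2) (ZMod 3)) * !![1,0;1,1] * ((!![a, b; c, d] : Matrix (Fin 2) (Fin 2) (ZMod 3))).adjugate * !![1,0;2,1] * ((!![a, b; c, d] : Matrix (Fin 2) (Fin 2) (ZMod 3)) * !![1,0;1,1] * ((!![a, b; c, d] : Matrix (Fin 2) (Fin 2) (ZMod 3))).adjugate * !![1,0;2,1]) = -1 := by
  decide +kernel

theorem one_ne_neg_one_three : (1 : Matrix (Fin 2) (Fin 2) (ZMod 3)) ≠ -1 := by decide +kernel

theorem center_iff_scalar_two {R : Type*} [Field R] {s : SLG 2 R} :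
    s ∈ Subgroup.center (SLG 2 R) ↔ (s : Matrix (Fin 2) (Fin 2) R) = 1 ∨ (s : Matrix (Fin 2) (Fin 2) R) = -1 := by
  constructor
  · intro h
    obtain ⟨r, hr⟩ := scalar_of_mem_center h
    have hd := s.2
    rw [hr] at hd
    have : r ^ 2 = 1 := by simpa [Matrix.scalar_apply, Matrix.det_diagonal, pow_two] using hd
    rcases sq_eq_one_iff.mp this with h1 | h1
    · exact Or.inl (by rw [hr, h1, map_one])
    · exact Or.inr (by rw [hr, h1, map_neg, map_one])
  · rintro (h | h)
    · exact mem_center_of_scalar (r := 1) (by rw [h, map_one])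
    · exact mem_center_of_scalar (r := -1) (by rw [h, map_neg, map_one])

theorem small_zmod {q p : ℕ} [Fact q.Prime] (hqp : (q = 2 ∧ p = 3) ∨ (q = 3 ∧ p = 2))
    (N : Subgroup (SLG 2 (ZMod q))) [hN : N.Normal] (hne : ¬ N ≤ Subgroup.center (SLG 2 (ZMod q))) :
    ∃ y ∈ N, y ∉ Subgroup.center (SLG 2 (ZMod q)) ∧ y ^ p ∈ Subgroup.center (SLG 2 (ZMod q)) := by
  obtain ⟨y, hy, hyc⟩ := SetLike.not_le_iff_exists.mp hne
  have hcm : ∀ a : SLG 2 (ZMod q), y * a * y⁻¹ * a⁻¹ ∈ N := fun a => by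
    rw [mul_assoc, mul_assoc, ← mul_assoc a]
    exact N.mul_mem hy (hN.conj_mem _ (N.inv_mem hy) a)
  rw [center_iff_scalar_two, not_or] at hyc
  rcases hqp with ⟨rfl, rfl⟩ | ⟨rfl, rfl⟩
  · have fin : ∀ z ∈ N, (z : Matrix (Fin 2) (Fin 2) (ZMod 2)) ≠ 1 →
        (z : Matrix (Fin 2) (Fin 2) (ZMod 2)) * z.1 * z.1 = 1 →
        ∃ y ∈ N, y ∉ Subgroup.center (SLG 2 (ZMod 2)) ∧ y ^ 3 ∈ Subgroup.center (SLG 2 (ZMod 2)) :=
      fun z hz h1 h3 => ⟨z, hz, by
        rw [center_iff_scalar_two, not_or]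
        exact ⟨h1, fun h => h1 (h.trans (by ext i j; simp [Matrix.one_apply, ZMod.neg_eq_self_mod_two]))⟩, by
        rw [center_iff_scalar_two]
        exact Or.inl (by rw [sl_coe_pow, pow_succ, pow_two, h3])⟩
    have hy' := small_two_two (y.1 0 0) (y.1 0 1) (y.1 1 0) (y.1 1 1)
    rw [← Matrix.eta_fin_two y.1] at hy'
    rcases hy' y.2 hyc.1 with h | ⟨h1, h3⟩ | ⟨h1, h3⟩
    · exact fin y hy hyc.1 h
    · let a : SLG 2 (ZMod 2) := ⟨!![1,1;0,1], by simp [Matrix.det_fin_two]⟩
      have e : (y * a * y⁻¹ * a⁻¹).1 = y.1 * !![1,1;0,1] * y.1.adjugate * !![1,1;0,1] := by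
        simp only [sl_coe_mul, sl_coe_inv]
        congr 1
        simp [a, Matrix.adjugate_fin_two, ZMod.neg_eq_self_mod_two]
      exact fin _ (hcm a) (by rw [e]; exact h1) (by rw [e]; exact h3)
    · let a : SLG 2 (ZMod 2) := ⟨!![1,0;1,1], by simp [Matrix.det_fin_two]⟩
      have e : (y * a * y⁻¹ * a⁻¹).1 = y.1 * !![1,0;1,1] * y.1.adjugate * !![1,0;1,1] := by
        simp only [sl_coe_mul, sl_coe_inv]
        congr 1
        simp [a, Matrix.adjugate_fin_two, ZMod.neg_eq_self_mod_two]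
      exact fin _ (hcm a) (by rw [e]; exact h1) (by rw [e]; exact h3)
  · have fin : ∀ z ∈ N, (z : Matrix (Fin 2) (Fin 2) (ZMod 3)) * z.1 = -1 →
        ∃ y ∈ N, y ∉ Subgroup.center (SLG 2 (ZMod 3)) ∧ y ^ 2 ∈ Subgroup.center (SLG 2 (ZMod 3)) :=
      fun z hz h2 => ⟨z, hz, by
        rw [center_iff_scalar_two, not_or]
        constructor <;> intro h <;> rw [h] at h2 <;> simp only [one_mul, neg_mul_neg] at h2 <;>
          exact one_ne_neg_one_three h2, by
        rw [center_iff_scalar_two]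
        exact Or.inr (by rw [sl_coe_pow, pow_two, h2])⟩
    have hy' := small_two_three (y.1 0 0) (y.1 0 1) (y.1 1 0) (y.1 1 1)
    rw [← Matrix.eta_fin_two y.1] at hy'
    rcases hy' y.2 hyc.1 hyc.2 with h | h | h
    · exact fin y hy h
    · let a : SLG 2 (ZMod 3) := ⟨!![1,1;0,1], by simp [Matrix.det_fin_two]⟩
      have ha : a.1.adjugate = !![1,2;0,1] := by
        simp [a, Matrix.adjugate_fin_two]; rfl
      refine fin _ (hcm a) ?_
      simp only [sl_coe_mul, sl_coe_inv, ha]
      exact h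
    · let a : SLG 2 (ZMod 3) := ⟨!![1,0;1,1], by simp [Matrix.det_fin_two]⟩
      have ha : a.1.adjugate = !![1,0;2,1] := by
        simp [a, Matrix.adjugate_fin_two]; rfl
      refine fin _ (hcm a) ?_
      simp only [sl_coe_mul, sl_coe_inv, ha]
      exact h

theorem card_sl_zmod :
    Fintype.card (SLG 2 (ZMod 2)) = 6 ∧ Fintype.card (SLG 2 (ZMod 3)) = 24 := by
  constructor <;> decide +kernel

/-- A noncentral normal subgroup of `SL_n` contains elements of order `p` modulo the centre. -/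
theorem exists_order_of_normal (hn : 2 ≤ n) {p : ℕ} [hp : Fact p.Prime] (hpK : (p : K) ≠ 0)
    (hdvd : p ∣ Nat.card (SLG n K)) (N : Subgroup (SLG n K)) [hN : N.Normal]
    (hne : ¬ N ≤ Subgroup.center (SLG n K)) :
    ∃ y ∈ N, y ∉ Subgroup.center (SLG n K) ∧ y ^ p ∈ Subgroup.center (SLG n K) := by
  classical
  by_cases hsmall : n = 2 ∧ Nat.card K ≤ 3
  · obtain ⟨rfl, hq⟩ := hsmall
    rw [Nat.card_eq_fintype_card] at hq
    obtain ⟨q, hqdef⟩ : ∃ q, q = Fintype.card K := ⟨_, rfl⟩
    rw [← hqdef] at hq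
    have h2 : 2 ≤ q := hqdef ▸ Fintype.one_lt_card
    have hqp : q.Prime := by interval_cases q <;> norm_num
    have : Fact q.Prime := ⟨hqp⟩
    obtain ⟨⟨e⟩⟩ : Nonempty (Nonempty (K ≃+* ZMod q)) :=
      ⟨⟨(ZMod.ringEquivOfPrime K hqp hqdef.symm).symm⟩⟩
    let E : SLG 2 K ≃* SLG 2 (ZMod q) :=
      { toFun := Matrix.SpecialLinearGroup.map e.toRingHom
        invFun := Matrix.SpecialLinearGroup.map e.symm.toRingHom
        left_inv := fun s => by apply Subtype.ext; ext i j; simp
        right_inv := fun s => by apply Subtype.ext; ext i j; simp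
        map_mul' := map_mul _ }
    have hqp' : (q = 2 ∧ p = 3) ∨ (q = 3 ∧ p = 2) := by
      have hpq : p ≠ q := fun h => hpK (by rw [h, hqdef]; exact Nat.cast_card_eq_zero K)
      rw [Nat.card_congr E.toEquiv, Nat.card_eq_fintype_card] at hdvd
      rcases (show q = 2 ∨ q = 3 by omega) with hq' | hq'
      · left
        refine ⟨hq', ?_⟩
        subst hq'
        rw [card_sl_zmod.1, show (6 : ℕ) = 2 * 3 from rfl] at hdvd
        rcases hp.out.dvd_mul.mp hdvd with h | h
        · exact absurd ((Nat.prime_dvd_prime_iff_eq hp.out Nat.prime_two).mp h) hpq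
        · exact (Nat.prime_dvd_prime_iff_eq hp.out Nat.prime_three).mp h
      · right
        refine ⟨hq', ?_⟩
        subst hq'
        rw [card_sl_zmod.2, show (24 : ℕ) = 2 ^ 3 * 3 from rfl] at hdvd
        rcases hp.out.dvd_mul.mp hdvd with h | h
        · exact (Nat.prime_dvd_prime_iff_eq hp.out Nat.prime_two).mp (hp.out.dvd_of_dvd_pow h)
        · exact absurd ((Nat.prime_dvd_prime_iff_eq hp.out Nat.prime_three).mp h) hpq
    have hc : ∀ s, E s ∈ Subgroup.center _ ↔ s ∈ Subgroup.center (SLG 2 K) := by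
      intro s
      simp only [Subgroup.mem_center_iff]
      constructor
      · intro h g; apply E.injective; rw [map_mul, map_mul, h]
      · intro h g; obtain ⟨g, rfl⟩ := E.surjective g; rw [← map_mul, ← map_mul, h]
    have := hN.map E.toMonoidHom E.surjective
    obtain ⟨y, hy, hy1, hy2⟩ := small_zmod hqp' (N.map E.toMonoidHom) (fun hle => hne fun s hs =>
      (hc s).mp (hle ⟨s, hs, rfl⟩))
    obtain ⟨z, hz, rfl⟩ := hy
    exact ⟨z, hz, fun h => hy1 ((hc z).mpr h), (hc _).mp (by rw [map_pow]; exact hy2)⟩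
  have hS : IsSimpleGroup (PSLG n K) := by
    by_cases h3 : 3 ≤ n
    · exact Cfsg.Agent.Classical.psl_isSimpleGroup (by simp; omega)
    · obtain rfl : n = 2 := by omega
      exact Matrix.ProjectiveSpecialLinearGroup.rank_two_simple (by
        push Not at hsmall; have := hsmall rfl; omega)
  have hsurj := QuotientGroup.mk'_surjective (Subgroup.center (SLG n K))
  have htop : N.map (QuotientGroup.mk' (Subgroup.center (SLG n K))) = ⊤ :=
    ((Subgroup.Normal.map hN _ hsurj).eq_bot_or_eq_top).resolve_left fun h => hne (by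
      rw [Subgroup.map_eq_bot_iff, QuotientGroup.ker_mk'] at h
      exact h)
  suffices hex : ∃ y : SLG n K, y ∉ Subgroup.center (SLG n K) ∧ y ^ p ∈ Subgroup.center (SLG n K) by
    obtain ⟨y, hy1, hyp⟩ := hex
    obtain ⟨z, hz, hzy⟩ : (QuotientGroup.mk y : PSLG n K) ∈
        N.map (QuotientGroup.mk' (Subgroup.center (SLG n K))) := htop ▸ Subgroup.mem_top _
    refine ⟨z, hz, fun h => hy1 ?_, ?_⟩
    · have h' := (QuotientGroup.eq_one_iff z).mpr h
      exact (QuotientGroup.eq_one_iff y).mp (hzy.symm.trans h')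
    · refine (QuotientGroup.eq_one_iff _).mp ?_
      rw [QuotientGroup.mk_pow]
      show (QuotientGroup.mk' _ z) ^ p = 1
      rw [hzy, ← QuotientGroup.mk_pow]
      exact (QuotientGroup.eq_one_iff _).mpr hyp
  by_cases hpz : p ∣ Nat.card (Subgroup.center (SLG n K))
  · obtain ⟨z, hz⟩ := exists_prime_orderOf_dvd_card' p hpz
    obtain ⟨ζ, hζ⟩ := scalar_of_mem_center z.2
    have hzp : (z.1 : SLG n K) ^ p = 1 := by
      have := pow_orderOf_eq_one z
      rw [hz] at this
      exact congrArg Subtype.val this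
    set i0 : Fin n := ⟨0, by omega⟩
    set i1 : Fin n := ⟨1, by omega⟩
    have h01 : i0 ≠ i1 := by simp [i0, i1]
    have hζ1 : ζ ≠ 1 := fun h => hp.out.one_lt.ne (((orderOf_eq_one_iff (x := z)).mpr
      (Subtype.ext (Subtype.ext (by rw [hζ, h, map_one]; rfl)))).symm.trans hz)
    have hζp : ζ ^ p = 1 := by
      have := congrArg (fun s : SLG n K => s.1 i0 i0) hzp
      simpa [sl_coe_pow, hζ, Matrix.scalar_apply, Matrix.diagonal_pow] using this
    have hζ0 : ζ ≠ 0 := fun h => by simp [h, hp.out.ne_zero] at hζp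
    by_cases h3 : 3 ≤ n
    · refine ⟨SpecialLinearGroup.diag2n h01 ζ hζ0, fun h => ?_, ?_⟩
      · obtain ⟨r, hr⟩ := scalar_of_mem_center h
        have e1 := congrFun (congrFun hr ⟨2, by omega⟩) ⟨2, by omega⟩
        have e2 := congrFun (congrFun hr i0) i0
        rw [SpecialLinearGroup.diag2n_coe] at e1 e2
        simp [i0, i1] at e1 e2
        exact hζ1 (e2.trans e1.symm)
      · refine mem_center_of_scalar (r := 1) ?_
        rw [sl_coe_pow, SpecialLinearGroup.diag2n_coe, Matrix.diagonal_pow, map_one,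
          ← Matrix.diagonal_one]
        congr 1
        funext k
        simp only [Pi.pow_apply]
        split_ifs <;> simp [inv_pow, hζp]
    · obtain rfl : n = 2 := by omega
      have hζ2 : ζ ^ 2 = 1 := by
        have := z.1.2
        rw [hζ] at this
        simpa [Matrix.scalar_apply, Matrix.det_diagonal, pow_two] using this
      have hp2 : p = 2 := by
        by_contra hne2
        have h1 : orderOf ζ ∣ 2 := orderOf_dvd_of_pow_eq_one hζ2
        have h2 : orderOf ζ ∣ p := orderOf_dvd_of_pow_eq_one hζp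
        exact hζ1 (orderOf_eq_one_iff.mp (Nat.eq_one_of_dvd_coprimes
          ((Nat.coprime_primes Nat.prime_two hp.out).mpr (Ne.symm hne2)) h1 h2))
      subst hp2
      refine ⟨⟨!![0, 1; -1, 0], by simp [Matrix.det_fin_two]⟩, fun h => ?_, ?_⟩
      · rcases center_iff_scalar_two.mp h with h | h <;>
          simpa using congrFun (congrFun h 0) 0
      · refine center_iff_scalar_two.mpr (Or.inr ?_)
        refine (sl_coe_pow _ 2).trans ?_
        show (!![0, 1; -1, 0] : Matrix (Fin 2) (Fin 2) K) ^ 2 = -1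
        rw [pow_two]
        ext i j
        fin_cases i <;> fin_cases j <;> simp [Matrix.mul_apply, Fin.sum_univ_two]
  · obtain ⟨y, hy⟩ := exists_prime_orderOf_dvd_card' p hdvd
    refine ⟨y, fun h => hpz ?_, by rw [← hy, pow_orderOf_eq_one]; exact one_mem _⟩
    rw [← hy, show orderOf y = orderOf (⟨y, h⟩ : Subgroup.center (SLG n K)) from
      (Subgroup.orderOf_coe (⟨y, h⟩ : Subgroup.center (SLG n K)))]
    exact orderOf_dvd_natCard _

end SLNormal

theorem card_fixedPts_field_dvd [Fintype F] (hn : 2 ≤ n) (σ : F ≃+* F) :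
    Nat.card (fixedPts (fieldAut (n := n) σ)) ∣ Nat.card (SLG n (fixedSub σ)) := by
  classical
  have := Fintype.ofFinite (fixedSub σ)
  obtain ⟨E⟩ := nonempty_centralizer_field_equiv hn σ (fixedSub σ).subtype
    (fun y => ⟨fun h => ⟨⟨y, h⟩, rfl⟩, fun ⟨a, ha⟩ => ha ▸ a.2⟩)
  rw [← card_pgl_eq_card_sl (K := fixedSub σ) (show 1 ≤ n by omega), ← Nat.card_congr E.toEquiv]
  let c : fixedPts (fieldAut (n := n) σ) →*
      ↥(Cfsg.inndiagPSL n F ⊓ Subgroup.centralizer {fieldAut (n := n) σ}) :=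
    ((MulAut.conj : PSLG n F →* MulAut (PSLG n F)).comp (fixedPts _).subtype).codRestrict _ fun k => by
      refine ⟨?_, conj_mem_centralizer k.2⟩
      obtain ⟨s, hs⟩ := QuotientGroup.mk_surjective k.1
      refine mem_inndiag_iff.mpr ⟨Matrix.SpecialLinearGroup.toGL s, ?_⟩
      rw [conjAut_toGL, hs]
      rfl
  exact Subgroup.card_dvd_of_injective c fun a b e =>
    Subtype.ext (pslConj_injective hn (congrArg Subtype.val e))

/-- The fixed points of a field automorphism have trivial `p'`-core when `p` divides their order. -/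
theorem core_fixedPts_field [Fintype F] (hn : 2 ≤ n) {p : ℕ} [hp : Fact p.Prime] (hpF : (p : F) ≠ 0)
    (σ : F ≃+* F) (hdvd : p ∣ Nat.card (fixedPts (fieldAut (n := n) σ))) :
    Cfsg.pPrimeCore p (fixedPts (fieldAut (n := n) σ)) = ⊥ := by
  classical
  set K := fixedSub σ
  have : Fintype K := Fintype.ofFinite _
  let ι : K →+* F := K.subtype
  let up : SLG n K →* SLG n F := Matrix.SpecialLinearGroup.map ι
  let j : SLG n K →* fixedPts (fieldAut (n := n) σ) :=
    ((QuotientGroup.mk' (Subgroup.center (SLG n F))).comp up).codRestrict _ fun A => by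
      show fieldAut σ (QuotientGroup.mk (up A) : PSLG n F) = QuotientGroup.mk (up A)
      rw [fieldAut_mk]
      exact congrArg _ (Subtype.ext (Matrix.ext fun i k => (A.1 i k).2))
  have hup : ∀ A : SLG n K, up A ∈ Subgroup.center (SLG n F) ↔ A ∈ Subgroup.center (SLG n K) := by
    intro A
    constructor
    · intro h
      obtain ⟨r, hr⟩ := scalar_of_mem_center h
      refine mem_center_of_scalar (r := A.1 ⟨0, by omega⟩ ⟨0, by omega⟩) (Matrix.ext fun a b => ?_)
      apply ι.injective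
      have e1 : ι (A.1 a b) = (Matrix.scalar (Fin n) r) a b := congrFun (congrFun hr a) b
      have e2 : ι (A.1 ⟨0, by omega⟩ ⟨0, by omega⟩) = r :=
        (congrFun (congrFun hr _) _).trans (by simp)
      rw [e1, Matrix.scalar_apply, Matrix.scalar_apply, Matrix.diagonal_apply, Matrix.diagonal_apply,
        apply_ite ι, e2, map_zero]
    · intro h
      obtain ⟨r, hr⟩ := scalar_of_mem_center h
      refine mem_center_of_scalar (r := ι r) ?_
      show A.1.map ι = _
      rw [hr]; ext a b; simp [Matrix.scalar_apply, Matrix.diagonal_apply, apply_ite ι]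
  have hker : ∀ A ∈ Subgroup.center (SLG n K), j A = 1 := fun A hA =>
    Subtype.ext ((QuotientGroup.eq_one_iff _).mpr ((hup A).mpr hA))
  set N := Cfsg.pPrimeCore p (fixedPts (fieldAut (n := n) σ))
  have hNn : N.Normal := Cfsg.pPrimeCore_normal p _
  have hNc : N.comap j ≤ Subgroup.center (SLG n K) := by
    by_contra hne
    have := hNn.comap j
    obtain ⟨y, hy, hy1, hyp⟩ := exists_order_of_normal hn (K := K)
      (fun h => hpF (by rw [← map_natCast ι, h, map_zero]))
      (hdvd.trans (card_fixedPts_field_dvd hn σ)) (N.comap j) hne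
    have hjp : (j y) ^ p = 1 := by rw [← map_pow]; exact hker _ hyp
    have ho : orderOf (⟨j y, hy⟩ : N) = p :=
      orderOf_eq_prime (Subtype.ext hjp) fun e => hy1 ((hup y).mp ((QuotientGroup.eq_one_iff _).mp
        (congrArg Subtype.val (congrArg Subtype.val e))))
    exact CfsgLib.PCore.not_dvd_card_pPrimeCore (ho ▸ orderOf_dvd_natCard _)
  rw [eq_bot_iff]
  intro k hk
  have hroot : ∀ i l : Fin n, i ≠ l → ∀ a, σ a = a →
      MulAut.conj (k.1 : PSLG n F) (rootEl (ev i) (ev l) a) = rootEl (ev i) (ev l) a := by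
    intro i l hil a ha
    obtain ⟨s, hs⟩ := QuotientGroup.mk_surjective (k.1 : PSLG n F)
    have hgc : conjAut (Matrix.SpecialLinearGroup.toGL s) ∈
        Subgroup.centralizer {fieldAut (n := n) σ} := by
      rw [conjAut_toGL, hs]; exact conj_mem_centralizer k.2
    obtain ⟨x, hx⟩ := exists_fixed_of_commute hn σ _ hgc
    set h := Matrix.GeneralLinearGroup.scalar (Fin n) x * Matrix.SpecialLinearGroup.toGL s with hh
    have hconj : conjAut h = MulAut.conj (k.1 : PSLG n F) := by
      rw [hh, map_mul, conjAut_scalar, one_mul, conjAut_toGL, hs]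
    set t : SLG n K := Matrix.SpecialLinearGroup.transvection hil ⟨a, ha⟩ with ht
    have htj : (j t).1 = rootEl (ev i) (ev l) a := by
      rw [rootEl_eq_transvection hil]
      refine congrArg _ (Subtype.ext (Matrix.ext fun u v => ?_))
      show ι (t.1 u v) = _
      rw [ht, SpecialLinearGroup.transvection_coe, SpecialLinearGroup.transvection_coe]
      simp [Matrix.single_apply, Matrix.one_apply, apply_ite ι]
      split_ifs <;> rfl
    let A : Matrix (Fin n) (Fin n) K := fun u v => ⟨(slConj h (up t)).1 u v, by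
      show σ _ = _
      have e : (slField σ (slConj h (up t))) = slConj h (up t) := by
        apply Subtype.ext
        rw [slField_coe, slConj_coe, Matrix.map_mul, Matrix.map_mul, ← glField_coe, ← glField_coe,
          map_inv, hx]
        congr 2
        exact Matrix.ext fun u v => (t.1 u v).2
      exact congrArg (fun s : SLG n F => s.1 u v) e⟩
    have hA : A.map ι = (slConj h (up t)).1 := rfl
    have hdetA : A.det = 1 := ι.injective (by
      rw [RingHom.map_det, map_one, RingHom.mapMatrix_apply, hA]; exact (slConj h (up t)).2)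
    let A' : SLG n K := ⟨A, hdetA⟩
    have hkey : j A' = k * j t * k⁻¹ := by
      apply Subtype.ext
      have := DFunLike.congr_fun hconj (QuotientGroup.mk (up t) : PSLG n F)
      rw [conjAut_mk, MulAut.conj_apply] at this
      exact this
    have hcm : k * j t * k⁻¹ * (j t)⁻¹ ∈ N := by
      rw [mul_assoc k, mul_assoc k]
      exact N.mul_mem hk (hNn.conj_mem _ (N.inv_mem hk) _)
    rw [← hkey, ← map_inv, ← map_mul] at hcm
    have h1 := hker _ (hNc hcm)
    rw [map_mul, map_inv, mul_inv_eq_one, hkey] at h1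
    have h2 := congrArg Subtype.val h1
    rw [MulAut.conj_apply, ← htj]
    exact h2
  obtain ⟨τ, -, hτ⟩ := eq_field_of_fixes hn σ _ hroot
  obtain ⟨s, hs⟩ := QuotientGroup.mk_surjective (k.1 : PSLG n F)
  rw [← hs, ← conjAut_toGL] at hτ
  have hτ1 : τ = 1 := by
    have := (eq_of_conj_field_eq_one hn (g := Matrix.SpecialLinearGroup.toGL s) (σ := τ⁻¹) (by
      rw [map_inv, hτ, mul_inv_cancel])).1
    exact inv_eq_one.mp this
  rw [hτ1, map_one, conjAut_toGL, hs] at hτ
  rw [Subgroup.mem_bot]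
  exact Subtype.ext (pslConj_injective hn (hτ.trans (map_one _).symm))

end CfsgLib.AutPSL
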