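import Cfsg.Agent.Lib.AutPSL.Reflection
import Cfsg.Agent.Lib.AutPSL.BalanceField
import Cfsg.Agent.Lib.AutPSp.Balance

/-!
The centralizer of an involutory graph or graph-field automorphism in an almost simple group with
socle `PSL_n`, `n ≥ 3`, odd characteristic.
-/

set_option autoImplicit false

namespace CfsgLib.AutBalance

open Cfsg

variable {K : Type*} [Group K] [Finite K] {p : ℕ} [Fact p.Prime]

/-- The core of the fixed points is invariant under automorphisms commuting with `x`. -/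
theorem core_stable {x u : MulAut K} (h : u * x = x * u) {k : fixedPts x}
    (hk : k ∈ pPrimeCore p (fixedPts x)) :
    ∃ k' ∈ pPrimeCore p (fixedPts x), (k' : K) = u k := by
  have hu : ∀ y ∈ fixedPts x, u y ∈ fixedPts x := fun y hy => by
    show x (u y) = u y
    rw [← MulAut.mul_apply, ← h, MulAut.mul_apply, show x y = y from hy]
  let f : fixedPts x →* fixedPts x := (u.toMonoidHom.comp (fixedPts x).subtype).codRestrict _ fun y => hu _ y.2
  have hf : Function.Bijective f := Finite.injective_iff_bijective.mp fun a b e =>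
    Subtype.ext (u.injective (congrArg Subtype.val e))
  refine ⟨f k, ?_, rfl⟩
  have hn : ((pPrimeCore p (fixedPts x)).map f).Normal :=
    Subgroup.Normal.map (Cfsg.pPrimeCore_normal p _) f hf.2
  exact CfsgLib.PCore.le_pPrimeCore hn
    (CfsgLib.PCore.pPrimeCore_coprime.coprime_dvd_left (Subgroup.card_map_dvd _ f)) ⟨k, hk, rfl⟩

/-- The image in `Aut K` of the core of the fixed points. -/
def coreImage (p : ℕ) (x : MulAut K) : Subgroup (MulAut K) :=
  (pPrimeCore p (fixedPts x)).map ((MulAut.conj : K →* MulAut K).comp (fixedPts x).subtype)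

theorem coreImage_conj {x u : MulAut K} (h : u * x = x * u) {y : MulAut K}
    (hy : y ∈ coreImage p x) : u * y * u⁻¹ ∈ coreImage p x := by
  obtain ⟨k, hk, rfl⟩ := hy
  obtain ⟨k', hk', e⟩ := core_stable h hk
  refine ⟨k', hk', ?_⟩
  show MulAut.conj (k' : K) = u * MulAut.conj (k : K) * u⁻¹
  rw [conj_map, e]

theorem coreImage_odd (x : MulAut K) : Odd (Nat.card (coreImage 2 x)) := by
  have h : Nat.Coprime (Nat.card (pPrimeCore 2 (fixedPts x))) 2 := CfsgLib.PCore.pPrimeCore_coprime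
  exact Nat.coprime_two_right.mp (h.coprime_dvd_left (Subgroup.card_map_dvd _ _))

end CfsgLib.AutBalance

namespace CfsgLib.AutPSL

open Matrix Cfsg CfsgLib.FieldGalois CfsgLib.AutBalance

variable {n : ℕ} {F : Type*} [Field F]

/-- The form preserved by the fixed points of `conjAut g * (fieldAut σ * iotaAut)`. -/
abbrev gramOf (g : GL (Fin n) F) : Matrix (Fin n) (Fin n) F :=
  ((g⁻¹ : GL (Fin n) F) : Matrix (Fin n) (Fin n) F)ᵀ

/-- The automorphism `conjAut g * (fieldAut σ * iotaAut)`. -/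
noncomputable abbrev graphAut (g : GL (Fin n) F) (σ : F ≃+* F) : MulAut (PSLG n F) :=
  conjAut g * (fieldAut σ * iotaAut)

theorem graph_mul_conj (g h : GL (Fin n) F) (σ : F ≃+* F) :
    graphAut g σ * conjAut h = conjAut (g * glField σ (glIota h)) * (fieldAut σ * iotaAut) := by
  rw [graphAut, mul_assoc, zeta_mul_conjAut, ← mul_assoc, ← map_mul]

theorem scalar_mulVec'' (u : Fˣ) (x : Fin n → F) :
    ((Matrix.GeneralLinearGroup.scalar (Fin n) u : GL (Fin n) F) : Matrix (Fin n) (Fin n) F) *ᵥ x =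
      (u : F) • x := by
  simp [← Matrix.smul_one_eq_diagonal, Matrix.smul_mulVec]

theorem sesq_semi (σ τ : F ≃+* F) (hcomm : ∀ a, σ (τ a) = τ (σ a)) (H : Matrix (Fin n) (Fin n) F)
    (h : GL (Fin n) F) (c : F)
    (e : (h : Matrix (Fin n) (Fin n) F)ᵀ * H * (h : Matrix (Fin n) (Fin n) F).map σ = c • H.map τ)
    (x y : Fin n → F) :
    sesq σ H ((h : Matrix (Fin n) (Fin n) F) *ᵥ (τ ∘ x)) ((h : Matrix (Fin n) (Fin n) F) *ᵥ (τ ∘ y)) =
      c * τ (sesq σ H x y) := by
  have e1 : (σ ∘ ((h : Matrix (Fin n) (Fin n) F) *ᵥ (τ ∘ y)) : Fin n → F) =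
      (h : Matrix (Fin n) (Fin n) F).map σ *ᵥ (τ ∘ (σ ∘ y)) := by
    funext i; simp [Matrix.mulVec, dotProduct, map_sum, map_mul, hcomm]
  rw [sesq, e1, Matrix.mulVec_mulVec, dotProduct_mulVec,
    ← Matrix.vecMul_transpose (h : Matrix (Fin n) (Fin n) F) (τ ∘ x), Matrix.vecMul_vecMul,
    ← Matrix.mul_assoc, e, ← dotProduct_mulVec, Matrix.smul_mulVec, dotProduct_smul, smul_eq_mul, sesq]
  congr 1
  simp [Matrix.mulVec, dotProduct, map_sum, map_mul]

theorem mat_of_iso {σ : F ≃+* F} {H : Matrix (Fin n) (Fin n) F} {h : GL (Fin n) F}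
    (hh : h ∈ CfsgLib.Refl.isoG σ H) :
    (h : Matrix (Fin n) (Fin n) F)ᵀ * H * (h : Matrix (Fin n) (Fin n) F).map σ = H := by
  ext a b
  have e := mul_map_transpose_apply σ (h : Matrix (Fin n) (Fin n) F)ᵀ H a b
  rw [Matrix.transpose_transpose] at e
  have hs : ∀ i, (h : Matrix (Fin n) (Fin n) F)ᵀ i =
      (h : Matrix (Fin n) (Fin n) F) *ᵥ (Pi.single i 1 : Fin n → F) := fun i => by
    rw [Matrix.mulVec_single_one]; rfl
  rw [e, hs, hs, hh]
  have es : (σ ∘ (Pi.single b 1 : Fin n → F)) = Pi.single b 1 := by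
    funext k; simp [Pi.single_apply, apply_ite σ]
  rw [sesq, es, Matrix.mulVec_single_one, single_one_dotProduct]
  rfl

/-- Isometries commute with the graph automorphism. -/
theorem graph_commute_of_iso (g : GL (Fin n) F) (σ : F ≃+* F) {h : GL (Fin n) F}
    (hh : h ∈ CfsgLib.Refl.isoG σ (gramOf g)) :
    conjAut h * graphAut g σ = graphAut g σ * conjAut h := by
  set T := glField σ (glIota h) with hT
  have hTinv : ((T⁻¹ : GL (Fin n) F) : Matrix (Fin n) (Fin n) F) =
      (h : Matrix (Fin n) (Fin n) F)ᵀ.map σ := by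
    rw [hT, ← map_inv, glField_coe, glIota_inv_coe]
  have h1 := congrArg Matrix.transpose (mat_of_iso hh)
  rw [Matrix.transpose_mul, Matrix.transpose_mul, Matrix.transpose_transpose, Matrix.transpose_transpose,
    ← Matrix.mul_assoc, ← Matrix.transpose_map, ← hTinv, ← Units.val_mul, ← Units.val_mul] at h1
  have h2 : T⁻¹ * g⁻¹ * h = g⁻¹ := Units.ext h1
  have h3 : g * T = h * g := by
    calc g * T = g * T * g⁻¹ * g := by group
      _ = g * T * (T⁻¹ * g⁻¹ * h) * g := by rw [h2]
      _ = h * g := by group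
  rw [graph_mul_conj, ← hT, h3, graphAut, map_mul, mul_assoc]

theorem mk_mem_fixedPts (hn : 2 ≤ n) (g : GL (Fin n) F) (σ : F ≃+* F) {s : SLG n F}
    (hs : Matrix.SpecialLinearGroup.toGL s ∈ CfsgLib.Refl.isoG σ (gramOf g)) :
    (QuotientGroup.mk s : PSLG n F) ∈ fixedPts (graphAut g σ) := by
  show graphAut g σ (QuotientGroup.mk s : PSLG n F) = QuotientGroup.mk s
  apply pslConj_injective hn
  rw [← conj_map, ← conjAut_toGL, ← graph_commute_of_iso g σ hs, mul_inv_cancel_right]

/-- An element of the centralizer without graph part is a semisimilitude. -/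
theorem semisim_of_commute [Finite F] (hn : 2 ≤ n) (g : GL (Fin n) F) (σ τ : F ≃+* F) (h : GL (Fin n) F)
    (hc : conjAut h * fieldAut τ * graphAut g σ = graphAut g σ * (conjAut h * fieldAut τ)) :
    ∃ c : F, c ≠ 0 ∧ ∀ x y : Fin n → F,
      sesq σ (gramOf g) ((h : Matrix (Fin n) (Fin n) F) *ᵥ (τ ∘ x))
        ((h : Matrix (Fin n) (Fin n) F) *ᵥ (τ ∘ y)) = c * τ (sesq σ (gramOf g) x y) := by
  set T := glField σ (glIota h) with hT
  have e1 : conjAut h * fieldAut τ * graphAut g σ =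
      conjAut (h * glField τ g) * (fieldAut σ * iotaAut) * fieldAut τ := by
    have h2 : Commute (fieldAut σ * iotaAut : MulAut (PSLG n F)) (fieldAut τ) :=
      (commute_fieldAut_field τ σ).mul_left (commute_iota_field τ)
    calc conjAut h * fieldAut τ * (conjAut g * (fieldAut σ * iotaAut))
        = conjAut h * (fieldAut τ * conjAut g) * (fieldAut σ * iotaAut) := by group
      _ = conjAut h * (conjAut (glField τ g) * fieldAut τ) * (fieldAut σ * iotaAut) := by
          rw [fieldAut_mul_conjAut]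
      _ = conjAut (h * glField τ g) * (fieldAut τ * (fieldAut σ * iotaAut)) := by rw [map_mul]; group
      _ = _ := by rw [← h2.eq]; group
  have e2 : graphAut g σ * (conjAut h * fieldAut τ) =
      conjAut (g * T) * (fieldAut σ * iotaAut) * fieldAut τ := by
    rw [← mul_assoc, graph_mul_conj]
  rw [e1, e2, mul_left_inj, mul_left_inj, ← inv_mul_eq_one, ← map_inv, ← map_mul,
    conjAut_eq_one_iff hn] at hc
  obtain ⟨c, hc⟩ := hc
  refine ⟨(c⁻¹ : Fˣ), Units.ne_zero _, sesq_semi σ τ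
    (fun a => DFunLike.congr_fun (commute_ringAut σ τ).eq a) _ h _ ?_⟩
  set C := Matrix.GeneralLinearGroup.scalar (Fin n) c with hC
  have hT2 : T = g⁻¹ * (h * glField τ g) * C := by
    rw [inv_mul_eq_iff_eq_mul] at hc
    rw [mul_assoc, ← hc, inv_mul_cancel_left]
  have hfin : T⁻¹ * g⁻¹ * h = C⁻¹ * (glField τ g)⁻¹ := by rw [hT2]; group
  have hTinv : ((T⁻¹ : GL (Fin n) F) : Matrix (Fin n) (Fin n) F) =
      (h : Matrix (Fin n) (Fin n) F)ᵀ.map σ := by
    rw [hT, ← map_inv, glField_coe, glIota_inv_coe]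
  have h1 := congrArg (fun G : GL (Fin n) F => (G : Matrix (Fin n) (Fin n) F)ᵀ) hfin
  simp only [hC, ← map_inv, Units.val_mul, glField_coe, Matrix.transpose_mul] at h1
  rw [hTinv, Matrix.transpose_map, Matrix.transpose_transpose, ← Matrix.mul_assoc] at h1
  rw [h1, Matrix.GeneralLinearGroup.coe_scalar, Matrix.scalar_apply, Matrix.diagonal_transpose]
  ext a b
  simp [Matrix.mul_diagonal, mul_comm]

theorem det_refl {σ : F ≃+* F} {H : Matrix (Fin n) (Fin n) F} {a : Fin n → F}
    (ha : sesq σ H a a ≠ 0) :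
    (CfsgLib.Refl.refl σ H a : Matrix (Fin n) (Fin n) F).det = -1 := by
  show (CfsgLib.Refl.reflMat σ H a).det = -1
  rw [CfsgLib.Refl.reflMat, sub_eq_add_neg, ← neg_smul, ← Matrix.smul_vecMulVec,
    Matrix.vecMulVec_eq Unit, Matrix.det_one_add_replicateCol_mul_replicateRow, dotProduct_smul,
    dotProduct_comm, smul_eq_mul, show a ⬝ᵥ H *ᵥ (σ ∘ a) = sesq σ H a a from rfl]
  field_simp
  ring

/-- The symmetric and Hermitian case. -/
theorem graph_data [Fintype F] (hn : 3 ≤ n) (g : GL (Fin n) F) (σ : F ≃+* F)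
    (hσ : ∀ x, σ (σ x) = x) (h2 : (2 : F) ≠ 0)
    (hg : (g : Matrix (Fin n) (Fin n) F)ᵀ.map σ = g) :
    pPrimeCore 2 (fixedPts (graphAut g σ)) = ⊥ ∧
      ∀ (h : GL (Fin n) F) (τ : F ≃+* F),
        conjAut h * fieldAut τ * graphAut g σ = graphAut g σ * (conjAut h * fieldAut τ) →
        (∀ k ∈ fixedPts (graphAut g σ), (conjAut h * fieldAut τ : MulAut (PSLG n F)) k = k) →
        conjAut h * fieldAut τ = 1 := by
  classical
  have hn2 : 2 ≤ n := by omega
  set β := graphAut g σ with hβ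
  have hB : CfsgLib.Refl.IsForm σ (gramOf g) := by
    refine ⟨hσ, ?_, ?_, h2⟩
    · have e : glField σ (glIota g) = g⁻¹ := by
        rw [← _root_.inv_inj, inv_inv]
        apply Units.ext
        rw [← map_inv, glField_coe, glIota_inv_coe, hg]
      have e1 := congrArg (fun G : GL (Fin n) F => (G : Matrix (Fin n) (Fin n) F)ᵀ) e
      simp only [glField_coe, glIota_coe] at e1
      rw [Matrix.transpose_map, Matrix.transpose_transpose] at e1
      show ((g⁻¹ : GL (Fin n) F) : Matrix (Fin n) (Fin n) F)ᵀᵀ.map σ = _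
      rw [Matrix.transpose_transpose, e1]
    · rw [Matrix.det_transpose]
      exact ((Matrix.isUnit_iff_isUnit_det _).mp (g⁻¹).isUnit).ne_zero
  set ρ : CfsgLib.Refl.isoG σ (gramOf g) →* MulAut (PSLG n F) :=
    conjAut.comp (CfsgLib.Refl.isoG σ (gramOf g)).subtype with hρdef
  have hρ : ∀ t, ρ t = 1 → ∃ u : Fˣ, (t : GL (Fin n) F) = Matrix.GeneralLinearGroup.scalar (Fin n) u :=
    fun t ht => (conjAut_eq_one_iff hn2).mp ht
  have hRc : ∀ a, CfsgLib.Refl.R hB ρ a * β = β * CfsgLib.Refl.R hB ρ a := fun a =>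
    graph_commute_of_iso g σ (CfsgLib.Refl.refl_mem hB a)
  have hRe : ∀ a, CfsgLib.Refl.R hB ρ a = conjAut (CfsgLib.Refl.refl σ (gramOf g) a) := fun a => rfl
  -- semisimilitudes permute the reflections
  have himg : ∀ (h : GL (Fin n) F) (τ : F ≃+* F),
      conjAut h * fieldAut τ * β = β * (conjAut h * fieldAut τ) → ∀ a, sesq σ (gramOf g) a a ≠ 0 →
      sesq σ (gramOf g) ((h : Matrix (Fin n) (Fin n) F) *ᵥ (τ ∘ a))
        ((h : Matrix (Fin n) (Fin n) F) *ᵥ (τ ∘ a)) ≠ 0 ∧
      conjAut h * fieldAut τ * CfsgLib.Refl.R hB ρ a * (conjAut h * fieldAut τ)⁻¹ =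
        CfsgLib.Refl.R hB ρ ((h : Matrix (Fin n) (Fin n) F) *ᵥ (τ ∘ a)) := by
    intro h τ hc a ha
    obtain ⟨c, hc0, hsim⟩ := semisim_of_commute hn2 g σ τ h hc
    refine ⟨by rw [hsim]; exact mul_ne_zero hc0 ((map_ne_zero τ).mpr ha), ?_⟩
    have e := CfsgLib.Refl.semi_refl h τ c hc0 hsim a
    rw [hRe, hRe, _root_.mul_inv_rev]
    calc conjAut h * fieldAut τ * conjAut (CfsgLib.Refl.refl σ (gramOf g) a) *
          ((fieldAut τ)⁻¹ * (conjAut h)⁻¹)
        = conjAut h * (fieldAut τ * conjAut (CfsgLib.Refl.refl σ (gramOf g) a)) *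
          (fieldAut τ)⁻¹ * (conjAut h)⁻¹ := by group
      _ = conjAut h * conjAut (glField τ (CfsgLib.Refl.refl σ (gramOf g) a)) * (conjAut h)⁻¹ := by
          rw [fieldAut_mul_conjAut]; group
      _ = _ := by
          rw [← map_mul, ← map_inv, ← map_mul, glField, e, mul_inv_cancel_right]
  -- automorphisms without graph part commuting with all reflections are trivial
  have htriv : ∀ (h : GL (Fin n) F) (τ : F ≃+* F),
      conjAut h * fieldAut τ * β = β * (conjAut h * fieldAut τ) →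
      (∀ a, sesq σ (gramOf g) a a ≠ 0 → (conjAut h * fieldAut τ) * CfsgLib.Refl.R hB ρ a =
        CfsgLib.Refl.R hB ρ a * (conjAut h * fieldAut τ)) → conjAut h * fieldAut τ = 1 := by
    intro h τ hc hall
    obtain ⟨hs, rfl⟩ := CfsgLib.Refl.eq_scalar_of_lines hB hn h τ fun a ha => by
      obtain ⟨-, e⟩ := himg h τ hc a ha
      rw [hall a ha, mul_inv_cancel_right] at e
      obtain ⟨μ, hμ⟩ := CfsgLib.Refl.par_of_R_eq hB ρ hρ hn ha e
      refine ⟨μ⁻¹, ?_⟩
      have hμ0 : μ ≠ 0 := fun h0 => ha (by rw [hμ, h0, zero_smul, CfsgLib.Refl.sesq_zero_left])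
      calc (h : Matrix (Fin n) (Fin n) F) *ᵥ (τ ∘ a)
          = μ⁻¹ • μ • ((h : Matrix (Fin n) (Fin n) F) *ᵥ (τ ∘ a)) := by
            rw [smul_smul, inv_mul_cancel₀ hμ0, one_smul]
        _ = μ⁻¹ • a := by rw [← hμ]
    rw [(conjAut_eq_one_iff hn2).mpr hs, map_one, one_mul]
  refine ⟨?_, fun h τ hc hfix => ?_⟩
  · rw [eq_bot_iff]
    intro k hk
    have hy : MulAut.conj (k.1 : PSLG n F) ∈ coreImage 2 β := ⟨k, hk, rfl⟩
    have hcent := CfsgLib.Refl.centralizes_of_odd hB ρ hρ hn (coreImage 2 β) (coreImage_odd β)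
      (fun a ha y hy => by
        have h1 := coreImage_conj (hRc a) hy
        rwa [inv_eq_of_mul_eq_one_left (CfsgLib.Refl.R_mul_self hB ρ a)] at h1)
      (fun y hy a ha => by
        obtain ⟨k', hk', rfl⟩ := hy
        obtain ⟨s, hs⟩ := QuotientGroup.mk_surjective (k'.1 : PSLG n F)
        have e : ((MulAut.conj : PSLG n F →* MulAut (PSLG n F)).comp (fixedPts β).subtype) k' =
            conjAut (Matrix.SpecialLinearGroup.toGL s) * fieldAut 1 := by
          rw [map_one, mul_one, conjAut_toGL, hs]; rfl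
        have hc' : conjAut (Matrix.SpecialLinearGroup.toGL s) * fieldAut 1 * β =
            β * (conjAut (Matrix.SpecialLinearGroup.toGL s) * fieldAut 1) := by
          rw [← e]; exact Subgroup.mem_centralizer_singleton_iff.mp (conj_mem_centralizer k'.2)
        rw [e]
        obtain ⟨h1, h2⟩ := himg _ 1 hc' a ha
        exact ⟨_, h1, h2⟩)
    obtain ⟨s, hs⟩ := QuotientGroup.mk_surjective (k.1 : PSLG n F)
    have e : MulAut.conj (k.1 : PSLG n F) = conjAut (Matrix.SpecialLinearGroup.toGL s) * fieldAut 1 := by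
      rw [map_one, mul_one, conjAut_toGL, hs]
    have := htriv (Matrix.SpecialLinearGroup.toGL s) 1
      (by rw [← e]; exact Subgroup.mem_centralizer_singleton_iff.mp (conj_mem_centralizer k.2))
      (fun a ha => by rw [← e]; exact hcent _ hy a ha)
    rw [← e] at this
    rw [Subgroup.mem_bot]
    exact Subtype.ext (pslConj_injective hn2 (this.trans (map_one _).symm))
  · refine htriv h τ hc (CfsgLib.Refl.commutes_of_fix hB ρ hρ hn _
      (fun a ha => ⟨_, himg h τ hc a ha⟩) fun a b ha hb => ?_)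
    have hd : ((CfsgLib.Refl.refl σ (gramOf g) a : Matrix (Fin n) (Fin n) F) *
        CfsgLib.Refl.refl σ (gramOf g) b).det = 1 := by
      rw [Matrix.det_mul, det_refl ha, det_refl hb, neg_mul_neg, one_mul]
    let s : SLG n F := ⟨_, hd⟩
    set k : PSLG n F := QuotientGroup.mk s
    have hk : CfsgLib.Refl.R hB ρ a * CfsgLib.Refl.R hB ρ b = MulAut.conj k := by
      rw [hRe, hRe, ← map_mul, ← conjAut_toGL]
      exact congrArg _ (Units.ext rfl)
    have hkfix : k ∈ fixedPts β := by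
      show β k = k
      apply pslConj_injective hn2
      rw [← conj_map, ← hk, mul_inv_eq_iff_eq_mul, ← mul_assoc, ← hRc, mul_assoc, ← hRc, ← mul_assoc]
    rw [hk, conj_map, hfix k hkfix]

section Skew

variable {m : ℕ}

theorem vecMul_ne_zero (g : GL (Fin n) F) {v : Fin n → F} (hv : v ≠ 0) :
    v ᵥ* (g : Matrix (Fin n) (Fin n) F) ≠ 0 := fun h =>
  hv (Matrix.vecMul_injective_iff_isUnit.2 g.isUnit (h.trans (Matrix.zero_vecMul _).symm))

theorem mulVec_ne_zero (g : GL (Fin n) F) {v : Fin n → F} (hv : v ≠ 0) :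
    (g : Matrix (Fin n) (Fin n) F) *ᵥ v ≠ 0 := fun h =>
  hv (Matrix.mulVec_injective_iff_isUnit.2 g.isUnit (h.trans (Matrix.mulVec_zero _).symm))

theorem skew_inv {g : GL (Fin n) F} (hg : (g : Matrix (Fin n) (Fin n) F)ᵀ = -g) :
    ((g⁻¹ : GL (Fin n) F) : Matrix (Fin n) (Fin n) F)ᵀ = -(g⁻¹ : GL (Fin n) F).1 := by
  have h1 := congrArg Matrix.transpose (congrArg Units.val (mul_inv_cancel g))
  simp only [Units.val_mul, Matrix.transpose_mul, Units.val_one, Matrix.transpose_one, hg] at h1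
  rw [mul_neg, ← neg_mul] at h1
  have := congrArg (fun A => A * ((g⁻¹ : GL (Fin n) F) : Matrix (Fin n) (Fin n) F)) h1
  simp only [Matrix.mul_assoc, ← Units.val_mul, mul_inv_cancel, Units.val_one, mul_one, one_mul] at this
  exact neg_eq_iff_eq_neg.mp this

/-- The symplectic case, without graph part. -/
theorem skew_hC [Fintype F] (hn : 2 ≤ n) (g : GL (Fin n) F) (h2 : (2 : F) ≠ 0)
    (hg : (g : Matrix (Fin n) (Fin n) F)ᵀ = -g) (h : GL (Fin n) F) (τ : F ≃+* F)
    (hfix : ∀ s : SLG n F, Matrix.SpecialLinearGroup.toGL s ∈ CfsgLib.Refl.isoG (1 : F ≃+* F) (gramOf g) →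
      (conjAut h * fieldAut τ : MulAut (PSLG n F)) (QuotientGroup.mk s) = QuotientGroup.mk s) :
    conjAut h * fieldAut τ = 1 := by
  obtain ⟨hs, rfl⟩ := CfsgLib.Refl.eq_scalar_of_all_lines hn h τ fun v => by
    by_cases hv : v = 0
    · exact ⟨0, by subst hv; funext k; simp [Matrix.mulVec, dotProduct]⟩
    set φ := ((g⁻¹ : GL (Fin n) F) : Matrix (Fin n) (Fin n) F) *ᵥ v with hφ
    have hd : φ ⬝ᵥ v = 0 := by
      have e : φ ⬝ᵥ v = -(φ ⬝ᵥ v) := by
        conv_lhs => rw [hφ, dotProduct_comm, dotProduct_mulVec, ← Matrix.mulVec_transpose, skew_inv hg,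
          Matrix.neg_mulVec, neg_dotProduct, ← hφ]
      have : (2 : F) * (φ ⬝ᵥ v) = 0 := by linear_combination e
      exact (mul_eq_zero.mp this).resolve_left h2
    have hd' : v ⬝ᵥ φ = 0 := by rw [dotProduct_comm, hd]
    have e1 : (g : Matrix (Fin n) (Fin n) F) *ᵥ φ = v := by
      rw [hφ, Matrix.mulVec_mulVec, ← Units.val_mul, mul_inv_cancel, Units.val_one, Matrix.one_mulVec]
    have e2 : v ᵥ* ((g⁻¹ : GL (Fin n) F) : Matrix (Fin n) (Fin n) F) = -φ := by
      rw [← Matrix.mulVec_transpose, skew_inv hg, Matrix.neg_mulVec]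
    have hmem : Matrix.SpecialLinearGroup.toGL (slRoot v φ 1) ∈
        CfsgLib.Refl.isoG (1 : F ≃+* F) (gramOf g) := by
      intro u w
      have hT : ∀ x : Fin n → F, ((Matrix.SpecialLinearGroup.toGL (slRoot v φ 1) : GL (Fin n) F) :
          Matrix (Fin n) (Fin n) F) *ᵥ x = x + (φ ⬝ᵥ x) • v := by
        intro x
        show (slRoot v φ 1).1 *ᵥ x = _
        rw [slRoot_coe hd, one_smul, Matrix.add_mulVec, Matrix.one_mulVec, Matrix.vecMulVec_mulVec,
          op_smul_eq_smul]
      have e3 : ∀ x, sesq (1 : F ≃+* F) (gramOf g) v x = φ ⬝ᵥ x := by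
        intro x
        rw [sesq, dotProduct_mulVec, gramOf, Matrix.vecMul_transpose, ← hφ]
        rfl
      have e4 : ∀ x, sesq (1 : F ≃+* F) (gramOf g) x v = -(φ ⬝ᵥ x) := by
        intro x
        show x ⬝ᵥ gramOf g *ᵥ v = _
        rw [gramOf, skew_inv hg, Matrix.neg_mulVec, dotProduct_neg, ← hφ, dotProduct_comm]
      simp only [hT, sesq_add_left, sesq_add_right, sesq_smul_left, sesq_smul_right, e3, e4, hd,
        RingAut.one_apply, dotProduct_add, dotProduct_smul, smul_eq_mul]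
      ring
    have e := hfix _ hmem
    rw [show (QuotientGroup.mk (slRoot v φ 1) : PSLG n F) = rootEl v φ 1 from rfl] at e
    have hdτ : (τ ∘ φ : Fin n → F) ⬝ᵥ (τ ∘ v) = 0 := by
      rw [← map_zero τ, ← hd]; simp [dotProduct, map_sum, map_mul]
    rw [MulAut.mul_apply, fieldAut_rootEl τ hd, conjAut_rootEl h hdτ] at e
    have e' := root_one_eq (by omega) (by rw [dot_conj]; exact hdτ) hd e
    rw [map_one, one_smul, one_smul] at e'
    have hφ0 : (τ ∘ φ : Fin n → F) ≠ 0 := fun h0 => mulVec_ne_zero g⁻¹ hv (funext fun i => by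
      have := congrFun h0 i
      simpa [hφ] using this)
    obtain ⟨l, hl⟩ := Function.ne_iff.mp (vecMul_ne_zero h⁻¹ hφ0)
    refine ⟨φ l / ((τ ∘ φ) ᵥ* ((h⁻¹ : GL (Fin n) F) : Matrix (Fin n) (Fin n) F)) l, funext fun i => ?_⟩
    have := congrFun (congrFun e' i) l
    rw [vecMulVec_apply, vecMulVec_apply] at this
    rw [Pi.smul_apply, smul_eq_mul, div_mul_eq_mul_div, eq_div_iff hl]
    linear_combination this
  rw [(conjAut_eq_one_iff hn).mpr hs, map_one, one_mul]

theorem exists_symp_congr [Fintype F] (g : GL (Fin n) F) (h2 : (2 : F) ≠ 0)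
    (hg : (g : Matrix (Fin n) (Fin n) F)ᵀ = -g) :
    ∃ (m : ℕ) (e : Fin m ⊕ Fin m ≃ Fin n) (P : GL (Fin n) F),
      (P : Matrix (Fin n) (Fin n) F)ᵀ * ((g⁻¹ : GL (Fin n) F) : Matrix (Fin n) (Fin n) F) * P =
        Matrix.reindex e e (Matrix.J (Fin m) F) := by
  classical
  set M := ((g⁻¹ : GL (Fin n) F) : Matrix (Fin n) (Fin n) F) with hM
  have hdet : M.det ≠ 0 := ((Matrix.isUnit_iff_isUnit_det _).mp (g⁻¹).isUnit).ne_zero
  have hev : Even n := by
    by_contra hne
    have h1 := congrArg Matrix.det (skew_inv hg)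
    rw [Matrix.det_transpose, Matrix.det_neg, Fintype.card_fin, (Nat.not_even_iff_odd.mp hne).neg_one_pow,
      neg_one_mul] at h1
    exact hdet ((mul_eq_zero.mp (show (2 : F) * M.det = 0 by linear_combination h1)).resolve_left h2)
  obtain ⟨m, rfl⟩ := hev
  have hA : (Matrix.toBilin' M).IsAlt := fun v => by
    rw [Matrix.toBilin'_apply']
    have e : v ⬝ᵥ M *ᵥ v = -(v ⬝ᵥ M *ᵥ v) := by
      conv_lhs => rw [dotProduct_mulVec, ← Matrix.mulVec_transpose, skew_inv hg, Matrix.neg_mulVec,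
        neg_dotProduct, dotProduct_comm]
    have : (2 : F) * (v ⬝ᵥ M *ᵥ v) = 0 := by linear_combination e
    exact (mul_eq_zero.mp this).resolve_left h2
  obtain ⟨c, hc⟩ := CfsgLib.AutPSp.exists_symp_cols (m := m) (Matrix.toBilin' M) hA
    (LinearMap.BilinForm.nondegenerate_toBilin'_of_det_ne_zero' _ hdet).1 (by simp)
  let e : Fin m ⊕ Fin m ≃ Fin (m + m) := finSumFinEquiv
  set P : Matrix (Fin (m + m)) (Fin (m + m)) F := Matrix.of fun k j => c (e.symm j) k with hP
  have key : Pᵀ * M * P = Matrix.reindex e e (Matrix.J (Fin m) F) := by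
    ext i j
    have := hc (e.symm i) (e.symm j)
    rw [Matrix.toBilin'_apply', Cfsg.sympForm, Matrix.mulVec_single_one, single_one_dotProduct] at this
    rw [Matrix.reindex_apply, Matrix.submatrix_apply]
    refine Eq.trans ?_ this
    rw [Matrix.mul_assoc, Matrix.mul_apply]
    simp only [dotProduct, hP, Matrix.transpose_apply, Matrix.of_apply]
    rfl
  have hPdet : P.det ≠ 0 := fun h0 => by
    have h1 := congrArg Matrix.det key
    rw [Matrix.det_mul, h0, mul_zero, Matrix.det_reindex_self] at h1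
    exact (Matrix.isUnit_det_J (Fin m) F).ne_zero h1.symm
  exact ⟨m, e, Matrix.GeneralLinearGroup.mkOfDetNeZero P hPdet, key⟩

theorem skew_core [Fintype F] (hn : 3 ≤ n) (g : GL (Fin n) F) (h2 : (2 : F) ≠ 0)
    (hg : (g : Matrix (Fin n) (Fin n) F)ᵀ = -g) :
    pPrimeCore 2 (fixedPts (graphAut g (1 : F ≃+* F))) = ⊥ := by
  classical
  have hn2 : 2 ≤ n := by omega
  set β := graphAut g (1 : F ≃+* F)
  obtain ⟨m, e, P, hP⟩ := exists_symp_congr g h2 hg
  have hnm : n = m + m := by
    have := Fintype.card_congr e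
    simp at this
    omega
  set M := ((g⁻¹ : GL (Fin n) F) : Matrix (Fin n) (Fin n) F) with hM
  let Φ : Matrix (Fin m ⊕ Fin m) (Fin m ⊕ Fin m) F →* Matrix (Fin n) (Fin n) F :=
    MonoidHom.mk
      ⟨fun A => (P : Matrix (Fin n) (Fin n) F) * Matrix.reindexAlgEquiv F F e A * (P⁻¹ : GL (Fin n) F).1,
        by rw [map_one, mul_one, ← Units.val_mul, mul_inv_cancel, Units.val_one]⟩
      fun A B => by
        show _ * Matrix.reindexAlgEquiv F F e (A * B) * _ = (_ * _ * _) * (_ * _ * _)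
        rw [map_mul]
        simp only [← Matrix.mul_assoc]
        congr 2
        simp only [Matrix.mul_assoc, ← Units.val_mul, inv_mul_cancel, Units.val_one, mul_one]
  have hΦiso : ∀ A : Matrix (Fin m ⊕ Fin m) (Fin m ⊕ Fin m) F,
      Aᵀ * Matrix.J (Fin m) F * A = Matrix.J (Fin m) F ↔ (Φ A)ᵀ * M * Φ A = M := by
    intro A
    have hJ : Matrix.reindex e e (Matrix.J (Fin m) F) = Matrix.reindexAlgEquiv F F e (Matrix.J (Fin m) F) :=
      rfl
    have hA : (Φ A)ᵀ * M * Φ A = ((P⁻¹ : GL (Fin n) F).1)ᵀ *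
        Matrix.reindexAlgEquiv F F e (Aᵀ * Matrix.J (Fin m) F * A) * (P⁻¹ : GL (Fin n) F).1 := by
      rw [map_mul, map_mul, ← hJ, ← hP]
      rw [show Φ A = (P : Matrix (Fin n) (Fin n) F) * Matrix.reindexAlgEquiv F F e A *
        (P⁻¹ : GL (Fin n) F).1 from rfl,
        show Matrix.reindexAlgEquiv F F e Aᵀ = (Matrix.reindexAlgEquiv F F e A)ᵀ from rfl]
      rw [Matrix.transpose_mul, Matrix.transpose_mul]
      simp only [Matrix.mul_assoc]
    have hM' : M = ((P⁻¹ : GL (Fin n) F).1)ᵀ * Matrix.reindexAlgEquiv F F e (Matrix.J (Fin m) F) *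
        (P⁻¹ : GL (Fin n) F).1 := by
      rw [← hJ, ← hP]
      simp only [Matrix.mul_assoc, ← Units.val_mul, mul_inv_cancel, Units.val_one, mul_one]
      rw [← Matrix.mul_assoc, ← Matrix.transpose_mul, ← Units.val_mul, mul_inv_cancel, Units.val_one,
        Matrix.transpose_one, one_mul]
    constructor
    · intro h
      rw [hA, h, ← hM']
    · intro h
      rw [hA] at h
      replace h := h.trans hM'
      have hu := (P⁻¹ : GL (Fin n) F).isUnit
      have h' := ((Matrix.isUnit_iff_isUnit_det _).mpr (by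
        rw [Matrix.det_transpose]; exact (Matrix.isUnit_iff_isUnit_det _).mp hu) :
          IsUnit ((P⁻¹ : GL (Fin n) F).1)ᵀ).mul_left_cancel (hu.mul_right_cancel h)
      exact (Matrix.reindexAlgEquiv F F e).injective h'
  have hdetΦ : ∀ A : AutPSp.SpG m F, (Φ A.1).det = 1 := by
    intro A
    show ((P : Matrix (Fin n) (Fin n) F) * Matrix.reindexAlgEquiv F F e A.1 * _).det = 1
    rw [det_gl_conj, Matrix.det_reindexAlgEquiv, SymplecticGroup.det_eq_one A.2]
  let up : AutPSp.SpG m F →* SLG n F := MonoidHom.mk' (fun A => ⟨Φ A.1, hdetΦ A⟩)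
    fun A B => Subtype.ext (map_mul Φ _ _)
  have hupM : ∀ A : AutPSp.SpG m F, (up A).1ᵀ * M * (up A).1 = M := fun A =>
    (hΦiso A.1).mp (SymplecticGroup.mem_iff'.mp A.2)
  have hupiso : ∀ A : AutPSp.SpG m F, Matrix.SpecialLinearGroup.toGL (up A) ∈
      CfsgLib.Refl.isoG (1 : F ≃+* F) (gramOf g) := by
    intro A u v
    have h1 := sesq_semi (1 : F ≃+* F) 1 (fun a => rfl) (gramOf g) (Matrix.SpecialLinearGroup.toGL (up A)) 1 (by
      have h0 := congrArg Matrix.transpose (hupM A)
      rw [Matrix.transpose_mul, Matrix.transpose_mul, Matrix.transpose_transpose, ← Matrix.mul_assoc] at h0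
      rw [one_smul]
      exact h0) u v
    simpa using h1
  let j : AutPSp.SpG m F →* fixedPts β :=
    ((QuotientGroup.mk' (Subgroup.center (SLG n F))).comp up).codRestrict _ fun A =>
      mk_mem_fixedPts hn2 g 1 (hupiso A)
  have hup : ∀ A : AutPSp.SpG m F, up A ∈ Subgroup.center (SLG n F) ↔
      A ∈ Subgroup.center (AutPSp.SpG m F) := by
    intro A
    rw [CfsgLib.Sp.mem_center_iff]
    constructor
    · intro hA
      obtain ⟨r, hr⟩ := scalar_of_mem_center hA
      have hr' : Φ A.1 = Matrix.scalar (Fin n) r := hr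
      have h3 : Matrix.reindexAlgEquiv F F e A.1 = Matrix.scalar (Fin n) r := by
        have h4 := congrArg (fun X => (P⁻¹ : GL (Fin n) F).1 * X * (P : Matrix (Fin n) (Fin n) F)) hr'
        rw [show Φ A.1 = (P : Matrix (Fin n) (Fin n) F) * Matrix.reindexAlgEquiv F F e A.1 * _ from rfl] at h4
        simp only [Matrix.mul_assoc, ← Units.val_mul, inv_mul_cancel, Units.val_one, mul_one] at h4
        rw [← Matrix.mul_assoc, ← Units.val_mul, inv_mul_cancel, Units.val_one, one_mul,
          (Matrix.scalar_commute r (fun r => mul_comm _ _) _).eq, ← Matrix.mul_assoc, ← Units.val_mul,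
          inv_mul_cancel, Units.val_one, one_mul] at h4
        exact h4
      have h5 : A.1 = Matrix.scalar (Fin m ⊕ Fin m) r := by
        apply (Matrix.reindexAlgEquiv F F e).injective
        rw [h3]
        ext a b
        simp [Matrix.diagonal_apply]
      have hm : 0 < m := by omega
      have hr1 : r * r = 1 := by
        have h6 := congrFun (congrFun (SymplecticGroup.mem_iff'.mp A.2) (.inl ⟨0, hm⟩)) (.inr ⟨0, hm⟩)
        rw [h5] at h6
        simp [Matrix.J, Matrix.mul_apply, Matrix.diagonal_apply] at h6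
        linear_combination h6
      rcases mul_self_eq_one_iff.mp hr1 with h | h
      · exact Or.inl (by rw [h5, h, map_one])
      · exact Or.inr (by rw [h5, h, map_neg, map_one])
    · intro h
      obtain ⟨r, hr⟩ : ∃ r : F, A.1 = Matrix.scalar _ r := by
        rcases h with h | h
        · exact ⟨1, by rw [h, map_one]⟩
        · exact ⟨-1, by rw [h, map_neg, map_one]⟩
      refine mem_center_of_scalar (r := r) ?_
      show (P : Matrix (Fin n) (Fin n) F) * Matrix.reindexAlgEquiv F F e A.1 * _ = _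
      have h3 : Matrix.reindexAlgEquiv F F e A.1 = Matrix.scalar (Fin n) r := by
        rw [hr]; ext a b; simp [Matrix.diagonal_apply]
      rw [h3, ← (Matrix.scalar_commute r (fun r => mul_comm _ _) _).eq, Matrix.mul_assoc,
        ← Units.val_mul, mul_inv_cancel, Units.val_one, mul_one]
  have hsurj : ∀ t : GL (Fin n) F, (t : Matrix (Fin n) (Fin n) F).det = 1 →
      t ∈ CfsgLib.Refl.isoG (1 : F ≃+* F) (gramOf g) →
      ∃ A : AutPSp.SpG m F, (up A).1 = (t : Matrix (Fin n) (Fin n) F) := by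
    intro t _ htiso
    let A0 : Matrix (Fin m ⊕ Fin m) (Fin m ⊕ Fin m) F := (Matrix.reindexAlgEquiv F F e).symm
      ((P⁻¹ : GL (Fin n) F).1 * (t : Matrix (Fin n) (Fin n) F) * P)
    have hΦA0 : Φ A0 = (t : Matrix (Fin n) (Fin n) F) := by
      show (P : Matrix (Fin n) (Fin n) F) * Matrix.reindexAlgEquiv F F e A0 * _ = _
      rw [AlgEquiv.apply_symm_apply]
      simp only [← Units.val_mul]
      congr 1
      group
    refine ⟨⟨A0, SymplecticGroup.mem_iff'.mpr ((hΦiso A0).mpr ?_)⟩, hΦA0⟩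
    rw [hΦA0]
    have h0 := congrArg Matrix.transpose (mat_of_iso htiso)
    rw [Matrix.transpose_mul, Matrix.transpose_mul, Matrix.transpose_transpose, ← Matrix.mul_assoc,
      Matrix.transpose_transpose] at h0
    exact h0
  set N := pPrimeCore 2 (fixedPts β)
  have hNn : N.Normal := Cfsg.pPrimeCore_normal 2 _
  have hNc : N.comap j ≤ Subgroup.center (AutPSp.SpG m F) := by
    by_contra hne
    have := hNn.comap j
    have hdvd : 2 ∣ Nat.card (AutPSp.SpG m F) := by
      set J0 : AutPSp.SpG m F := ⟨_, SymplecticGroup.J_mem (Fin m) F⟩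
      have hJ4 : J0 ^ 4 = 1 := by
        apply Subtype.ext
        rw [SubmonoidClass.coe_pow]
        show (Matrix.J (Fin m) F) ^ 4 = 1
        rw [show (4 : ℕ) = 2 * 2 from rfl, pow_mul, pow_two (Matrix.J (Fin m) F), Matrix.J_squared]
        simp [pow_two]
      have hJ1 : orderOf J0 ≠ 1 := fun h => by
        rw [orderOf_eq_one_iff] at h
        have := congrFun (congrFun (congrArg Subtype.val h) (.inl ⟨0, by omega⟩)) (.inl ⟨0, by omega⟩)
        simp [J0, Matrix.J] at this
      obtain ⟨i, -, hi⟩ := (Nat.dvd_prime_pow Nat.prime_two).mp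
        (show orderOf J0 ∣ 2 ^ 2 from orderOf_dvd_of_pow_eq_one hJ4)
      exact (dvd_pow_self 2 (show i ≠ 0 from fun h => hJ1 (by rw [hi, h, pow_zero]))).trans
        (hi ▸ orderOf_dvd_natCard J0)
    obtain ⟨y, hy, hy1, hyp⟩ := CfsgLib.AutPSp.exists_order_of_normal (p := 2) (by omega)
      (fun h => absurd h h2) hdvd (N.comap j) hne
    have hjp : (j y) ^ 2 = 1 := by
      rw [← map_pow]
      apply Subtype.ext
      refine (QuotientGroup.eq_one_iff _).mpr ((hup _).mpr ?_)
      exact (QuotientGroup.eq_one_iff _).mp ((QuotientGroup.mk_pow _ y 2).trans hyp)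
    have ho : orderOf (⟨j y, hy⟩ : N) = 2 :=
      orderOf_eq_prime (Subtype.ext hjp) fun e => hy1 ((QuotientGroup.eq_one_iff _).mpr
        ((hup y).mp ((QuotientGroup.eq_one_iff _).mp (congrArg Subtype.val (congrArg Subtype.val e)))))
    exact CfsgLib.PCore.not_dvd_card_pPrimeCore (ho ▸ orderOf_dvd_natCard _)
  rw [eq_bot_iff]
  intro k hk
  obtain ⟨s, hs⟩ := QuotientGroup.mk_surjective (k.1 : PSLG n F)
  set h := Matrix.SpecialLinearGroup.toGL s with hh
  have hconj : conjAut h * fieldAut 1 = MulAut.conj (k.1 : PSLG n F) := by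
    rw [map_one, mul_one, hh, conjAut_toGL, hs]
  -- `k` centralises the image of the symplectic group
  have hcent : ∀ A : AutPSp.SpG m F, k * j A * k⁻¹ = j A := by
    intro A
    obtain ⟨c, hc0, hsim⟩ := semisim_of_commute hn2 g 1 1 h (by
      rw [hconj]; exact Subgroup.mem_centralizer_singleton_iff.mp (conj_mem_centralizer k.2))
    set t := h * Matrix.SpecialLinearGroup.toGL (up A) * h⁻¹ with ht
    have htiso : t ∈ CfsgLib.Refl.isoG (1 : F ≃+* F) (gramOf g) := by
      intro u v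
      have e1 : ∀ w : Fin n → F, (t : Matrix (Fin n) (Fin n) F) *ᵥ w = (h : Matrix (Fin n) (Fin n) F) *ᵥ
          ((Matrix.SpecialLinearGroup.toGL (up A) : Matrix (Fin n) (Fin n) F) *ᵥ
            (((h⁻¹ : GL (Fin n) F) : Matrix (Fin n) (Fin n) F) *ᵥ w)) := fun w => by
        rw [ht, Units.val_mul, Units.val_mul, Matrix.mulVec_mulVec, Matrix.mulVec_mulVec, Matrix.mul_assoc]
      have e2 : ∀ w : Fin n → F, (h : Matrix (Fin n) (Fin n) F) *ᵥ
          (((h⁻¹ : GL (Fin n) F) : Matrix (Fin n) (Fin n) F) *ᵥ w) = w := fun w => by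
        rw [Matrix.mulVec_mulVec, ← Units.val_mul, mul_inv_cancel, Units.val_one, Matrix.one_mulVec]
      have h1 := fun x y => hsim x y
      simp only [RingAut.one_apply] at h1
      have e3 : ∀ w : Fin n → F, ((1 : F ≃+* F) : F → F) ∘ w = w := fun w => rfl
      simp only [e3] at h1
      rw [e1, e1, h1, hupiso A]
      conv_rhs => rw [← e2 u, ← e2 v, h1]
    have htdet : (t : Matrix (Fin n) (Fin n) F).det = 1 := by
      rw [ht, Units.val_mul, Units.val_mul, det_gl_conj]; exact (up A).2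
    obtain ⟨A', hA'⟩ := hsurj t htdet htiso
    have hkey : j A' = k * j A * k⁻¹ := by
      apply Subtype.ext
      have h3 := DFunLike.congr_fun hconj (QuotientGroup.mk (up A) : PSLG n F)
      rw [map_one, mul_one, conjAut_mk, MulAut.conj_apply] at h3
      refine (congrArg (QuotientGroup.mk : SLG n F → PSLG n F) (Subtype.ext ?_)).trans h3
      show (up A').1 = _
      rw [hA', slConj_coe, ht]
      rfl
    have hcm : k * j A * k⁻¹ * (j A)⁻¹ ∈ N := by
      rw [mul_assoc k, mul_assoc k]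
      exact N.mul_mem hk (hNn.conj_mem _ (N.inv_mem hk) _)
    rw [← hkey, ← map_inv, ← map_mul] at hcm
    have h1 : j (A' * A⁻¹) = 1 := by
      apply Subtype.ext
      exact (QuotientGroup.eq_one_iff _).mpr ((hup _).mpr (hNc hcm))
    rwa [map_mul, map_inv, mul_inv_eq_one, hkey] at h1
  have hone := skew_hC hn2 g h2 hg h 1 fun r hr => by
    obtain ⟨A, hA⟩ := hsurj (Matrix.SpecialLinearGroup.toGL r) r.2 hr
    have e1 := congrArg Subtype.val (hcent A)
    rw [hconj, MulAut.conj_apply,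
      show (QuotientGroup.mk r : PSLG n F) = (j A).1 from (congrArg (QuotientGroup.mk : SLG n F → PSLG n F) (Subtype.ext hA)).symm]
    exact e1
  rw [hconj] at hone
  rw [Subgroup.mem_bot]
  exact Subtype.ext (pslConj_injective hn2 (hone.trans (map_one _).symm))

end Skew

end CfsgLib.AutPSL
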