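import Cfsg.Agent.Lib.AutPSL.Coset
import Cfsg.Agent.Lib.AutPSL.Hermitian
import Cfsg.Prelude.Def_LieClassical

/-!
Centralizers in `PGL_n` of standard field and graph-field automorphisms.
-/

set_option autoImplicit false

namespace CfsgLib.AutPSL

open Matrix CfsgLib.FieldGalois

variable {n : ℕ} {F : Type*} [Field F]

theorem glField_one (g : GL (Fin n) F) : glField (1 : F ≃+* F) g = g := by
  apply Units.ext; rw [glField_coe]; rfl

theorem commute_field_iff (hn : 2 ≤ n) (σ : F ≃+* F) (g : GL (Fin n) F) :
    conjAut g ∈ Subgroup.centralizer {fieldAut σ} ↔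
      ∃ c : Fˣ, g⁻¹ * glField σ g = Matrix.GeneralLinearGroup.scalar (Fin n) c := by
  rw [Subgroup.mem_centralizer_singleton_iff, fieldAut_mul_conjAut, mul_left_inj,
    ← conjAut_eq_one_iff hn, map_mul, map_inv, inv_mul_eq_one]

/-- An element of `PGL_n` fixed by a field automorphism comes from a fixed matrix. -/
theorem exists_fixed_of_commute [Finite F] (hn : 2 ≤ n) (σ : F ≃+* F) (g : GL (Fin n) F)
    (h : conjAut g ∈ Subgroup.centralizer {fieldAut σ}) :
    ∃ x : Fˣ, glField σ (Matrix.GeneralLinearGroup.scalar (Fin n) x * g) =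
      Matrix.GeneralLinearGroup.scalar (Fin n) x * g := by
  obtain ⟨c, hc⟩ := (commute_field_iff hn σ g).mp h
  have hn1 : 1 ≤ n := le_trans one_le_two hn
  have hg : glField σ g = g * Matrix.GeneralLinearGroup.scalar (Fin n) c := by
    rw [← hc, mul_inv_cancel_left]
  have hk : ∀ k : ℕ, glField (σ ^ k) g =
      g * Matrix.GeneralLinearGroup.scalar (Fin n)
        (∏ i ∈ Finset.range k, Units.map (σ ^ i).toMonoidHom c) := by
    intro k
    induction k with
    | zero => rw [pow_zero, glField_one]; simp
    | succ k ih =>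
      rw [← glField_pow_succ, ih, map_mul, glField_scalar, hg, mul_assoc, ← map_mul,
        Finset.prod_range_succ' _ k, map_prod]
      congr 2
      rw [mul_comm]
      congr 1
      exact Finset.prod_congr rfl fun i _ => by ext; rw [pow_succ']; rfl
  have hN : normU σ c = 1 := by
    have h1 := hk (orderOf σ)
    rw [pow_orderOf_eq_one, glField_one, left_eq_mul,
      Finset.prod_range (fun i => Units.map (σ ^ i).toMonoidHom c), ← normU_apply] at h1
    exact scalar_injective hn1 (h1.trans (map_one _).symm)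
  obtain ⟨y, hy⟩ := hilbert90 σ hN
  refine ⟨y, ?_⟩
  rw [map_mul, glField_scalar, hg, ← mul_assoc,
    scalar_mul_comm (Units.map σ.toMonoidHom y) g, mul_assoc, ← map_mul,
    mul_comm, hy, ← scalar_mul_comm]

/-- The centralizer in `PGL_n(F)` of a standard field automorphism is `PGL_n` of the fixed field. -/
theorem nonempty_centralizer_field_equiv [Finite F] (hn : 2 ≤ n) (σ : F ≃+* F)
    {F₀ : Type*} [Field F₀] (ι : F₀ →+* F) (hι : ∀ y, σ y = y ↔ ∃ a, ι a = y) :
    Nonempty (↥(Cfsg.inndiagPSL n F ⊓ Subgroup.centralizer {fieldAut σ}) ≃*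
      Matrix.ProjGenLinGroup (Fin n) F₀) := by
  let M : GL (Fin n) F₀ →* GL (Fin n) F := Matrix.GeneralLinearGroup.map ι
  have hM : ∀ a, glField σ (M a) = M a := by
    intro a
    apply Units.ext
    ext i j
    rw [glField_coe, Matrix.map_apply]
    exact (hι _).mpr ⟨_, rfl⟩
  let f : GL (Fin n) F₀ →* ↥(Cfsg.inndiagPSL n F ⊓ Subgroup.centralizer {fieldAut σ}) :=
    (conjAut.comp M).codRestrict _ fun a => ⟨mem_inndiag_iff.mpr ⟨_, rfl⟩,
      (commute_field_iff hn σ _).mpr ⟨1, by rw [hM, inv_mul_cancel, map_one]⟩⟩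
  have hinj : Function.Injective ι := ι.injective
  have hker : f.ker = Subgroup.center (GL (Fin n) F₀) := by
    ext a
    rw [MonoidHom.mem_ker, Matrix.GeneralLinearGroup.center_eq_range_scalar, MonoidHom.mem_range]
    constructor
    · intro h
      obtain ⟨u, hu⟩ := (conjAut_eq_one_iff hn).mp (congrArg Subtype.val h)
      set z : Fin n := ⟨0, by omega⟩
      have hdiag : (a : Matrix (Fin n) (Fin n) F₀) = Matrix.diagonal fun _ => a.val z z := by
        ext i j
        have e1 := congrArg (fun g : GL (Fin n) F => g.val i j) hu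
        have e2 := congrArg (fun g : GL (Fin n) F => g.val z z) hu
        simp [M, Matrix.diagonal] at e1 e2 ⊢
        apply hinj
        split_ifs at e1 ⊢ with hij
        · rw [e1, e2]
        · rw [e1, map_zero]
      have hne : a.val z z ≠ 0 := by
        intro h0
        have := congrArg (fun g : GL (Fin n) F => g.val z z) hu
        simp [M, h0] at this
        exact u.ne_zero this.symm
      exact ⟨Units.mk0 _ hne, Units.ext hdiag.symm⟩
    · rintro ⟨u, rfl⟩
      apply Subtype.ext
      show conjAut (M _) = 1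
      rw [show M (Matrix.GeneralLinearGroup.scalar (Fin n) u) =
        Matrix.GeneralLinearGroup.scalar (Fin n) (Units.map ι.toMonoidHom u) from by
          apply Units.ext; ext i j
          by_cases h : i = j
          · subst h; simp [M]
          · simp [M, h], conjAut_scalar]
  have hsurj : Function.Surjective f := by
    rintro ⟨β, hβ⟩
    obtain ⟨g, rfl⟩ := mem_inndiag_iff.mp hβ.1
    obtain ⟨x, hx⟩ := exists_fixed_of_commute hn σ g hβ.2
    set g' := Matrix.GeneralLinearGroup.scalar (Fin n) x * g with hg'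
    have hent : ∀ i j, ∃ a, ι a = g'.val i j := fun i j => (hι _).mp (by
      have := congrArg (fun A : GL (Fin n) F => A.val i j) hx
      simpa [glField_coe] using this)
    choose a ha using hent
    have hmap : ι.mapMatrix (Matrix.of a) = g'.val := by ext i j; exact ha i j
    have hdet : (Matrix.of a).det ≠ 0 := by
      intro h0
      have := ι.map_det (Matrix.of a)
      rw [h0, map_zero, hmap] at this
      exact ((Matrix.isUnit_iff_isUnit_det _).mp g'.isUnit).ne_zero this.symm
    refine ⟨Matrix.GeneralLinearGroup.mkOfDetNeZero _ hdet, Subtype.ext ?_⟩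
    show conjAut (M _) = conjAut g
    rw [show M (Matrix.GeneralLinearGroup.mkOfDetNeZero (Matrix.of a) hdet) = g' from Units.ext hmap, hg', map_mul, conjAut_scalar, one_mul]
  exact ⟨((QuotientGroup.quotientMulEquivOfEq hker.symm).trans
    (QuotientGroup.quotientKerEquivOfSurjective f hsurj)).symm⟩

theorem det_centralizer_field [Finite F] (hn : 2 ≤ n) (σ : F ≃+* F) :
    (powMonoidHom n : Fˣ →* Fˣ).range ⊔
      ((Subgroup.centralizer {fieldAut (n := n) σ}).comap conjAut).map Matrix.GeneralLinearGroup.det =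
    (powMonoidHom n : Fˣ →* Fˣ).range ⊔ fixedUnits σ := by
  apply le_antisymm
  · refine sup_le le_sup_left ?_
    rintro _ ⟨g, hg, rfl⟩
    obtain ⟨x, hx⟩ := exists_fixed_of_commute hn σ g hg
    set g' := Matrix.GeneralLinearGroup.scalar (Fin n) x * g with hg'
    have e : Matrix.GeneralLinearGroup.det g = (x ^ n)⁻¹ * Matrix.GeneralLinearGroup.det g' := by
      rw [hg', map_mul, eq_inv_mul_iff_mul_eq]
      congr 1
      ext; simp
    rw [e]
    refine Subgroup.mul_mem_sup (inv_mem ⟨x, rfl⟩) (mem_fixedUnits.mpr ?_)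
    conv_rhs => rw [← hx]
    exact σ.toRingHom.map_det _
  · refine sup_le le_sup_left ?_
    intro u hu
    apply Subgroup.mem_sup_right
    refine ⟨diagGL (fun i : Fin n => if i = ⟨0, by omega⟩ then u else 1),
      (commute_field_iff hn σ _).mpr ⟨1, ?_⟩, ?_⟩
    · rw [map_one, inv_mul_eq_one]
      apply Units.ext
      rw [glField_coe]
      show Matrix.diagonal _ = (Matrix.diagonal _).map σ
      rw [Matrix.diagonal_map (map_zero σ)]
      congr 1
      funext i
      by_cases hi : i = (⟨0, by omega⟩ : Fin n)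
      · simp [hi, mem_fixedUnits.mp hu]
      · simp [hi]
    · apply Units.ext
      rw [Matrix.GeneralLinearGroup.val_det_apply]
      show (Matrix.diagonal _).det = _
      rw [Matrix.det_diagonal, Finset.prod_eq_single ⟨0, by omega⟩]
      · simp
      · intro b _ hb; simp [hb]
      · simp

section graphField

/-- `g σ(gᵀ)`. -/
def hermOf (σ : F ≃+* F) (g : GL (Fin n) F) : GL (Fin n) F := g * (glField σ (glIota g))⁻¹

theorem hermOf_coe (σ : F ≃+* F) (g : GL (Fin n) F) :
    (hermOf σ g : Matrix (Fin n) (Fin n) F) =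
      (g : Matrix (Fin n) (Fin n) F) * (g : Matrix (Fin n) (Fin n) F).transpose.map σ := by
  rw [hermOf, Units.val_mul, ← map_inv, glField_coe]
  rfl

theorem zeta_mul_conjAut (σ : F ≃+* F) (g : GL (Fin n) F) :
    (fieldAut σ * iotaAut) * conjAut g = conjAut (glField σ (glIota g)) * (fieldAut σ * iotaAut) := by
  rw [mul_assoc, iotaAut_mul_conjAut, ← mul_assoc, fieldAut_mul_conjAut, mul_assoc]

theorem commute_zeta_iff (hn : 2 ≤ n) (σ : F ≃+* F) (g : GL (Fin n) F) :
    conjAut g ∈ Subgroup.centralizer {fieldAut σ * iotaAut} ↔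
      ∃ c : Fˣ, hermOf σ g = Matrix.GeneralLinearGroup.scalar (Fin n) c := by
  rw [Subgroup.mem_centralizer_singleton_iff, zeta_mul_conjAut, mul_left_inj,
    ← conjAut_eq_one_iff hn, hermOf, map_mul, map_inv, mul_inv_eq_one]

theorem hermOf_scalar_mul (σ : F ≃+* F) (x : Fˣ) (g : GL (Fin n) F) :
    hermOf σ (Matrix.GeneralLinearGroup.scalar (Fin n) x * g) =
      Matrix.GeneralLinearGroup.scalar (Fin n) (x * Units.map σ.toMonoidHom x) * hermOf σ g := by
  apply Units.ext
  rw [Units.val_mul, hermOf_coe, hermOf_coe, Matrix.GeneralLinearGroup.coe_scalar, Units.val_mul,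
    Units.val_mul, Matrix.GeneralLinearGroup.coe_scalar]
  ext i j
  simp [Matrix.scalar_apply, Matrix.mul_apply, Matrix.diagonal_apply, Finset.mul_sum]
  exact Finset.sum_congr rfl fun k _ => by ring

variable {σ : F ≃+* F} (hσ : orderOf σ = 2)

include hσ in
theorem hermOf_fixed (g : GL (Fin n) F) :
    (hermOf σ g : Matrix (Fin n) (Fin n) F).transpose.map σ = hermOf σ g := by
  rw [hermOf_coe, Matrix.transpose_mul, Matrix.map_mul]
  congr 1
  ext i j
  simp [orderOf_two_apply hσ]

include hσ in
theorem exists_hermOf_one [Finite F] (hn : 2 ≤ n) {g : GL (Fin n) F} {c : Fˣ}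
    (hc : hermOf σ g = Matrix.GeneralLinearGroup.scalar (Fin n) c) :
    ∃ x : Fˣ, hermOf σ (Matrix.GeneralLinearGroup.scalar (Fin n) x * g) = 1 := by
  have hfix : σ (c : F) = c := by
    have h := hermOf_fixed hσ g
    rw [hc] at h
    have := congrFun (congrFun h ⟨0, by omega⟩) ⟨0, by omega⟩
    simpa using this
  obtain ⟨x, hx⟩ := exists_norm_eq σ (c := c⁻¹)
    (by rw [Units.val_inv_eq_inv_val, map_inv₀, hfix])
  refine ⟨x, ?_⟩
  have hx' : x * Units.map σ.toMonoidHom x = c⁻¹ := by
    rw [← hx]
    ext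
    rw [normU_val, Fin.prod_univ_eq_prod_range (fun i => (σ ^ i) (x : F)) (orderOf σ), hσ,
      Finset.prod_range_succ, Finset.prod_range_one, pow_zero, pow_one]
    rfl
  rw [hermOf_scalar_mul, hx', hc, ← map_mul, inv_mul_cancel, map_one]

include hσ in
/-- An involution in the coset of the standard graph-field involution is conjugate to it. -/
theorem conj_of_sq_eq_one_zeta [Finite F] (hn : 2 ≤ n) (g : GL (Fin n) F)
    (h : (conjAut g * (fieldAut σ * iotaAut)) ^ 2 = 1) :
    ∃ k : GL (Fin n) F, conjAut g * (fieldAut σ * iotaAut) =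
      conjAut k * (fieldAut σ * iotaAut) * (conjAut k)⁻¹ := by
  set z : MulAut (PSLG n F) := fieldAut σ * iotaAut with hz
  have hz2 : z * z = 1 := by
    rw [hz, mul_assoc, ← mul_assoc iotaAut, iotaAut_mul_fieldAut, mul_assoc, iotaAut_sq, mul_one,
      ← map_mul, ← pow_two, ← hσ, pow_orderOf_eq_one, map_one]
  set t := glField σ (glIota g) with ht
  have hgt : conjAut (g * t) = 1 := by
    rw [pow_two] at h
    rw [map_mul, ← h]
    calc conjAut g * conjAut t = conjAut g * (conjAut t * z) * z := by rw [mul_assoc, mul_assoc, hz2, mul_one]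
      _ = conjAut g * (z * conjAut g) * z := by rw [hz, ← zeta_mul_conjAut]
      _ = _ := by group
  obtain ⟨c, hc⟩ := (conjAut_eq_one_iff hn).mp hgt
  have htinv : ((t⁻¹ : GL (Fin n) F) : Matrix (Fin n) (Fin n) F) =
      (g : Matrix (Fin n) (Fin n) F).transpose.map σ := by
    rw [ht, ← map_inv]; rfl
  have hg : (g : Matrix (Fin n) (Fin n) F) =
      (c : F) • (g : Matrix (Fin n) (Fin n) F).transpose.map σ := by
    have e : g = Matrix.GeneralLinearGroup.scalar (Fin n) c * t⁻¹ := eq_mul_inv_of_mul_eq hc
    conv_lhs => rw [e]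
    rw [Units.val_mul, htinv, Matrix.GeneralLinearGroup.coe_scalar]
    ext i j
    simp [Matrix.scalar_apply, Matrix.diagonal_mul]
  have hσg : ∀ i j, σ (g.val i j) = σ (c : F) * g.val j i := by
    intro i j
    have := congrFun (congrFun hg i) j
    simp only [Matrix.smul_apply, Matrix.map_apply, Matrix.transpose_apply, smul_eq_mul] at this
    conv_lhs => rw [this, map_mul, orderOf_two_apply hσ]
  have hN : (c : F) * σ c = 1 := by
    have e : ∀ i j, g.val i j = ((c : F) * σ c) * g.val i j := by
      intro i j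
      have := congrFun (congrFun hg i) j
      simp only [Matrix.smul_apply, Matrix.map_apply, Matrix.transpose_apply, smul_eq_mul] at this
      conv_lhs => rw [this, hσg]
      ring
    by_contra hne
    have : (g : Matrix (Fin n) (Fin n) F) = 0 := by
      ext i j
      have h2 : ((c : F) * σ c - 1) * g.val i j = 0 := by linear_combination -(e i j)
      exact (mul_eq_zero.mp h2).resolve_left (sub_ne_zero.mpr hne)
    have h3 := g.isUnit
    rw [this, isUnit_zero_iff] at h3
    exact zero_ne_one (congrFun (congrFun h3 ⟨0, by omega⟩) ⟨0, by omega⟩ |>.trans (by simp))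
  obtain ⟨y, hy⟩ := hilbert90 σ (x := c) (Units.ext (by
    rw [normU_val, Fin.prod_univ_eq_prod_range (fun i => (σ ^ i) (c : F)) (orderOf σ), hσ,
      Finset.prod_range_succ, Finset.prod_range_one, pow_zero, pow_one]
    exact hN))
  -- `H = g / y` is Hermitian
  set H := Matrix.GeneralLinearGroup.scalar (Fin n) y⁻¹ * g with hH
  have hy' : (c : F) * σ (y : F) = y := congrArg Units.val hy
  have hy0 : (y : F) ≠ 0 := y.ne_zero
  have hcσ : σ (y⁻¹ : F) = (c : F) * (y⁻¹ : F) := by
    rw [map_inv₀]
    field_simp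
    linear_combination -hy'
  have hHherm : (H : Matrix (Fin n) (Fin n) F).transpose.map σ = H := by
    ext i j
    simp only [hH, Units.val_mul, Matrix.GeneralLinearGroup.coe_scalar, Matrix.map_apply,
      Matrix.transpose_apply, Matrix.scalar_apply, Matrix.diagonal_mul, Units.val_inv_eq_inv_val,
      map_mul]
    rw [hcσ, hσg]
    linear_combination (g.val i j * (y⁻¹ : F)) * hN
  obtain ⟨k, hk⟩ := exists_hermitian_sqrt hσ H hHherm
  refine ⟨k, ?_⟩
  have hg' : conjAut g = conjAut (hermOf σ k) := by
    rw [show hermOf σ k = H from Units.ext (by rw [hermOf_coe, hk]), hH, map_mul, conjAut_scalar,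
      one_mul]
  rw [hg', hermOf, map_mul, map_inv, mul_assoc (conjAut k) z, ← map_inv conjAut k, hz,
    zeta_mul_conjAut]
  rw [show glIota k⁻¹ = (glIota k)⁻¹ from eq_inv_of_mul_eq_one_left (by
    rw [← glIota_mul, inv_mul_cancel]; apply Units.ext; rw [glIota_coe]; simp)]
  rw [map_inv (glField σ), map_inv conjAut, mul_assoc]


theorem mem_GU_iff {q : ℕ} (hσ2 : orderOf σ = 2) (hq : ∀ a : F, σ a = a ^ q) (g : GL (Fin n) F) :
    g ∈ Cfsg.GU n F q ↔ hermOf σ g = 1 := by
  have hform : ∀ u v : Fin n → F, Cfsg.hermForm n F q u v = u ⬝ᵥ (σ ∘ v) := fun u v => by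
    simp [Cfsg.hermForm, dotProduct, hq]
  have hmap : ∀ v : Fin n → F, (σ ∘ ((g : Matrix (Fin n) (Fin n) F) *ᵥ v)) =
      (g : Matrix (Fin n) (Fin n) F).map σ *ᵥ (σ ∘ v) := by
    intro v; funext i; simp [Matrix.mulVec, dotProduct, map_sum, map_mul]
  have key : g ∈ Cfsg.GU n F q ↔
      (g : Matrix (Fin n) (Fin n) F).transpose * (g : Matrix (Fin n) (Fin n) F).map σ = 1 := by
    constructor
    · intro h
      ext i j
      have := h (Pi.single i 1) (Pi.single j 1)
      simp only [hform, Units.coeHom_apply] at this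
      rw [hmap] at this
      have e : ∀ k : Fin n, (σ ∘ (Pi.single k 1 : Fin n → F)) = Pi.single k 1 := fun k => by
        ext l; simp [Pi.single_apply, apply_ite σ]
      rw [e, Matrix.mulVec_single_one, Matrix.mulVec_single_one] at this
      rw [Matrix.mul_apply, Matrix.one_apply]
      simpa [dotProduct, Pi.single_apply, eq_comm] using this
    · intro h u v
      simp only [hform, Units.coeHom_apply]
      rw [hmap, dotProduct_mulVec, ← Matrix.vecMul_transpose (g : Matrix (Fin n) (Fin n) F) u,
        Matrix.vecMul_vecMul, h, Matrix.vecMul_one]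
  rw [key, mul_eq_one_comm]
  constructor
  · intro h
    apply Units.ext
    rw [hermOf_coe, Units.val_one]
    have := congrArg (fun M : Matrix (Fin n) (Fin n) F => M.map σ) h
    simp only [Matrix.map_mul, Matrix.map_one _ (map_zero σ) (map_one σ), Matrix.map_map] at this
    refine Eq.trans ?_ this
    congr 1
    ext i j
    simp [orderOf_two_apply hσ2]
  · intro h
    have := congrArg (fun M : GL (Fin n) F => (M : Matrix (Fin n) (Fin n) F).map σ) h
    simp only [hermOf_coe, Units.val_one, Matrix.map_mul, Matrix.map_one _ (map_zero σ) (map_one σ),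
      Matrix.map_map] at this
    refine Eq.trans ?_ this
    congr 1
    ext i j
    simp [orderOf_two_apply hσ2]

end graphField

end CfsgLib.AutPSL
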