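import Cfsg.Agent.Lib.AutPSL.Centralizers

/-!
The centralizer of the standard graph-field involution is `PGU`, and the split indices.
-/

set_option autoImplicit false

namespace CfsgLib.AutPSL

open Matrix CfsgLib.FieldGalois

variable {n : ℕ} {F : Type*} [Field F]

theorem involution_apply [Fintype F] {p f : ℕ} [hp : Fact p.Prime] (hF : Fintype.card F = p ^ f)
    {σ : F ≃+* F} (hσ : orderOf σ = 2) (a : F) : σ a = a ^ (p ^ (f / 2)) := by
  have : CharP F p := charP_of_card_eq_prime_pow hF
  have h2 : 2 ∣ f := hσ ▸ orderOf_dvd hF σ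
  obtain ⟨k, hk⟩ := h2
  have hk' : f / 2 = k := by omega
  have hf : 0 < f := by
    rcases Nat.eq_zero_or_pos f with h | h
    · have := Fintype.one_lt_card (α := F)
      rw [hF, h, pow_zero] at this; omega
    · exact h
  rw [hk']
  set τ : F ≃+* F := iterateFrobeniusEquiv F p k with hτ
  have hτa : ∀ x : F, τ x = x ^ p ^ k := fun x => iterateFrobeniusEquiv_def F p k x
  have hτ2 : orderOf τ = 2 := by
    refine orderOf_eq_prime_iff.mpr ⟨?_, ?_⟩
    · apply RingEquiv.ext
      intro x
      show τ (τ x) = x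
      rw [hτa, hτa, ← pow_mul, ← pow_add, show k + k = f by omega, ← hF, FiniteField.pow_card]
    · intro h
      have hu : ∀ x : Fˣ, x ^ (p ^ k - 1) = 1 := fun x => by
        have e : x ^ (p ^ k) = x := Units.ext (by
          rw [Units.val_pow_eq_pow_val, ← hτa, h]; rfl)
        apply mul_right_cancel (b := x)
        rw [one_mul, ← pow_succ, Nat.sub_add_cancel (Nat.one_le_pow _ _ hp.out.pos), e]
      have hdvd := (FiniteField.forall_pow_eq_one_iff F _).mp hu
      rw [hF] at hdvd
      have h1 : p ^ k < p ^ f := Nat.pow_lt_pow_right hp.out.one_lt (by omega)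
      have h3 : 1 < p ^ k := Nat.one_lt_pow (by omega) hp.out.one_lt
      have := Nat.le_of_dvd (by omega) hdvd
      omega
  rw [involution_unique hσ hτ2, hτa]

theorem hermOf_one_mem [Finite F] {σ : F ≃+* F} {q : ℕ} (hσ : orderOf σ = 2)
    (hq : ∀ a : F, σ a = a ^ q) (hn : 2 ≤ n) {g : GL (Fin n) F}
    (hg : conjAut g ∈ Subgroup.centralizer {fieldAut σ * iotaAut}) :
    ∃ x : Fˣ, Matrix.GeneralLinearGroup.scalar (Fin n) x * g ∈ Cfsg.GU n F q := by
  obtain ⟨c, hc⟩ := (commute_zeta_iff hn σ g).mp hg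
  obtain ⟨x, hx⟩ := exists_hermOf_one hσ hn hc
  exact ⟨x, (mem_GU_iff hσ hq _).mpr hx⟩

/-- The centralizer of the standard graph-field involution is `PGU_n`. -/
theorem nonempty_centralizer_zeta_equiv [Finite F] {σ : F ≃+* F} {q : ℕ} (hσ : orderOf σ = 2)
    (hq : ∀ a : F, σ a = a ^ q) (hn : 2 ≤ n) :
    Nonempty (↥(Cfsg.inndiagPSL n F ⊓ Subgroup.centralizer {fieldAut σ * iotaAut}) ≃*
      Cfsg.PGU n F q) := by
  let f : ↥(Cfsg.GU n F q) →* ↥(Cfsg.inndiagPSL n F ⊓ Subgroup.centralizer {fieldAut σ * iotaAut}) :=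
    (conjAut.comp (Cfsg.GU n F q).subtype).codRestrict _ fun g =>
      ⟨mem_inndiag_iff.mpr ⟨_, rfl⟩, (commute_zeta_iff hn σ _).mpr
        ⟨1, by rw [map_one]; exact (mem_GU_iff hσ hq _).mp g.2⟩⟩
  have hker : f.ker = (Cfsg.Geo.scalars (Fin n) F).subgroupOf (Cfsg.GU n F q) := by
    ext g
    rw [MonoidHom.mem_ker, Subgroup.mem_subgroupOf]
    constructor
    · intro h
      obtain ⟨u, hu⟩ := (conjAut_eq_one_iff hn).mp (congrArg Subtype.val h)
      exact ⟨u, hu.symm⟩
    · rintro ⟨u, hu⟩
      apply Subtype.ext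
      show conjAut (g : GL (Fin n) F) = 1
      rw [← hu]
      exact conjAut_scalar u
  have hsurj : Function.Surjective f := by
    rintro ⟨β, hβ⟩
    obtain ⟨g, rfl⟩ := mem_inndiag_iff.mp hβ.1
    obtain ⟨x, hx⟩ := hermOf_one_mem hσ hq hn hβ.2
    refine ⟨⟨_, hx⟩, Subtype.ext ?_⟩
    show conjAut (Matrix.GeneralLinearGroup.scalar (Fin n) x * g) = conjAut g
    rw [map_mul, conjAut_scalar, one_mul]
  exact ⟨((QuotientGroup.quotientMulEquivOfEq hker.symm).trans
    (QuotientGroup.quotientKerEquivOfSurjective f hsurj)).symm⟩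

theorem normU_two {σ : F ≃+* F} (hσ : orderOf σ = 2) (d : Fˣ) :
    normU σ d = d * Units.map σ.toMonoidHom d := by
  ext
  rw [normU_val, Fin.prod_univ_eq_prod_range (fun i => (σ ^ i) (d : F)) (orderOf σ), hσ,
    Finset.prod_range_succ, Finset.prod_range_one, pow_zero, pow_one]
  rfl

theorem det_centralizer_zeta [Finite F] {σ : F ≃+* F} (hσ : orderOf σ = 2) (hn : 2 ≤ n) :
    (powMonoidHom n : Fˣ →* Fˣ).range ⊔
      ((Subgroup.centralizer {fieldAut (n := n) σ * iotaAut}).comap conjAut).map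
        Matrix.GeneralLinearGroup.det =
    (powMonoidHom n : Fˣ →* Fˣ).range ⊔ (normU σ).ker := by
  apply le_antisymm
  · refine sup_le le_sup_left ?_
    rintro _ ⟨g, hg, rfl⟩
    obtain ⟨c, hc⟩ := (commute_zeta_iff hn σ g).mp hg
    obtain ⟨x, hx⟩ := exists_hermOf_one hσ hn hc
    set g' := Matrix.GeneralLinearGroup.scalar (Fin n) x * g with hg'
    have e : Matrix.GeneralLinearGroup.det g = (x ^ n)⁻¹ * Matrix.GeneralLinearGroup.det g' := by
      rw [hg', map_mul, eq_inv_mul_iff_mul_eq]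
      congr 1
      ext; simp
    rw [e]
    refine Subgroup.mul_mem_sup (inv_mem ⟨x, rfl⟩) ?_
    rw [MonoidHom.mem_ker, normU_two hσ]
    have h := congrArg (fun A : GL (Fin n) F => (A : Matrix (Fin n) (Fin n) F).det) hx
    simp only [hermOf_coe, Units.val_one, Matrix.det_one, Matrix.det_mul, det_map_ringEquiv,
      Matrix.det_transpose] at h
    ext
    exact h
  · refine sup_le le_sup_left ?_
    intro u hu
    apply Subgroup.mem_sup_right
    rw [MonoidHom.mem_ker, normU_two hσ] at hu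
    have hu' : (u : F) * σ u = 1 := congrArg Units.val hu
    refine ⟨diagGL (fun i : Fin n => if i = ⟨0, by omega⟩ then u else 1),
      (commute_zeta_iff hn σ _).mpr ⟨1, ?_⟩, ?_⟩
    · rw [map_one]
      apply Units.ext
      rw [hermOf_coe, Units.val_one]
      show Matrix.diagonal _ * (Matrix.diagonal _).transpose.map σ = _
      rw [Matrix.diagonal_transpose, Matrix.diagonal_map (map_zero σ), Matrix.diagonal_mul_diagonal,
        ← Matrix.diagonal_one]
      congr 1
      funext i
      by_cases hi : i = (⟨0, by omega⟩ : Fin n)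
      · simp [hi, hu']
      · simp [hi]
    · apply Units.ext
      rw [Matrix.GeneralLinearGroup.val_det_apply]
      show (Matrix.diagonal _).det = _
      rw [Matrix.det_diagonal, Finset.prod_eq_single ⟨0, by omega⟩]
      · simp
      · intro b _ hb; simp [hb]
      · simp

theorem index_fixedUnits [Fintype F] {p f : ℕ} [hp : Fact p.Prime] (hF : Fintype.card F = p ^ f)
    (σ : F ≃+* F) :
    (fixedUnits σ).index = (p ^ f - 1) / (p ^ (f / orderOf σ) - 1) := by
  have h := (fixedUnits σ).card_mul_index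
  rw [Nat.card_units, Nat.card_eq_fintype_card (α := F), hF, card_fixedUnits,
    card_fixed_of_orderOf hF σ] at h
  have hpos : 0 < p ^ (f / orderOf σ) - 1 := by
    rw [← card_fixed_of_orderOf hF σ, ← card_fixedUnits]; exact Nat.card_pos
  rw [← h, Nat.mul_div_cancel_left _ hpos]

theorem index_normU_ker [Fintype F] {p f : ℕ} [hp : Fact p.Prime] (hF : Fintype.card F = p ^ f)
    (σ : F ≃+* F) : (normU σ).ker.index = p ^ (f / orderOf σ) - 1 := by
  rw [Subgroup.index_ker, range_normU, card_fixedUnits, card_fixed_of_orderOf hF]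

end CfsgLib.AutPSL
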