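import Cfsg.Prelude.Def_LieTypeDatum
import Cfsg.Agent.Lib.AutPSL.Main

/-!
The predicates of `Def_LieTypeDatum` on `PSL_n` in terms of `conjAut`, `fieldAut`, `iotaAut`.
-/

set_option autoImplicit false

namespace CfsgLib.AutPSL

open Matrix

variable {n : ℕ} {F : Type*} [Field F]

theorem isInducedBySemilinear_iff {g : GL (Fin n) F} {σ : F ≃+* F} {β : MulAut (PSLG n F)} :
    Cfsg.IsInducedBySemilinearPSL g σ β ↔ β = conjAut g * fieldAut σ := by
  constructor
  · intro h
    apply MulEquiv.ext
    intro x
    induction x using QuotientGroup.induction_on with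
    | H s => exact h s (slConj g (slField σ s)) rfl
  · rintro rfl s s' hs
    exact congrArg (QuotientGroup.mk : SLG n F → PSLG n F) (Subtype.ext hs.symm)

theorem isInnerDiagonal_iff {β : MulAut (PSLG n F)} :
    Cfsg.IsInnerDiagonalAutPSL β ↔ ∃ g : GL (Fin n) F, β = conjAut g := by
  constructor
  · rintro ⟨g, h⟩
    refine ⟨g, MulEquiv.ext fun x => ?_⟩
    induction x using QuotientGroup.induction_on with
    | H s => exact h s (slConj g s) rfl
  · rintro ⟨g, rfl⟩
    exact ⟨g, fun s s' hs => congrArg (QuotientGroup.mk : SLG n F → PSLG n F) (Subtype.ext hs.symm)⟩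

theorem isStdField_iff {σ : F ≃+* F} {β : MulAut (PSLG n F)} :
    Cfsg.IsStdFieldAutPSL σ β ↔ β = fieldAut σ := by
  constructor
  · intro h
    apply MulEquiv.ext
    intro x
    induction x using QuotientGroup.induction_on with
    | H s => exact h s (slField σ s) rfl
  · rintro rfl s s' hs
    exact congrArg (QuotientGroup.mk : SLG n F → PSLG n F) (Subtype.ext hs.symm)

theorem isFieldAut_iff {β : MulAut (PSLG n F)} :
    Cfsg.IsFieldAutPSL β ↔ ∃ σ : F ≃+* F, β = fieldAut σ :=
  exists_congr fun _ => isStdField_iff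

theorem isInverseTranspose_iff {β : MulAut (PSLG n F)} :
    Cfsg.IsInverseTransposeAutPSL β ↔ β = iotaAut := by
  constructor
  · intro h
    apply MulEquiv.ext
    intro x
    induction x using QuotientGroup.induction_on with
    | H s => exact h s (slIota s) rfl
  · rintro rfl s s' hs
    exact congrArg (QuotientGroup.mk : SLG n F → PSLG n F) (Subtype.ext hs.symm)

theorem inndiag_eq_range : Cfsg.inndiagPSL n F = (conjAut : GL (Fin n) F →* _).range := by
  rw [Cfsg.inndiagPSL, Cfsg.autSubgroupOf]
  conv_rhs => rw [← Subgroup.closure_eq (conjAut : GL (Fin n) F →* MulAut (PSLG n F)).range]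
  congr 1
  ext β
  rw [Set.mem_ofPred_eq, isInnerDiagonal_iff, SetLike.mem_coe, MonoidHom.mem_range]
  exact exists_congr fun g => eq_comm

theorem mem_inndiag_iff {β : MulAut (PSLG n F)} :
    β ∈ Cfsg.inndiagPSL n F ↔ ∃ g : GL (Fin n) F, conjAut g = β := by
  rw [inndiag_eq_range]; exact MonoidHom.mem_range

end CfsgLib.AutPSL
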