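import Cfsg.Agent.Lib.AutPSL.Hermitian

/-!
Reflections of symmetric and Hermitian forms: an automorphism group element of odd order, or one
fixing all products of two reflections, commutes with all reflections.
-/

set_option autoImplicit false

namespace CfsgLib.Refl

open Matrix CfsgLib.FieldGalois

variable {F : Type*} [Field F] {n : ℕ}

theorem exists_sq_sum [Finite F] (h2 : (2 : F) ≠ 0) {a b : F} (ha : a ≠ 0) (hb : b ≠ 0) (c : F) :
    ∃ x y : F, a * x ^ 2 + b * y ^ 2 = c := by
  classical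
  have := Fintype.ofFinite F
  obtain ⟨x, y, h⟩ := FiniteField.exists_root_sum_quadratic
    (f := Polynomial.C a * Polynomial.X ^ 2) (g := Polynomial.C b * Polynomial.X ^ 2 - Polynomial.C c)
    (Polynomial.degree_C_mul_X_pow 2 ha) (by
      rw [Polynomial.degree_sub_eq_left_of_degree_lt]
      · exact Polynomial.degree_C_mul_X_pow 2 hb
      · rw [Polynomial.degree_C_mul_X_pow 2 hb]
        exact lt_of_le_of_lt Polynomial.degree_C_le (by norm_num))
    (FiniteField.odd_card_of_char_ne_two fun h => h2 (by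
      have := CharP.cast_eq_zero F (ringChar F); rw [h] at this; exact_mod_cast this))
  refine ⟨x, y, ?_⟩
  simp at h
  linear_combination h

/-- A semilinear map mapping every vector to a multiple is scalar. -/
theorem eq_scalar_of_all_lines (hn : 2 ≤ n) (g : GL (Fin n) F) (τ : F ≃+* F)
    (h : ∀ v : Fin n → F, ∃ μ : F, (g : Matrix (Fin n) (Fin n) F) *ᵥ (τ ∘ v) = μ • v) :
    (∃ u : Fˣ, g = Matrix.GeneralLinearGroup.scalar (Fin n) u) ∧ τ = 1 := by
  classical
  have hs : ∀ i, (τ ∘ (Pi.single i 1 : Fin n → F)) = Pi.single i 1 := fun i => by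
    funext k; simp [Pi.single_apply, apply_ite τ]
  choose μ hμ using h
  set l : Fin n → F := fun i => μ (Pi.single i 1) with hl
  have hcol : ∀ i k, (g : Matrix (Fin n) (Fin n) F) k i = if k = i then l i else 0 := by
    intro i k
    have := congrFun (hμ (Pi.single i 1)) k
    rw [hs, Matrix.mulVec_single_one] at this
    simpa [hl, Pi.single_apply] using this
  have hdiag : (g : Matrix (Fin n) (Fin n) F) = Matrix.diagonal l := by
    ext k i; rw [hcol, Matrix.diagonal_apply]; split_ifs with h <;> simp [h]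
  have hpair : ∀ i j : Fin n, i ≠ j → ∀ t : F, l j * τ t = l i * t := by
    intro i j hij t
    set v : Fin n → F := Pi.single i 1 + Pi.single j t
    have h1 := congrFun (hμ v) i
    have h2 := congrFun (hμ v) j
    rw [hdiag, Matrix.mulVec_diagonal] at h1 h2
    simp [v, hij, hij.symm] at h1 h2
    rw [h2, h1]
  set i0 : Fin n := ⟨0, by omega⟩
  set i1 : Fin n := ⟨1, by omega⟩
  have h01 : i0 ≠ i1 := by simp [i0, i1]
  have heq : ∀ j, l j = l i0 := fun j => by
    by_cases hj : j = i0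
    · rw [hj]
    · simpa using hpair i0 j (Ne.symm hj) 1
  have hl0 : l i0 ≠ 0 := by
    intro h0
    have hz : (g : Matrix (Fin n) (Fin n) F) = 0 := by
      rw [hdiag]; ext a b; simp [Matrix.diagonal_apply, heq, h0]
    have h3 := g.isUnit
    rw [hz, isUnit_zero_iff] at h3
    exact zero_ne_one (congrFun (congrFun h3 i0) i0 |>.trans (by simp) : (0 : F) = 1)
  refine ⟨⟨Units.mk0 _ hl0, ?_⟩, RingEquiv.ext fun t => ?_⟩
  · apply Units.ext
    rw [hdiag, Matrix.GeneralLinearGroup.coe_scalar, Matrix.scalar_apply]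
    exact congrArg _ (funext heq)
  · have := hpair i0 i1 h01 t
    rw [heq] at this
    exact mul_left_cancel₀ hl0 this

/-- A non-degenerate form, symmetric (`σ = 1`) or Hermitian. -/
structure IsForm (σ : F ≃+* F) (H : Matrix (Fin n) (Fin n) F) : Prop where
  invol : ∀ x, σ (σ x) = x
  herm : H.transpose.map σ = H
  det_ne : H.det ≠ 0
  two_ne : (2 : F) ≠ 0

variable {σ : F ≃+* F} {H : Matrix (Fin n) (Fin n) F}

theorem sesq_sub_left (u u' v : Fin n → F) :
    sesq σ H (u - u') v = sesq σ H u v - sesq σ H u' v := sub_dotProduct _ _ _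

theorem sesq_sub_right (u v v' : Fin n → F) :
    sesq σ H u (v - v') = sesq σ H u v - sesq σ H u v' := by
  rw [eq_sub_iff_add_eq, ← sesq_add_right, sub_add_cancel]

theorem sesq_zero_left (v : Fin n → F) : sesq σ H 0 v = 0 := zero_dotProduct _

theorem IsForm.flip (hB : IsForm σ H) (u v : Fin n → F) : σ (sesq σ H u v) = sesq σ H v u := by
  simp only [sesq, dotProduct, Matrix.mulVec, Finset.mul_sum, map_sum, map_mul, Function.comp_apply,
    hB.invol]
  rw [Finset.sum_comm]
  refine Finset.sum_congr rfl fun j _ => Finset.sum_congr rfl fun i _ => ?_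
  have := congrFun (congrFun hB.herm j) i
  rw [Matrix.map_apply, Matrix.transpose_apply] at this
  rw [this]; ring

theorem IsForm.eq_zero (hB : IsForm σ H) {k : Fin n → F} (h : ∀ x, sesq σ H k x = 0) : k = 0 := by
  apply Matrix.eq_zero_of_vecMul_eq_zero hB.det_ne
  funext i
  have h' := h (Pi.single i 1)
  have e : (σ ∘ (Pi.single i 1 : Fin n → F)) = Pi.single i 1 := by
    ext k; simp [Pi.single_apply, apply_ite σ]
  rw [sesq, e, dotProduct_mulVec, dotProduct_single, mul_one] at h'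
  exact h'

/-- A subspace without anisotropic vectors is totally isotropic. -/
theorem IsForm.polar (hB : IsForm σ H) {W : Submodule F (Fin n → F)}
    (h : ∀ w ∈ W, sesq σ H w w = 0) {k l : Fin n → F} (hk : k ∈ W) (hl : l ∈ W) :
    sesq σ H k l = 0 := by
  have key : ∀ t : F, σ t * sesq σ H k l + t * sesq σ H l k = 0 := by
    intro t
    have := h _ (W.add_mem hk (W.smul_mem t hl))
    simp only [sesq_add_left, sesq_add_right, sesq_smul_left, sesq_smul_right, h k hk, h l hl] at this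
    linear_combination this
  have h1 := key 1
  rw [map_one, one_mul, one_mul] at h1
  by_contra hne
  have hσ : ∀ t, σ t = t := fun t => by
    have h3 : (σ t - t) * sesq σ H k l = 0 := by linear_combination key t - t * h1
    exact sub_eq_zero.mp ((mul_eq_zero.mp h3).resolve_right hne)
  rw [← hB.flip k l, hσ] at h1
  exact mul_ne_zero hB.two_ne hne (by linear_combination h1)

/-- `x ↦ B(x,a)` as a linear form. -/
def formL (σ : F ≃+* F) (H : Matrix (Fin n) (Fin n) F) (a : Fin n → F) : (Fin n → F) →ₗ[F] F where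
  toFun x := sesq σ H x a
  map_add' x y := sesq_add_left σ H x y a
  map_smul' c x := sesq_smul_left σ H c x a

theorem exists_perp_ne_zero (hn : 3 ≤ n) (a e : Fin n → F) :
    ∃ k : Fin n → F, k ≠ 0 ∧ sesq σ H k a = 0 ∧ sesq σ H k e = 0 := by
  obtain ⟨k, hk, hk0⟩ := Submodule.exists_mem_ne_zero_of_ne_bot
    (LinearMap.ker_ne_bot_of_finrank_lt (f := (formL σ H a).prod (formL σ H e)) (by simp; omega))
  rw [LinearMap.mem_ker, LinearMap.prod_apply] at hk
  exact ⟨k, hk0, congrArg Prod.fst hk, congrArg Prod.snd hk⟩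

theorem IsForm.exists_values (hB : IsForm σ H) {a e : Fin n → F} (ha : a ≠ 0)
    (hne : ∀ c : F, e ≠ c • a) : ∃ v, sesq σ H v a = 0 ∧ sesq σ H v e = 1 := by
  have hnot : (σ ∘ e : Fin n → F) ∉ Submodule.span F {(σ ∘ a : Fin n → F)} := by
    rw [Submodule.mem_span_singleton]
    rintro ⟨c, hc⟩
    refine hne (σ c) (funext fun i => ?_)
    have := congrArg σ (congrFun hc i).symm
    simpa [hB.invol] using this
  obtain ⟨f, hfe, hfa⟩ := Submodule.exists_le_ker_of_notMem hnot
  set φ : Fin n → F := (f (σ ∘ e))⁻¹ • fun i => f (Pi.single i 1) with hφ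
  have hf : ∀ x : Fin n → F, φ ⬝ᵥ x = (f (σ ∘ e))⁻¹ * f x := by
    intro x
    rw [hφ, smul_dotProduct, smul_eq_mul]
    congr 1
    conv_rhs => rw [pi_eq_sum_univ' x]
    simp [dotProduct, map_sum, map_smul, mul_comm]
  have hv : ∀ x, sesq σ H (φ ᵥ* H⁻¹) x = φ ⬝ᵥ (σ ∘ x) := by
    intro x
    rw [sesq, dotProduct_mulVec, Matrix.vecMul_vecMul,
      Matrix.nonsing_inv_mul _ (isUnit_iff_ne_zero.mpr hB.det_ne), Matrix.vecMul_one]
  refine ⟨φ ᵥ* H⁻¹, ?_, ?_⟩
  · rw [hv, hf, LinearMap.mem_ker.mp (hfa (Submodule.mem_span_singleton_self _)), mul_zero]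
  · rw [hv, hf, inv_mul_cancel₀ hfe]

/-- The reflection along `a` (the identity if `a` is isotropic). -/
def reflMat (σ : F ≃+* F) (H : Matrix (Fin n) (Fin n) F) (a : Fin n → F) : Matrix (Fin n) (Fin n) F :=
  1 - (2 / sesq σ H a a) • vecMulVec a (H *ᵥ (σ ∘ a))

theorem reflMat_mulVec (a x : Fin n → F) :
    reflMat σ H a *ᵥ x = x - (2 / sesq σ H a a * sesq σ H x a) • a := by
  rw [reflMat, Matrix.sub_mulVec, Matrix.one_mulVec, Matrix.smul_mulVec, Matrix.vecMulVec_mulVec,
    op_smul_eq_smul, smul_smul, dotProduct_comm (H *ᵥ (σ ∘ a))]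
  rfl

theorem reflMat_mul_self (a : Fin n → F) : reflMat σ H a * reflMat σ H a = 1 := by
  apply Matrix.ext_of_mulVec_single
  intro i
  rw [← Matrix.mulVec_mulVec, Matrix.one_mulVec, reflMat_mulVec, reflMat_mulVec, sesq_sub_left,
    sesq_smul_left]
  by_cases hA : sesq σ H a a = 0
  · simp [hA]
  · rw [sub_sub, ← add_smul, sub_eq_self]
    convert zero_smul F a using 2
    field_simp
    ring

/-- The reflection along `a`, as an element of `GL_n`. -/
def refl (σ : F ≃+* F) (H : Matrix (Fin n) (Fin n) F) (a : Fin n → F) : GL (Fin n) F :=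
  ⟨reflMat σ H a, reflMat σ H a, reflMat_mul_self a, reflMat_mul_self a⟩

theorem refl_mulVec (a x : Fin n → F) :
    (refl σ H a : Matrix (Fin n) (Fin n) F) *ᵥ x = x - (2 / sesq σ H a a * sesq σ H x a) • a :=
  reflMat_mulVec a x

theorem refl_inv (a : Fin n → F) : (refl σ H a)⁻¹ = refl σ H a := Units.ext rfl

theorem refl_mulVec_self {a : Fin n → F} (ha : sesq σ H a a ≠ 0) :
    (refl σ H a : Matrix (Fin n) (Fin n) F) *ᵥ a = -a := by
  rw [refl_mulVec, div_mul_cancel₀ _ ha, two_smul]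
  abel

theorem refl_mulVec_perp {a x : Fin n → F} (h : sesq σ H x a = 0) :
    (refl σ H a : Matrix (Fin n) (Fin n) F) *ᵥ x = x := by
  rw [refl_mulVec, h, mul_zero, zero_smul, sub_zero]

/-- The isometries. -/
def isoG (σ : F ≃+* F) (H : Matrix (Fin n) (Fin n) F) : Subgroup (GL (Fin n) F) where
  carrier := {g | ∀ u v, sesq σ H ((g : Matrix (Fin n) (Fin n) F) *ᵥ u)
    ((g : Matrix (Fin n) (Fin n) F) *ᵥ v) = sesq σ H u v}
  one_mem' u v := by simp
  mul_mem' {g h} hg hh u v := by
    rw [Units.val_mul, ← Matrix.mulVec_mulVec, ← Matrix.mulVec_mulVec, hg, hh]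
  inv_mem' {g} hg u v := by
    have h := hg (((g⁻¹ : GL (Fin n) F) : Matrix (Fin n) (Fin n) F) *ᵥ u)
      (((g⁻¹ : GL (Fin n) F) : Matrix (Fin n) (Fin n) F) *ᵥ v)
    simp only [Matrix.mulVec_mulVec, ← Units.val_mul, mul_inv_cancel, Units.val_one,
      Matrix.one_mulVec] at h
    exact h.symm

theorem refl_mem (hB : IsForm σ H) (a : Fin n → F) : refl σ H a ∈ isoG σ H := by
  intro u v
  simp only [refl_mulVec, sesq_sub_left, sesq_sub_right, sesq_smul_left, sesq_smul_right,
    map_mul, map_div₀, map_ofNat, hB.flip]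
  by_cases hA : sesq σ H a a = 0
  · simp [hA]
  · field_simp
    ring

/-- Semisimilitudes permute the reflections. -/
theorem semi_refl (g : GL (Fin n) F) (τ : F ≃+* F) (c : F) (hc : c ≠ 0)
    (h : ∀ x y : Fin n → F, sesq σ H ((g : Matrix (Fin n) (Fin n) F) *ᵥ (τ ∘ x))
      ((g : Matrix (Fin n) (Fin n) F) *ᵥ (τ ∘ y)) = c * τ (sesq σ H x y)) (a : Fin n → F) :
    g * Matrix.GeneralLinearGroup.map τ.toRingHom (refl σ H a) =
      refl σ H ((g : Matrix (Fin n) (Fin n) F) *ᵥ (τ ∘ a)) * g := by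
  apply Units.ext
  apply Matrix.ext_of_mulVec_single
  intro i
  obtain ⟨x, hx⟩ : ∃ x : Fin n → F, τ ∘ x = Pi.single i 1 :=
    ⟨τ.symm ∘ Pi.single i 1, by funext k; simp⟩
  rw [← hx, Units.val_mul, Units.val_mul, ← Matrix.mulVec_mulVec, ← Matrix.mulVec_mulVec, refl_mulVec,
    h, h]
  have e : ((Matrix.GeneralLinearGroup.map τ.toRingHom (refl σ H a) : GL (Fin n) F) :
      Matrix (Fin n) (Fin n) F) *ᵥ (τ ∘ x) = τ ∘ ((refl σ H a : Matrix (Fin n) (Fin n) F) *ᵥ x) := by
    funext k
    simp [Matrix.mulVec, dotProduct, map_sum, map_mul]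
  rw [e, refl_mulVec]
  have e2 : (τ ∘ (x - (2 / sesq σ H a a * sesq σ H x a) • a) : Fin n → F) =
      τ ∘ x - τ (2 / sesq σ H a a * sesq σ H x a) • (τ ∘ a) := by funext k; simp
  rw [e2, Matrix.mulVec_sub, Matrix.mulVec_smul]
  congr 2
  rw [map_mul, map_div₀, map_ofNat]
  by_cases hA : τ (sesq σ H a a) = 0
  · simp [hA]
  · field_simp

theorem iso_refl {g : GL (Fin n) F} (hg : g ∈ isoG σ H) (a : Fin n → F) :
    g * refl σ H a * g⁻¹ = refl σ H ((g : Matrix (Fin n) (Fin n) F) *ᵥ a) := by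
  have h := semi_refl g (1 : F ≃+* F) 1 one_ne_zero (fun x y => (hg x y).trans (one_mul _).symm) a
  have e : Matrix.GeneralLinearGroup.map (1 : F ≃+* F).toRingHom (refl σ H a) = refl σ H a :=
    Units.ext (Matrix.ext fun i j => rfl)
  rw [e] at h
  rw [h]
  simp [mul_assoc]

theorem refl_comm (hB : IsForm σ H) {a e : Fin n → F} (h : sesq σ H a e = 0) :
    refl σ H e * refl σ H a = refl σ H a * refl σ H e := by
  have := iso_refl (refl_mem hB e) a
  rw [refl_mulVec_perp h, mul_inv_eq_iff_eq_mul] at this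
  exact this

theorem refl_smul {a : Fin n → F} {c : F} (hc : c ≠ 0) : refl σ H (c • a) = refl σ H a := by
  apply Units.ext
  apply Matrix.ext_of_mulVec_single
  intro i
  rw [refl_mulVec, refl_mulVec, sesq_smul_left, sesq_smul_right, sesq_smul_right, smul_smul]
  have hc' : σ c ≠ 0 := (map_ne_zero σ).mpr hc
  congr 2
  by_cases hA : sesq σ H a a = 0
  · simp [hA]
  · field_simp

/-- A product of two reflections moves some anisotropic vector to an orthogonal one. -/
theorem exists_orth_image [Finite F] (hB : IsForm σ H) (hn : 3 ≤ n) {a e : Fin n → F}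
    (hA : sesq σ H a a ≠ 0) (hE : sesq σ H e e ≠ 0) (hC : sesq σ H a e ≠ 0)
    (hCσ : σ (sesq σ H a e) = sesq σ H a e) (hne : ∀ c : F, e ≠ c • a) :
    ∃ w, sesq σ H w w ≠ 0 ∧
      sesq σ H ((refl σ H e : Matrix (Fin n) (Fin n) F) *ᵥ ((refl σ H a : Matrix (Fin n) (Fin n) F) *ᵥ w))
        w = 0 := by
  set A := sesq σ H a a with hAdef
  set E := sesq σ H e e with hEdef
  set C := sesq σ H a e with hCdef
  have hAσ : σ A = A := hB.flip a a
  have hEσ : σ E = E := hB.flip e e
  have hea : sesq σ H e a = C := by rw [← hB.flip a e, hCσ]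
  have h2σ : σ (2 : F) = 2 := map_ofNat σ 2
  have hS : ∀ w α γ, sesq σ H w a = α → sesq σ H w e = γ → σ α = α → σ γ = γ →
      sesq σ H ((refl σ H e : Matrix (Fin n) (Fin n) F) *ᵥ ((refl σ H a : Matrix (Fin n) (Fin n) F) *ᵥ w))
        w = sesq σ H w w - 2 * α * α / A - 2 * γ * γ / E + 4 * C * α * γ / (A * E) := by
    intro w α γ hα hγ hασ hγσ
    have h1 : sesq σ H a w = α := by rw [← hB.flip w a, hα, hασ]
    have h2 : sesq σ H e w = γ := by rw [← hB.flip w e, hγ, hγσ]
    simp only [refl_mulVec, sesq_sub_left, sesq_smul_left, hα, hγ, h1, h2, ← hCdef, ← hAdef, ← hEdef]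
    field_simp
    ring
  by_cases hD : A * E - C * C = 0
  · obtain ⟨v, hva, hve⟩ := hB.exists_values (a := a) (fun h => hA (by rw [hAdef, h, sesq_zero_left])) hne
    set u := E • a - C • e with hu
    set t := (sesq σ H v v - 2 / E) / (2 * C) with ht
    have htσ : σ t = t := by rw [ht, map_div₀, map_sub, map_div₀, map_mul, hB.flip, h2σ, hEσ, hCσ]
    have hua : sesq σ H u a = 0 := by
      rw [hu, sesq_sub_left, sesq_smul_left, sesq_smul_left, hea, ← hAdef]; linear_combination hD
    have hue : sesq σ H u e = 0 := by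
      rw [hu, sesq_sub_left, sesq_smul_left, sesq_smul_left, ← hCdef, ← hEdef]; ring
    have hvu : sesq σ H v u = -C := by
      rw [hu, sesq_sub_right, sesq_smul_right, sesq_smul_right, hva, hve, hCσ]; ring
    have huv : sesq σ H u v = -C := by rw [← hB.flip v u, hvu, map_neg, hCσ]
    have huu : sesq σ H u u = 0 := by
      nth_rewrite 2 [hu]
      rw [sesq_sub_right, sesq_smul_right, sesq_smul_right, hua, hue]; ring
    set w := v + t • u with hw
    have hwa : sesq σ H w a = 0 := by rw [hw, sesq_add_left, sesq_smul_left, hva, hua]; ring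
    have hwe : sesq σ H w e = 1 := by rw [hw, sesq_add_left, sesq_smul_left, hve, hue]; ring
    have hww : sesq σ H w w = 2 / E := by
      simp only [hw, sesq_add_left, sesq_add_right, sesq_smul_left, sesq_smul_right, hvu, huv, huu, htσ]
      rw [ht]
      have := hB.two_ne
      field_simp
      ring
    refine ⟨w, by rw [hww]; exact div_ne_zero hB.two_ne hE, ?_⟩
    rw [hS w 0 1 hwa hwe (map_zero σ) (map_one σ), hww]
    field_simp
    ring
  · set τ := 2 * C * C / (A * E) - 1 with hτ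
    by_cases hτ0 : τ = 0
    · refine ⟨a, hA, ?_⟩
      rw [hS a A C rfl rfl hAσ hCσ, ← hAdef]
      rw [hτ, sub_eq_zero, div_eq_one_iff_eq (mul_ne_zero hA hE)] at hτ0
      field_simp
      linear_combination hτ0
    -- an anisotropic vector orthogonal to the plane
    obtain ⟨k, hka, hke, hk⟩ : ∃ k, sesq σ H k a = 0 ∧ sesq σ H k e = 0 ∧ sesq σ H k k ≠ 0 := by
      by_contra hno
      push Not at hno
      obtain ⟨k, hk0, hka, hke⟩ := exists_perp_ne_zero (σ := σ) (H := H) hn a e
      set W := LinearMap.ker ((formL σ H a).prod (formL σ H e)) with hW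
      have hWmem : ∀ x, x ∈ W ↔ sesq σ H x a = 0 ∧ sesq σ H x e = 0 := fun x => by
        rw [hW, LinearMap.mem_ker, LinearMap.prod_apply]
        exact Prod.ext_iff
      have hW0 : ∀ x ∈ W, sesq σ H x x = 0 := fun x hx =>
        hno x ((hWmem x).mp hx).1 ((hWmem x).mp hx).2
      apply hk0
      refine hB.eq_zero fun x => ?_
      obtain ⟨d, hd⟩ : ∃ d, (A * E - C * C) * d = 1 := ⟨_, mul_inv_cancel₀ hD⟩
      set p := (sesq σ H x a * E - sesq σ H x e * C) * d
      set q := (sesq σ H x e * A - sesq σ H x a * C) * d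
      have hx : x - (p • a + q • e) ∈ W := by
        refine (hWmem _).mpr ⟨?_, ?_⟩ <;>
          rw [sesq_sub_left, sesq_add_left, sesq_smul_left, sesq_smul_left] <;>
          simp only [hea, ← hAdef, ← hEdef, ← hCdef, p, q]
        · linear_combination -(sesq σ H x a) * hd
        · linear_combination -(sesq σ H x e) * hd
      have := hB.polar hW0 ((hWmem k).mpr ⟨hka, hke⟩) hx
      rwa [sesq_sub_right, sesq_add_right, sesq_smul_right, sesq_smul_right, hka, hke, mul_zero,
        mul_zero, add_zero, sub_zero] at this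
    set K := fixedSub σ
    set T := -sesq σ H k k / τ with hT
    have hτσ : σ τ = τ := by rw [hτ, map_sub, map_div₀, map_mul, map_mul, map_mul, map_one, h2σ, hAσ, hEσ, hCσ]
    have hTσ : σ T = T := by rw [hT, map_div₀, map_neg, hB.flip, hτσ]
    have hAK : A ∈ K := hAσ
    have hDK : (A * E - C * C) / A ∈ K := by
      show σ _ = _
      rw [map_div₀, map_sub, map_mul, map_mul, hAσ, hEσ, hCσ]
      rfl
    obtain ⟨x, y, hxy⟩ := exists_sq_sum (F := K) (fun h => hB.two_ne (by
        have := congrArg K.subtype h; rwa [map_ofNat, map_zero] at this))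
      (a := ⟨A, hAK⟩) (b := ⟨_, hDK⟩) (fun h => hA (congrArg Subtype.val h))
      (fun h => div_ne_zero hD hA (congrArg Subtype.val h)) ⟨T, hTσ⟩
    have hxy' : A * (x : F) ^ 2 + (A * E - C * C) / A * (y : F) ^ 2 = T := congrArg Subtype.val hxy
    set s := (x : F) - C * y / A with hs
    have hyσ : σ (y : F) = y := y.2
    have hsσ : σ s = s := by rw [hs, map_sub, map_div₀, map_mul, hCσ, hAσ, hyσ, show σ (x : F) = x from x.2]
    set w := s • a + (y : F) • e + k with hw
    have hak : sesq σ H a k = 0 := by rw [← hB.flip k a, hka, map_zero]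
    have hek : sesq σ H e k = 0 := by rw [← hB.flip k e, hke, map_zero]
    have hwa : sesq σ H w a = s * A + y * C := by
      rw [hw, sesq_add_left, sesq_add_left, sesq_smul_left, sesq_smul_left, hka, hea]; ring
    have hwe : sesq σ H w e = s * C + y * E := by
      rw [hw, sesq_add_left, sesq_add_left, sesq_smul_left, sesq_smul_left, hke]; ring
    have hval : A * s * s + 2 * C * s * y + E * y * y = T := by
      rw [← hxy', hs]; field_simp; ring
    have hww : sesq σ H w w = T + sesq σ H k k := by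
      simp only [hw, sesq_add_left, sesq_add_right, sesq_smul_left, sesq_smul_right, hka, hke, hak, hek,
        hea, hsσ, hyσ, ← hAdef, ← hEdef, ← hCdef]
      linear_combination hval
    have hkT : sesq σ H k k = -(τ * T) := by rw [hT]; field_simp
    refine ⟨w, ?_, ?_⟩
    · rw [hww, hkT]
      intro h0
      have h1 : T * (1 - τ) = 0 := by linear_combination h0
      rcases mul_eq_zero.mp h1 with h1 | h1
      · exact hk (by rw [hkT, h1, mul_zero, neg_zero])
      · apply hD
        have := hB.two_ne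
        rw [hτ] at h1
        field_simp at h1
        have h2 : (2 : F) * (A * E - C * C) = 0 := by linear_combination h1
        exact (mul_eq_zero.mp h2).resolve_left hB.two_ne
    · rw [hS w _ _ hwa hwe (by rw [map_add, map_mul, map_mul, hsσ, hAσ, hyσ, hCσ])
        (by rw [map_add, map_mul, map_mul, hsσ, hEσ, hyσ, hCσ]), hww, hkT, hτ, ← hval]
      field_simp
      ring

/-- A semilinear map fixing every anisotropic line is scalar. -/
theorem eq_scalar_of_lines (hB : IsForm σ H) (hn : 3 ≤ n) (g : GL (Fin n) F) (τ : F ≃+* F)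
    (h : ∀ a, sesq σ H a a ≠ 0 → ∃ μ : F, (g : Matrix (Fin n) (Fin n) F) *ᵥ (τ ∘ a) = μ • a) :
    (∃ u : Fˣ, g = Matrix.GeneralLinearGroup.scalar (Fin n) u) ∧ τ = 1 := by
  refine eq_scalar_of_all_lines (by omega) g τ fun v => ?_
  by_cases hv : sesq σ H v v ≠ 0
  · exact h v hv
  push Not at hv
  by_cases hv0 : v = 0
  · exact ⟨0, by subst hv0; funext k; simp [Matrix.mulVec, dotProduct]⟩
  obtain ⟨x0, hx0⟩ : ∃ x0, sesq σ H x0 v = 1 := by
    obtain ⟨z, hz⟩ : ∃ z, sesq σ H z v ≠ 0 := by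
      by_contra hno
      push Not at hno
      exact hv0 (hB.eq_zero fun x => by rw [← hB.flip x v, hno, map_zero])
    exact ⟨(sesq σ H z v)⁻¹ • z, by rw [sesq_smul_left, inv_mul_cancel₀ hz]⟩
  obtain ⟨l, hlv, hl⟩ : ∃ l, sesq σ H l v = 0 ∧ l ∉ Submodule.span F {v} := by
    by_contra hno
    push Not at hno
    have h1 := LinearMap.finrank_range_add_finrank_ker (formL σ H v)
    have h2 : Module.finrank F (LinearMap.range (formL σ H v)) ≤ 1 :=
      (Submodule.finrank_le _).trans (by simp)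
    have h3 : Module.finrank F (LinearMap.ker (formL σ H v)) ≤ 1 :=
      (Submodule.finrank_mono (fun x hx => hno x hx)).trans (finrank_span_singleton hv0).le
    rw [Module.finrank_pi, Fintype.card_fin] at h1
    omega
  have key : ∀ x, sesq σ H x v = 1 → ∃ c d : F,
      (g : Matrix (Fin n) (Fin n) F) *ᵥ (τ ∘ v) = c • x + d • v := by
    intro x hx
    set t := (1 - sesq σ H x x) / 2 with ht
    have htσ : σ t = t := by rw [ht, map_div₀, map_sub, map_one, hB.flip, map_ofNat]
    have hvx : sesq σ H v x = 1 := by rw [← hB.flip x v, hx, map_one]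
    set y := x + t • v with hy
    have hyv : sesq σ H y v = 1 := by rw [hy, sesq_add_left, sesq_smul_left, hx, hv]; ring
    have hvy : sesq σ H v y = 1 := by rw [← hB.flip y v, hyv, map_one]
    have hyy : sesq σ H y y = 1 := by
      simp only [hy, sesq_add_left, sesq_add_right, sesq_smul_left, sesq_smul_right, hx, hvx, hv, htσ]
      rw [ht]; have := hB.two_ne; field_simp; ring
    have hyv2 : sesq σ H (y - v) (y - v) = -1 := by
      simp only [sesq_sub_left, sesq_sub_right, hyv, hvy, hyy, hv]; ring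
    obtain ⟨μ, hμ⟩ := h y (by rw [hyy]; exact one_ne_zero)
    obtain ⟨μ', hμ'⟩ := h (y - v) (by rw [hyv2]; exact neg_ne_zero.mpr one_ne_zero)
    refine ⟨μ - μ', (μ - μ') * t + μ', ?_⟩
    have e : (τ ∘ v : Fin n → F) = τ ∘ y - τ ∘ (y - v) := by funext k; simp
    rw [e, Matrix.mulVec_sub, hμ, hμ', hy]
    funext k; simp; ring
  obtain ⟨c, d, hcd⟩ := key x0 hx0
  obtain ⟨c', d', hcd'⟩ := key (x0 + l) (by rw [sesq_add_left, hx0, hlv, add_zero])
  have hc : c = c' := by
    have := congrArg (fun z => sesq σ H z v) (hcd.symm.trans hcd')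
    simpa [sesq_add_left, sesq_smul_left, hx0, hlv, hv] using this
  subst hc
  refine ⟨d, ?_⟩
  by_cases hc0 : c = 0
  · rw [hcd, hc0, zero_smul, zero_add]
  · exfalso
    apply hl
    rw [Submodule.mem_span_singleton]
    refine ⟨(d - d') / c, ?_⟩
    funext k
    have := congrFun (hcd.symm.trans hcd') k
    simp at this ⊢
    field_simp
    linear_combination this

section Rep

variable {Γ : Type*} [Group Γ]

/-- The image of a reflection. -/
def R (hB : IsForm σ H) (ρ : isoG σ H →* Γ) (a : Fin n → F) : Γ := ρ ⟨refl σ H a, refl_mem hB a⟩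

variable (hB : IsForm σ H) (ρ : isoG σ H →* Γ)
  (hρ : ∀ g : isoG σ H, ρ g = 1 → ∃ u : Fˣ, (g : GL (Fin n) F) = Matrix.GeneralLinearGroup.scalar (Fin n) u)

theorem R_mul_self (a : Fin n → F) : R hB ρ a * R hB ρ a = 1 := by
  rw [R, ← map_mul]
  convert map_one ρ
  exact Subtype.ext (Units.ext (reflMat_mul_self a))

theorem conj_R (g : isoG σ H) (a : Fin n → F) :
    ρ g * R hB ρ a * (ρ g)⁻¹ = R hB ρ ((g.1 : Matrix (Fin n) (Fin n) F) *ᵥ a) := by
  rw [R, R, ← map_inv, ← map_mul, ← map_mul]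
  exact congrArg ρ (Subtype.ext (iso_refl g.2 a))

include hρ in
theorem par_of_R_eq (hn : 3 ≤ n) {a b : Fin n → F} (ha : sesq σ H a a ≠ 0)
    (h : R hB ρ a = R hB ρ b) : ∃ μ : F, a = μ • b := by
  have h' : ρ (⟨refl σ H a, refl_mem hB a⟩ * ⟨refl σ H b, refl_mem hB b⟩) = 1 := by
    rw [map_mul]
    show R hB ρ a * R hB ρ b = 1
    rw [← h, R_mul_self]
  obtain ⟨u, hu⟩ := hρ _ h'
  have hu' : ∀ x, (refl σ H a : Matrix (Fin n) (Fin n) F) *ᵥ
      ((refl σ H b : Matrix (Fin n) (Fin n) F) *ᵥ x) = (u : F) • x := by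
    intro x
    have := congrArg (fun g : GL (Fin n) F => (g : Matrix (Fin n) (Fin n) F) *ᵥ x) hu
    simpa [Matrix.mulVec_mulVec, ← Matrix.smul_one_eq_diagonal, Matrix.smul_mulVec] using this
  obtain ⟨k, hk0, hka, hkb⟩ := exists_perp_ne_zero (σ := σ) (H := H) hn a b
  have hu1 : (u : F) = 1 := by
    have := hu' k
    rw [refl_mulVec_perp hkb, refl_mulVec_perp hka] at this
    by_contra hne
    have h1 : ((u : F) - 1) • k = 0 := by rw [sub_smul, one_smul, ← this, sub_self]
    exact hk0 ((smul_eq_zero.mp h1).resolve_left (sub_ne_zero.mpr hne))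
  have := hu' a
  rw [hu1, one_smul, refl_mulVec b a, Matrix.mulVec_sub, Matrix.mulVec_smul, refl_mulVec_self ha] at this
  set c := 2 / sesq σ H b b * sesq σ H a b
  have h2 : (2 : F) • a + c • ((refl σ H a : Matrix (Fin n) (Fin n) F) *ᵥ b) = 0 := by
    rw [two_smul]
    linear_combination (norm := module) -this
  have h3 := congrArg (fun z => (refl σ H a : Matrix (Fin n) (Fin n) F) *ᵥ z) h2
  simp only [Matrix.mulVec_add, Matrix.mulVec_smul, refl_mulVec_self ha, Matrix.mulVec_zero] at h3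
  rw [Matrix.mulVec_mulVec, ← Units.val_mul] at h3
  rw [show refl σ H a * refl σ H a = 1 from Units.ext (reflMat_mul_self a), Units.val_one,
    Matrix.one_mulVec] at h3
  refine ⟨c / 2, ?_⟩
  have := hB.two_ne
  funext k
  have h4 := congrFun h3 k
  simp at h4 ⊢
  field_simp
  linear_combination -h4

include hρ in
theorem not_central_orth (hn : 3 ≤ n) {x y : Fin n → F} (hy : sesq σ H y y ≠ 0)
    (hxy : sesq σ H y x = 0)
    (h : ∀ c, sesq σ H c c ≠ 0 → (R hB ρ x * R hB ρ y) * R hB ρ c = R hB ρ c * (R hB ρ x * R hB ρ y)) :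
    False := by
  set g : isoG σ H := ⟨refl σ H x, refl_mem hB x⟩ * ⟨refl σ H y, refl_mem hB y⟩ with hg
  have hg' : ρ g = R hB ρ x * R hB ρ y := map_mul _ _ _
  have hmv : ∀ v, (g.1 : Matrix (Fin n) (Fin n) F) *ᵥ v = (refl σ H x : Matrix (Fin n) (Fin n) F) *ᵥ
      ((refl σ H y : Matrix (Fin n) (Fin n) F) *ᵥ v) := fun v => (Matrix.mulVec_mulVec _ _ _).symm
  obtain ⟨⟨u, hu⟩, -⟩ := eq_scalar_of_lines hB hn g.1 1 fun c hc => by
    have e := conj_R hB ρ g c
    rw [hg', h c hc, mul_inv_cancel_right] at e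
    obtain ⟨μ, hμ⟩ := par_of_R_eq hB ρ hρ hn hc e
    refine ⟨μ⁻¹, ?_⟩
    have hμ0 : μ ≠ 0 := fun h0 => hc (by rw [hμ, h0, zero_smul, sesq_zero_left])
    show (g.1 : Matrix (Fin n) (Fin n) F) *ᵥ c = μ⁻¹ • c
    conv_rhs => rw [hμ]
    rw [smul_smul, inv_mul_cancel₀ hμ0, one_smul]
  have hsc : ∀ v, (g.1 : Matrix (Fin n) (Fin n) F) *ᵥ v = (u : F) • v := fun v => by
    rw [hu]; simp [← Matrix.smul_one_eq_diagonal, Matrix.smul_mulVec]
  obtain ⟨k, hk0, hkx, hky⟩ := exists_perp_ne_zero (σ := σ) (H := H) hn x y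
  have h1 : (u : F) • k = k := by rw [← hsc, hmv, refl_mulVec_perp hky, refl_mulVec_perp hkx]
  have h2 : (u : F) • y = -y := by
    rw [← hsc, hmv, refl_mulVec_self hy, Matrix.mulVec_neg, refl_mulVec_perp hxy]
  have hu1 : (u : F) = 1 := by
    by_contra hne
    have h3 : ((u : F) - 1) • k = 0 := by rw [sub_smul, one_smul, h1, sub_self]
    exact hk0 ((smul_eq_zero.mp h3).resolve_left (sub_ne_zero.mpr hne))
  rw [hu1, one_smul] at h2
  have h3 : (2 : F) • y = 0 := by rw [two_smul]; exact eq_neg_iff_add_eq_zero.mp h2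
  exact hy (by rw [(smul_eq_zero.mp h3).resolve_left hB.two_ne, sesq_zero_left])

include hρ in
/-- The key lemma: a family of elements closed under a commutator operation with reflections, whose
involutions commute with all reflections, contains no product of two distinct reflections. -/
theorem pair_eq [Finite F] (hn : 3 ≤ n) (P : Γ → Prop) {a e : Fin n → F} (ha : sesq σ H a a ≠ 0)
    (he : sesq σ H e e ≠ 0) (h0 : P (R hB ρ e * R hB ρ a))
    (hstep : ∀ z w, sesq σ H w w ≠ 0 → P z → P (z * R hB ρ w * z⁻¹ * R hB ρ w))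
    (hsq : ∀ z, P z → z * z = 1 → ∀ c, sesq σ H c c ≠ 0 → z * R hB ρ c = R hB ρ c * z) :
    R hB ρ e = R hB ρ a := by
  by_contra hne
  have horth : ∀ x y, sesq σ H y x = 0 →
      (R hB ρ x * R hB ρ y) * (R hB ρ x * R hB ρ y) = 1 := by
    intro x y hxy
    have hc : R hB ρ x * R hB ρ y = R hB ρ y * R hB ρ x := by
      rw [R, R, ← map_mul, ← map_mul]
      exact congrArg ρ (Subtype.ext (refl_comm hB hxy))
    nth_rewrite 2 [hc]
    rw [← mul_assoc, mul_assoc (R hB ρ x) (R hB ρ y), R_mul_self, mul_one, R_mul_self]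
  by_cases hC : sesq σ H a e = 0
  · exact not_central_orth hB ρ hρ hn ha hC (hsq _ h0 (horth _ _ hC))
  have hlin : ∀ c : F, e ≠ c • a := by
    intro c hc
    have hc0 : c ≠ 0 := fun h => he (by rw [hc, h, zero_smul, sesq_zero_left])
    exact hne (congrArg ρ (Subtype.ext (by rw [hc]; exact refl_smul hc0)))
  set C := sesq σ H a e with hCdef
  have hsm : R hB ρ (C • e) = R hB ρ e := congrArg ρ (Subtype.ext (refl_smul hC))
  obtain ⟨w, hw, hw0⟩ := exists_orth_image hB hn (e := C • e) ha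
    (by rw [sesq_smul_left, sesq_smul_right]; exact mul_ne_zero hC (mul_ne_zero ((map_ne_zero σ).mpr hC) he))
    (by rw [sesq_smul_right]; exact mul_ne_zero ((map_ne_zero σ).mpr hC) hC)
    (by rw [sesq_smul_right, ← hCdef, map_mul, hB.invol, mul_comm])
    (fun c hc => hlin (C⁻¹ * c) (by rw [mul_smul, ← hc, smul_smul, inv_mul_cancel₀ hC, one_smul]))
  set g : isoG σ H := ⟨refl σ H (C • e), refl_mem hB _⟩ * ⟨refl σ H a, refl_mem hB a⟩ with hg
  have hg' : ρ g = R hB ρ e * R hB ρ a := by rw [← hsm]; exact map_mul _ _ _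
  set x := (g.1 : Matrix (Fin n) (Fin n) F) *ᵥ w with hx
  have hxw : sesq σ H x w = 0 := by rw [hx, hg, Subgroup.coe_mul, Units.val_mul, ← Matrix.mulVec_mulVec]; exact hw0
  have hwx : sesq σ H w x = 0 := by rw [← hB.flip x w, hxw, map_zero]
  have hP := hstep _ w hw h0
  rw [← hg', conj_R] at hP
  exact not_central_orth hB ρ hρ hn hw hwx (hsq _ hP (horth _ _ hwx))

include hρ in
/-- An odd order subgroup normalised by the reflections and permuting them centralises them. -/
theorem centralizes_of_odd [Finite F] (hn : 3 ≤ n) (M : Subgroup Γ) (hodd : Odd (Nat.card M))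
    (hnorm : ∀ a, sesq σ H a a ≠ 0 → ∀ y ∈ M, R hB ρ a * y * R hB ρ a ∈ M)
    (himg : ∀ y ∈ M, ∀ a, sesq σ H a a ≠ 0 →
      ∃ e, sesq σ H e e ≠ 0 ∧ y * R hB ρ a * y⁻¹ = R hB ρ e) :
    ∀ y ∈ M, ∀ a, sesq σ H a a ≠ 0 → y * R hB ρ a = R hB ρ a * y := by
  intro y hy a ha
  obtain ⟨e, he, hye⟩ := himg y hy a ha
  have h0 : R hB ρ e * R hB ρ a ∈ M := by
    rw [← hye, mul_assoc, mul_assoc, ← mul_assoc (R hB ρ a)]
    exact M.mul_mem hy (hnorm a ha _ (M.inv_mem hy))
  have := pair_eq hB ρ hρ hn (· ∈ M) ha he h0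
    (fun z w hw hz => by
      rw [mul_assoc, mul_assoc, ← mul_assoc (R hB ρ w)]
      exact M.mul_mem hz (hnorm w hw _ (M.inv_mem hz)))
    (fun z hz hz2 c _ => by
      have h1 : orderOf (⟨z, hz⟩ : M) ∣ 2 := orderOf_dvd_of_pow_eq_one (Subtype.ext (by
        simp [pow_two, hz2]))
      have h2 : orderOf (⟨z, hz⟩ : M) ∣ Nat.card M := orderOf_dvd_natCard _
      have h3 : orderOf (⟨z, hz⟩ : M) = 1 :=
        Nat.eq_one_of_dvd_coprimes (Nat.coprime_two_left.mpr hodd) h1 h2
      have : z = 1 := congrArg Subtype.val (orderOf_eq_one_iff.mp h3)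
      rw [this, one_mul, mul_one])
  rw [this] at hye
  exact mul_inv_eq_iff_eq_mul.mp hye

include hρ in
/-- An element permuting the reflections and fixing their products commutes with them. -/
theorem commutes_of_fix [Finite F] (hn : 3 ≤ n) (u : Γ)
    (himg : ∀ a, sesq σ H a a ≠ 0 → ∃ e, sesq σ H e e ≠ 0 ∧ u * R hB ρ a * u⁻¹ = R hB ρ e)
    (hfix : ∀ a b, sesq σ H a a ≠ 0 → sesq σ H b b ≠ 0 →
      u * (R hB ρ a * R hB ρ b) * u⁻¹ = R hB ρ a * R hB ρ b) :
    ∀ a, sesq σ H a a ≠ 0 → u * R hB ρ a = R hB ρ a * u := by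
  intro a ha
  obtain ⟨e, he, hue⟩ := himg a ha
  have hinv : ∀ c, sesq σ H c c ≠ 0 → R hB ρ c * (R hB ρ a * R hB ρ e) * R hB ρ c =
      (R hB ρ a * R hB ρ e)⁻¹ := by
    intro c hc
    obtain ⟨f, hf, huf⟩ := himg c hc
    have h1 : R hB ρ e * R hB ρ f = R hB ρ a * R hB ρ c := by
      rw [← hfix a c ha hc, ← hue, ← huf]; group
    have h2 : R hB ρ a * R hB ρ e = R hB ρ c * R hB ρ f := by
      calc R hB ρ a * R hB ρ e
          = R hB ρ a * (R hB ρ e * R hB ρ f) * R hB ρ f := by
            rw [mul_assoc, mul_assoc (R hB ρ e), R_mul_self, mul_one]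
        _ = _ := by rw [h1, ← mul_assoc (R hB ρ a), R_mul_self, one_mul]
    rw [h2, mul_assoc, mul_assoc (R hB ρ c) (R hB ρ f), ← mul_assoc (R hB ρ c) (R hB ρ c), R_mul_self,
      one_mul, _root_.mul_inv_rev, inv_eq_of_mul_eq_one_left (R_mul_self hB ρ f),
      inv_eq_of_mul_eq_one_left (R_mul_self hB ρ c)]
  have := pair_eq hB ρ hρ hn (fun z => ∀ c, sesq σ H c c ≠ 0 → R hB ρ c * z * R hB ρ c = z⁻¹)
    he ha hinv
    (fun z w hw hz c hc => by
      have h1 : z * R hB ρ w * z⁻¹ * R hB ρ w = z * z := by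
        rw [← hz w hw]
        calc z * R hB ρ w * (R hB ρ w * z * R hB ρ w) * R hB ρ w
            = z * (R hB ρ w * R hB ρ w) * z * (R hB ρ w * R hB ρ w) := by group
          _ = z * z := by rw [R_mul_self, mul_one, mul_one]
      rw [h1]
      calc R hB ρ c * (z * z) * R hB ρ c
          = R hB ρ c * z * 1 * z * R hB ρ c := by group
        _ = (R hB ρ c * z * R hB ρ c) * (R hB ρ c * z * R hB ρ c) := by
            rw [← R_mul_self hB ρ c]; group
        _ = _ := by rw [hz c hc, ← _root_.mul_inv_rev])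
    (fun z hz hz2 c hc => by
      have h1 := hz c hc
      rw [inv_eq_of_mul_eq_one_left hz2] at h1
      calc z * R hB ρ c = R hB ρ c * z * R hB ρ c * R hB ρ c := by rw [h1]
        _ = _ := by rw [mul_assoc, R_mul_self, mul_one])
  rw [← this] at hue
  exact mul_inv_eq_iff_eq_mul.mp hue

end Rep

end CfsgLib.Refl
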