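import Cfsg.Agent.Lib.AutPSL.Basic

/-!
Root elements `1 + a v φᵀ` of `PSL_n(F)` for pairs with `φ ⬝ᵥ v = 0`.
-/

set_option autoImplicit false

namespace CfsgLib.AutPSL

open Matrix

variable {n : ℕ} {F : Type*} [Field F]

theorem det_rootMat (v φ : Fin n → F) (a : F) (h : φ ⬝ᵥ v = 0) :
    ((1 : Matrix (Fin n) (Fin n) F) + a • vecMulVec v φ).det = 1 := by
  have : a • vecMulVec v φ = replicateCol Unit (a • v) * replicateRow Unit φ := by
    ext i j; simp [vecMulVec_apply, Matrix.mul_apply, mul_assoc]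
  rw [this, det_one_add_replicateCol_mul_replicateRow, dotProduct_smul, h, smul_zero, add_zero]

/-- A matrix of determinant one as an element of `SL_n`. -/
def mkSL (A : Matrix (Fin n) (Fin n) F) (h : A.det = 1) : SLG n F := ⟨A, h⟩

open scoped Classical in
/-- The element `1 + a v φᵀ` of `SL_n`; junk value `1` when `φ ⬝ᵥ v ≠ 0`. -/
noncomputable def slRoot (v φ : Fin n → F) (a : F) : SLG n F :=
  if h : φ ⬝ᵥ v = 0 then mkSL (1 + a • vecMulVec v φ) (det_rootMat v φ a h) else 1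

noncomputable def rootEl (v φ : Fin n → F) (a : F) : PSLG n F := QuotientGroup.mk (slRoot v φ a)

theorem slRoot_coe {v φ : Fin n → F} (h : φ ⬝ᵥ v = 0) (a : F) :
    (slRoot v φ a).1 = 1 + a • vecMulVec v φ := by rw [slRoot, dif_pos h]; rfl

theorem vecMulVec_mul_self_zero {v φ w ψ : Fin n → F} (h : φ ⬝ᵥ w = 0) :
    vecMulVec v φ * vecMulVec w ψ = 0 := by
  rw [vecMulVec_mul_vecMulVec, h]; simp

theorem slRoot_add {v φ : Fin n → F} (h : φ ⬝ᵥ v = 0) (a b : F) :
    slRoot v φ (a + b) = slRoot v φ a * slRoot v φ b := by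
  apply Subtype.ext
  simp only [Matrix.SpecialLinearGroup.coe_mul, slRoot_coe h, mul_add, add_mul, one_mul, mul_one,
    smul_mul_smul_comm, vecMulVec_mul_self_zero h, smul_zero, add_zero]
  rw [add_smul, add_assoc]

theorem rootEl_add {v φ : Fin n → F} (h : φ ⬝ᵥ v = 0) (a b : F) :
    rootEl v φ (a + b) = rootEl v φ a * rootEl v φ b := by
  rw [rootEl, slRoot_add h]; rfl

theorem slRoot_zero (v φ : Fin n → F) : slRoot v φ 0 = 1 := by
  by_cases h : φ ⬝ᵥ v = 0
  · apply Subtype.ext; rw [slRoot_coe h]; simp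
  · rw [slRoot, dif_neg h]

theorem rootEl_zero (v φ : Fin n → F) : rootEl v φ 0 = 1 := by rw [rootEl, slRoot_zero]; rfl

theorem rootEl_smul_left {v φ : Fin n → F} (h : φ ⬝ᵥ v = 0) (c a : F) :
    rootEl (c • v) φ a = rootEl v φ (a * c) := by
  rw [rootEl, rootEl]; congr 1; apply Subtype.ext
  rw [slRoot_coe (by rw [dotProduct_smul, h, smul_zero]), slRoot_coe h, smul_vecMulVec, smul_smul]

theorem rootEl_smul_right {v φ : Fin n → F} (h : φ ⬝ᵥ v = 0) (c a : F) :
    rootEl v (c • φ) a = rootEl v φ (a * c) := by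
  rw [rootEl, rootEl]; congr 1; apply Subtype.ext
  rw [slRoot_coe (by rw [smul_dotProduct, h, smul_zero]), slRoot_coe h, vecMulVec_smul, smul_smul]

theorem dot_conj (g : GL (Fin n) F) (v φ : Fin n → F) :
    (φ ᵥ* ((g⁻¹ : GL (Fin n) F) : Matrix (Fin n) (Fin n) F)) ⬝ᵥ
      ((g : Matrix (Fin n) (Fin n) F) *ᵥ v) = φ ⬝ᵥ v := by
  rw [dotProduct_mulVec, vecMul_vecMul, ← Units.val_mul, inv_mul_cancel, Units.val_one, vecMul_one]

theorem conjAut_rootEl (g : GL (Fin n) F) {v φ : Fin n → F} (h : φ ⬝ᵥ v = 0) (a : F) :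
    conjAut g (rootEl v φ a) = rootEl ((g : Matrix (Fin n) (Fin n) F) *ᵥ v)
      (φ ᵥ* ((g⁻¹ : GL (Fin n) F) : Matrix (Fin n) (Fin n) F)) a := by
  rw [rootEl, conjAut_mk, rootEl]; congr 1; apply Subtype.ext
  rw [slConj_coe, slRoot_coe h, slRoot_coe (by rw [dot_conj, h]), mul_add, add_mul, mul_one,
    ← Units.val_mul, mul_inv_cancel, Units.val_one, Matrix.mul_smul, Matrix.smul_mul,
    mul_vecMulVec, vecMulVec_mul]

theorem fieldAut_rootEl (σ : F ≃+* F) {v φ : Fin n → F} (h : φ ⬝ᵥ v = 0) (a : F) :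
    fieldAut σ (rootEl v φ a) = rootEl (σ ∘ v) (σ ∘ φ) (σ a) := by
  have h' : (σ ∘ φ) ⬝ᵥ (σ ∘ v) = 0 := by
    have := congrArg σ h
    simpa [dotProduct, map_sum, map_mul] using this
  rw [rootEl, fieldAut_mk, rootEl]; congr 1; apply Subtype.ext
  rw [slField_coe, slRoot_coe h, slRoot_coe h']
  ext i j
  simp [Matrix.map_apply, Matrix.one_apply, vecMulVec_apply, map_add, map_mul, apply_ite σ]

theorem slRoot_inv {v φ : Fin n → F} (h : φ ⬝ᵥ v = 0) (a : F) :
    (slRoot v φ a)⁻¹ = slRoot v φ (-a) :=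
  inv_eq_of_mul_eq_one_left (by rw [← slRoot_add h, neg_add_cancel, slRoot_zero])

theorem iotaAut_rootEl {v φ : Fin n → F} (h : φ ⬝ᵥ v = 0) (a : F) :
    iotaAut (rootEl v φ a) = rootEl φ v (-a) := by
  rw [rootEl, iotaAut_mk, rootEl]; congr 1; apply Subtype.ext
  rw [slIota_coe, slRoot_inv h, slRoot_coe h, slRoot_coe (by rw [dotProduct_comm, h]),
    Matrix.transpose_add, Matrix.transpose_one, Matrix.transpose_smul, transpose_vecMulVec]

/-- Scalar times unipotent is unipotent of step two only for the scalar one. -/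
theorem scalar_eq_one_of_sq_zero (hn : 1 ≤ n) {z : F} (hz : z ≠ 0)
    {N N' : Matrix (Fin n) (Fin n) F} (hN : N * N = 0) (hN' : N' * N' = 0)
    (h : z • (1 + N) = 1 + N') : z = 1 ∧ N' = N := by
  have e : N' = (z - 1) • (1 : Matrix (Fin n) (Fin n) F) + z • N := by
    rw [sub_smul, one_smul, smul_add] at *
    rw [sub_add_eq_add_sub, h, add_sub_cancel_left]
  have h2 : ((z - 1) * (z - 1)) • (1 : Matrix (Fin n) (Fin n) F) + (2 * (z - 1) * z) • N = 0 := by
    rw [← hN', e]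
    simp only [add_mul, mul_add, smul_mul_smul_comm, hN, smul_zero, add_zero, mul_one, one_mul,
      Matrix.smul_mul, Matrix.mul_smul]
    module
  have h3 : ((z - 1) * (z - 1)) • N = 0 := by
    have := congrArg (· * N) h2
    simpa [add_mul, Matrix.smul_mul, hN] using this
  have hz1 : z = 1 := by
    by_contra hne
    have hne' : (z - 1) * (z - 1) ≠ 0 := mul_ne_zero (sub_ne_zero.mpr hne) (sub_ne_zero.mpr hne)
    have hN0 : N = 0 := (smul_eq_zero.mp h3).resolve_left hne'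
    rw [hN0, smul_zero, add_zero] at h2
    have := congrFun (congrFun h2 ⟨0, hn⟩) ⟨0, hn⟩
    simp [hne'] at this
  refine ⟨hz1, ?_⟩
  rw [e, hz1]; simp

theorem mk_eq_mk_iff_smul {A B : SLG n F} :
    (QuotientGroup.mk A : PSLG n F) = QuotientGroup.mk B ↔
      ∃ z : F, z ^ n = 1 ∧ z • A.1 = B.1 := by
  rw [QuotientGroup.eq, Matrix.SpecialLinearGroup.mem_center_iff, Fintype.card_fin]
  constructor
  · rintro ⟨z, hz, h⟩
    refine ⟨z, hz, ?_⟩
    have : A.1 * (A⁻¹ * B : SLG n F).1 = B.1 := by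
      rw [← Matrix.SpecialLinearGroup.coe_mul, mul_inv_cancel_left]
    rw [← h, Matrix.scalar_apply] at this
    rw [← this]
    ext i j; simp [Matrix.mul_diagonal, mul_comm]
  · rintro ⟨z, hz, h⟩
    refine ⟨z, hz, ?_⟩
    rw [Matrix.SpecialLinearGroup.coe_mul, ← h, Matrix.mul_smul, ← Matrix.SpecialLinearGroup.coe_mul,
      inv_mul_cancel, Matrix.SpecialLinearGroup.coe_one, Matrix.scalar_apply]
    ext i j; simp [Matrix.diagonal, Matrix.one_apply]

theorem ne_zero_of_pow_eq_one (hn : 1 ≤ n) {z : F} (hz : z ^ n = 1) : z ≠ 0 := by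
  intro h; rw [h, zero_pow (by omega)] at hz; exact zero_ne_one hz

theorem unipotent_mk_inj (hn : 1 ≤ n) {A B : SLG n F} (hA : (A.1 - 1) * (A.1 - 1) = 0)
    (hB : (B.1 - 1) * (B.1 - 1) = 0) (h : (QuotientGroup.mk A : PSLG n F) = QuotientGroup.mk B) :
    A = B := by
  obtain ⟨z, hz, h⟩ := mk_eq_mk_iff_smul.mp h
  obtain ⟨-, h'⟩ := scalar_eq_one_of_sq_zero hn (ne_zero_of_pow_eq_one hn hz) hA hB
    (by rw [add_sub_cancel, add_sub_cancel]; exact h)
  exact Subtype.ext (sub_left_injective h'.symm)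

theorem slRoot_sub_one_sq {v φ : Fin n → F} (h : φ ⬝ᵥ v = 0) (a : F) :
    ((slRoot v φ a).1 - 1) * ((slRoot v φ a).1 - 1) = 0 := by
  rw [slRoot_coe h, add_sub_cancel_left, smul_mul_smul_comm, vecMulVec_mul_self_zero h, smul_zero]

/-- `v` and `w` span the same line. -/
def Par (v w : Fin n → F) : Prop := ∃ c : F, c ≠ 0 ∧ w = c • v

theorem Par.symm' {v w : Fin n → F} (h : Par v w) : Par w v := by
  obtain ⟨c, hc, rfl⟩ := h
  exact ⟨c⁻¹, inv_ne_zero hc, by rw [smul_smul, inv_mul_cancel₀ hc, one_smul]⟩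

theorem Par.trans' {u v w : Fin n → F} (h : Par u v) (h' : Par v w) : Par u w := by
  obtain ⟨c, hc, rfl⟩ := h
  obtain ⟨d, hd, rfl⟩ := h'
  exact ⟨d * c, mul_ne_zero hd hc, by rw [smul_smul]⟩

theorem par_of_minors {v w : Fin n → F} (hv : v ≠ 0) (hw : w ≠ 0)
    (h : ∀ i j, v i * w j = v j * w i) : Par v w := by
  obtain ⟨i, hi⟩ := Function.ne_iff.mp hv
  simp only [Pi.zero_apply] at hi
  have hw' : w = (w i / v i) • v := by
    funext j; simp only [Pi.smul_apply, smul_eq_mul]; field_simp; linear_combination h i j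
  refine ⟨w i / v i, ?_, hw'⟩
  intro h0
  rw [h0, zero_smul] at hw'
  exact hw hw'

theorem commute_rootEl_iff (hn : 1 ≤ n) {v φ w ψ : Fin n → F} (hv : v ≠ 0) (hφ : φ ≠ 0)
    (hw : w ≠ 0) (hψ : ψ ≠ 0) (h : φ ⬝ᵥ v = 0) (h' : ψ ⬝ᵥ w = 0) {a b : F} (ha : a ≠ 0)
    (hb : b ≠ 0) :
    Commute (rootEl v φ a) (rootEl w ψ b) ↔ φ ⬝ᵥ w = 0 ∧ ψ ⬝ᵥ v = 0 := by
  constructor
  · intro hc
    have h1 : (QuotientGroup.mk (slRoot v φ a * slRoot w ψ b * (slRoot v φ a)⁻¹) : PSLG n F) =
        QuotientGroup.mk (slRoot w ψ b) := by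
      show rootEl v φ a * rootEl w ψ b * (rootEl v φ a)⁻¹ = rootEl w ψ b
      rw [hc.eq, mul_inv_cancel_right]
    have h2 := unipotent_mk_inj hn (by
      have : (slRoot v φ a * slRoot w ψ b * (slRoot v φ a)⁻¹).1 - 1 =
          (slRoot v φ a).1 * ((slRoot w ψ b).1 - 1) * ((slRoot v φ a)⁻¹ : SLG n F).1 := by
        rw [mul_sub, sub_mul, mul_one, ← Matrix.SpecialLinearGroup.coe_mul,
          ← Matrix.SpecialLinearGroup.coe_mul, ← Matrix.SpecialLinearGroup.coe_mul, mul_inv_cancel,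
          Matrix.SpecialLinearGroup.coe_one]
      rw [this]
      calc _ = (slRoot v φ a).1 * ((slRoot w ψ b).1 - 1) *
            (((slRoot v φ a)⁻¹ : SLG n F).1 * (slRoot v φ a).1) *
            ((slRoot w ψ b).1 - 1) * ((slRoot v φ a)⁻¹ : SLG n F).1 := by noncomm_ring
        _ = (slRoot v φ a).1 * (((slRoot w ψ b).1 - 1) * ((slRoot w ψ b).1 - 1)) *
            ((slRoot v φ a)⁻¹ : SLG n F).1 := by
              rw [← Matrix.SpecialLinearGroup.coe_mul, inv_mul_cancel,
                Matrix.SpecialLinearGroup.coe_one, mul_one]; noncomm_ring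
        _ = 0 := by rw [slRoot_sub_one_sq h']; simp) (slRoot_sub_one_sq h' b) h1
    rw [mul_inv_eq_iff_eq_mul] at h2
    have h3 : vecMulVec v φ * vecMulVec w ψ = vecMulVec w ψ * vecMulVec v φ := by
      have h4 := congrArg Subtype.val h2
      simp only [Matrix.SpecialLinearGroup.coe_mul, slRoot_coe h, slRoot_coe h', mul_add, add_mul,
        mul_one, one_mul, smul_mul_smul_comm, Matrix.one_mul, Matrix.mul_one] at h4
      have h5 : (a * b) • (vecMulVec v φ * vecMulVec w ψ) =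
          (b * a) • (vecMulVec w ψ * vecMulVec v φ) := by
        have := sub_eq_zero.mpr h4
        rw [← sub_eq_zero, ← this]; abel
      rw [mul_comm b a] at h5
      exact smul_right_injective _ (mul_ne_zero ha hb) h5
    rw [vecMulVec_mul_vecMulVec, vecMulVec_mul_vecMulVec] at h3
    have h6 : ∀ i j, v i * ((φ ⬝ᵥ w) * ψ j) = w i * ((ψ ⬝ᵥ v) * φ j) := fun i j => by
      simpa [vecMulVec_apply] using congrFun (congrFun h3 i) j
    obtain ⟨j, hj⟩ := Function.ne_iff.mp hψ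
    obtain ⟨j', hj'⟩ := Function.ne_iff.mp hφ
    obtain ⟨i, hi⟩ := Function.ne_iff.mp hv
    obtain ⟨i', hi'⟩ := Function.ne_iff.mp hw
    simp only [Pi.zero_apply] at hj hj' hi hi'
    by_cases hz : φ ⬝ᵥ w = 0
    · refine ⟨hz, ?_⟩
      have := h6 i' j'
      rw [hz] at this
      simpa [hi', hj'] using this.symm
    · exfalso
      have hv' : v = ((ψ ⬝ᵥ v) * φ j / ((φ ⬝ᵥ w) * ψ j)) • w := by
        funext k
        simp only [Pi.smul_apply, smul_eq_mul]
        have := h6 k j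
        field_simp
        linear_combination this
      have h0 : φ ⬝ᵥ v = ((ψ ⬝ᵥ v) * φ j / ((φ ⬝ᵥ w) * ψ j)) * (φ ⬝ᵥ w) := by
        conv_lhs => rw [hv']
        rw [dotProduct_smul, smul_eq_mul]
      rw [h, eq_comm, mul_eq_zero, or_iff_left hz] at h0
      rw [h0, zero_smul] at hv'
      exact hv hv'
  · rintro ⟨h1, h2⟩
    have : slRoot v φ a * slRoot w ψ b = slRoot w ψ b * slRoot v φ a := by
      apply Subtype.ext
      simp only [Matrix.SpecialLinearGroup.coe_mul, slRoot_coe h, slRoot_coe h', mul_add, add_mul,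
        mul_one, one_mul, smul_mul_smul_comm, Matrix.one_mul, Matrix.mul_one,
        vecMulVec_mul_self_zero h1, vecMulVec_mul_self_zero h2, smul_zero, add_zero]
      abel
    show rootEl v φ a * rootEl w ψ b = rootEl w ψ b * rootEl v φ a
    exact congrArg (QuotientGroup.mk : SLG n F → PSLG n F) this

/-- If a product of two commuting root elements is a root element, their pairs share a line. -/
theorem par_of_product (hn : 1 ≤ n) {v φ w ψ u χ : Fin n → F} (hv : v ≠ 0) (hφ : φ ≠ 0)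
    (hw : w ≠ 0) (hψ : ψ ≠ 0) (h : φ ⬝ᵥ v = 0) (h' : ψ ⬝ᵥ w = 0) (hu : χ ⬝ᵥ u = 0)
    {a b c : F} (ha : a ≠ 0) (hb : b ≠ 0) (hc : Commute (rootEl v φ a) (rootEl w ψ b))
    (hp : rootEl v φ a * rootEl w ψ b = rootEl u χ c) : Par v w ∨ Par φ ψ := by
  obtain ⟨h1, h2⟩ := (commute_rootEl_iff hn hv hφ hw hψ h h' ha hb).mp hc
  have e : (slRoot v φ a * slRoot w ψ b).1 - 1 = a • vecMulVec v φ + b • vecMulVec w ψ := by
    simp only [Matrix.SpecialLinearGroup.coe_mul, slRoot_coe h, slRoot_coe h', mul_add, add_mul,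
      mul_one, one_mul, smul_mul_smul_comm, Matrix.one_mul, Matrix.mul_one,
      vecMulVec_mul_self_zero h1, smul_zero, add_zero]
    abel
  have h4 := unipotent_mk_inj hn (by
    rw [e]
    simp only [mul_add, add_mul, smul_mul_smul_comm, vecMulVec_mul_self_zero h,
      vecMulVec_mul_self_zero h1, vecMulVec_mul_self_zero h2, vecMulVec_mul_self_zero h',
      smul_zero, add_zero]) (slRoot_sub_one_sq hu c) hp
  have h5 : a • vecMulVec v φ + b • vecMulVec w ψ = c • vecMulVec u χ := by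
    have h5' := congrArg (fun x : Matrix.SpecialLinearGroup (Fin n) F => x.1 - 1) h4
    simp only at h5'
    rw [← e]
    refine h5'.trans ?_
    rw [slRoot_coe hu, add_sub_cancel_left]
  have h6 : ∀ i i' j j', (v i * w i' - v i' * w i) * (φ j * ψ j' - φ j' * ψ j) = 0 := by
    intro i i' j j'
    have e1 := congrFun (congrFun h5 i) j
    have e2 := congrFun (congrFun h5 i') j'
    have e3 := congrFun (congrFun h5 i) j'
    have e4 := congrFun (congrFun h5 i') j
    simp only [Matrix.add_apply, Matrix.smul_apply, vecMulVec_apply, smul_eq_mul] at e1 e2 e3 e4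
    have h7 : (a * b) * ((v i * w i' - v i' * w i) * (φ j * ψ j' - φ j' * ψ j)) = 0 := by
      have : (a * b) * ((v i * w i' - v i' * w i) * (φ j * ψ j' - φ j' * ψ j)) =
          (a * (v i * φ j) + b * (w i * ψ j)) * (a * (v i' * φ j') + b * (w i' * ψ j'))
          - (a * (v i * φ j') + b * (w i * ψ j')) * (a * (v i' * φ j) + b * (w i' * ψ j)) := by
        ring
      rw [this, e1, e2, e3, e4]; ring
    exact (mul_eq_zero.mp h7).resolve_left (mul_ne_zero ha hb)
  by_cases hvw : ∀ i i', v i * w i' = v i' * w i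
  · exact Or.inl (par_of_minors hv hw hvw)
  · push Not at hvw
    obtain ⟨i, i', hii⟩ := hvw
    refine Or.inr (par_of_minors hφ hψ fun j j' => ?_)
    exact sub_eq_zero.mp ((mul_eq_zero.mp (h6 i i' j j')).resolve_left (sub_ne_zero.mpr hii))

theorem rootEl_ne_one (hn : 1 ≤ n) {v φ : Fin n → F} (hv : v ≠ 0) (hφ : φ ≠ 0) (h : φ ⬝ᵥ v = 0)
    {a : F} (ha : a ≠ 0) : rootEl v φ a ≠ 1 := by
  intro h1
  have h2 := unipotent_mk_inj hn (A := slRoot v φ a) (B := 1) (slRoot_sub_one_sq h a)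
    (by simp) h1
  have h3 := congrArg Subtype.val h2
  rw [slRoot_coe h, Matrix.SpecialLinearGroup.coe_one, add_eq_left] at h3
  obtain ⟨i, hi⟩ := Function.ne_iff.mp hv
  obtain ⟨j, hj⟩ := Function.ne_iff.mp hφ
  have := congrFun (congrFun h3 i) j
  simp [vecMulVec_apply] at this
  rcases this with h0 | h0 | h0
  · exact ha h0
  · exact hi h0
  · exact hj h0

theorem rootEl_injective (hn : 1 ≤ n) {v φ : Fin n → F} (hv : v ≠ 0) (hφ : φ ≠ 0)
    (h : φ ⬝ᵥ v = 0) : Function.Injective (rootEl v φ) := by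
  intro a b hab
  by_contra hne
  apply rootEl_ne_one hn hv hφ h (sub_ne_zero.mpr hne)
  have h2 := rootEl_add h (a - b) b
  rw [sub_add_cancel, hab] at h2
  exact mul_eq_right.mp h2.symm

theorem dot_single_single {i j : Fin n} (h : i ≠ j) :
    (Pi.single j (1 : F) : Fin n → F) ⬝ᵥ Pi.single i 1 = 0 := by
  simp [h]

theorem slRoot_single {i j : Fin n} (h : i ≠ j) (a : F) :
    slRoot (Pi.single i 1) (Pi.single j 1) a = Matrix.SpecialLinearGroup.transvection h a := by
  apply Subtype.ext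
  rw [slRoot_coe (dot_single_single h), Matrix.SpecialLinearGroup.transvection_coe]
  ext k l
  by_cases hk : i = k <;> by_cases hl : j = l <;>
    simp [vecMulVec_apply, Matrix.single_apply, Pi.single_apply, hk, hl, eq_comm] <;> grind

end CfsgLib.AutPSL
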