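import Cfsg.Agent.Lib.AutPSL.RootPairs
import Cfsg.Agent.Classical.SLBasic

/-!
The upper unitriangular subgroup of `SL_n(q)`: it is a Sylow `p`-subgroup and its centre is the
highest root group.
-/

set_option autoImplicit false

namespace CfsgLib.AutPSL

open Matrix Finset

variable {n : ℕ} {F : Type*} [Field F]

def IsUni (s : SLG n F) : Prop := ∀ i j : Fin n, j ≤ i → s.1 i j = if i = j then 1 else 0

theorem isUni_mul {s t : SLG n F} (hs : IsUni s) (ht : IsUni t) : IsUni (s * t) := by
  intro i j hji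
  rw [Matrix.SpecialLinearGroup.coe_mul, Matrix.mul_apply, Finset.sum_eq_single i]
  · rw [hs i i le_rfl, if_pos rfl, one_mul, ht i j hji]
  · intro k _ hki
    rcases lt_or_ge k i with h | h
    · rw [hs i k h.le, if_neg (fun e => hki e.symm), zero_mul]
    · have hik : i < k := lt_of_le_of_ne h (Ne.symm hki)
      rw [ht k j (hji.trans h), if_neg (by rintro rfl; exact (lt_irrefl i) (hik.trans_le hji)), mul_zero]
  · intro h; exact absurd (Finset.mem_univ i) h

theorem isUni_one : IsUni (1 : SLG n F) := fun i j _ => by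
  rw [Matrix.SpecialLinearGroup.coe_one, Matrix.one_apply]

/-- The upper unitriangular matrices. -/
def uni (n : ℕ) (F : Type*) [Field F] [Finite F] : Subgroup (SLG n F) :=
  let M : Submonoid (SLG n F) :=
    { carrier := {s | IsUni s}, mul_mem' := isUni_mul, one_mem' := isUni_one }
  { M with
    inv_mem' := fun {s} hs => by
      obtain ⟨k, hk⟩ : ∃ k : ℕ, s⁻¹ = s ^ k :=
        ⟨orderOf s - 1, inv_eq_of_mul_eq_one_right (by
          rw [← pow_succ', Nat.sub_add_cancel (orderOf_pos s), pow_orderOf_eq_one])⟩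
      rw [hk]; exact M.pow_mem hs k }

theorem mem_uni [Finite F] {s : SLG n F} : s ∈ uni n F ↔ IsUni s := Iff.rfl

def uniEquiv [Finite F] : uni n F ≃ ({p : Fin n × Fin n // p.1 < p.2} → F) where
  toFun s p := s.1.1 p.1.1 p.1.2
  invFun f := ⟨⟨Matrix.of fun i j => if h : i < j then f ⟨(i, j), h⟩ else if i = j then 1 else 0, by
      rw [Matrix.det_of_isUpperTriangular]
      · simp
      · intro i j h
        have hji : j < i := h
        simp [Matrix.of_apply, hji.not_gt, hji.ne']⟩, by
    intro i j hji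
    simp [Matrix.of_apply, hji.not_gt]⟩
  left_inv s := by
    apply Subtype.ext; apply Subtype.ext
    ext i j
    by_cases h : i < j
    · simp [Matrix.of_apply, h]
    · simp only [Matrix.of_apply, dif_neg h]
      exact (s.2 i j (not_lt.mp h)).symm
  right_inv f := by
    funext p
    simp [Matrix.of_apply, p.2]

theorem card_pairs (n : ℕ) :
    Nat.card {p : Fin n × Fin n // p.1 < p.2} = ∑ i : Fin n, (i : ℕ) := by
  have e : {p : Fin n × Fin n // p.1 < p.2} ≃ (Σ a : Fin n, {b : Fin n // b < a}) :=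
    { toFun := fun p => ⟨p.1.2, p.1.1, p.2⟩
      invFun := fun s => ⟨(s.2.1, s.1), s.2.2⟩
      left_inv := fun p => rfl
      right_inv := fun s => rfl }
  rw [Nat.card_congr e, Nat.card_sigma]
  refine Finset.sum_congr rfl fun a _ => ?_
  rw [Nat.card_eq_fintype_card]
  rw [Fintype.card_subtype]
  convert Fin.card_Iio a using 2
  ext b
  simp

variable [Fintype F]

theorem card_uni : Nat.card (uni n F) = Fintype.card F ^ ∑ i : Fin n, (i : ℕ) := by
  rw [Nat.card_congr uniEquiv, Nat.card_fun, card_pairs, Nat.card_eq_fintype_card]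

theorem not_dvd_index_uni (hn : 1 ≤ n) {p : ℕ} [hp : Fact p.Prime] [CharP F p] :
    ¬ p ∣ (uni n F).index := by
  obtain ⟨f, -, hq⟩ := FiniteField.card F p
  have hpd : p ∣ Fintype.card F := hq ▸ dvd_pow_self p f.pos.ne'
  intro hdvd
  have h := Cfsg.Agent.Classical.card_sl_mul (F := F) n hn
  rw [← (uni n F).card_mul_index, card_uni] at h
  have hfac : ∏ i : Fin n, (Fintype.card F ^ n - Fintype.card F ^ (i : ℕ)) =
      Fintype.card F ^ (∑ i : Fin n, (i : ℕ)) * ∏ i : Fin n, (Fintype.card F ^ (n - i) - 1) := by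
    rw [← Finset.prod_pow_eq_pow_sum, ← Finset.prod_mul_distrib]
    refine Finset.prod_congr rfl fun i _ => ?_
    rw [Nat.mul_sub, mul_one, ← pow_add, Nat.add_sub_cancel' i.2.le]
  have h' : Fintype.card F ^ (∑ i : Fin n, (i : ℕ)) *
      ((Fintype.card F - 1) * (uni n F).index) =
      Fintype.card F ^ (∑ i : Fin n, (i : ℕ)) * ∏ i : Fin n, (Fintype.card F ^ (n - i) - 1) := by
    rw [← hfac, ← h]; ring
  have h'' := Nat.eq_of_mul_eq_mul_left (pow_pos Fintype.card_pos _) h'
  have : p ∣ ∏ i : Fin n, (Fintype.card F ^ (n - i) - 1) := h'' ▸ dvd_mul_of_dvd_right hdvd _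
  obtain ⟨i, -, hi⟩ := (Prime.dvd_finsetProd_iff hp.out.prime _).mp this
  have h1 : p ∣ Fintype.card F ^ (n - i) := dvd_pow hpd (by omega)
  have h3 : 1 ≤ Fintype.card F ^ (n - i) := Nat.one_le_pow _ _ Fintype.card_pos
  have h4 := Nat.dvd_sub h1 hi
  rw [Nat.sub_sub_self h3] at h4
  exact hp.out.one_lt.ne' (Nat.dvd_one.mp h4)

theorem isPGroup_uni {p : ℕ} [Fact p.Prime] [CharP F p] : IsPGroup p (uni n F) := by
  obtain ⟨f, -, hq⟩ := FiniteField.card F p
  exact IsPGroup.of_card (n := f * ∑ i : Fin n, (i : ℕ)) (by rw [card_uni, hq, pow_mul])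

/-- The unitriangular Sylow subgroup of `PSL_n`. -/
noncomputable def sylowT (hn : 1 ≤ n) (p : ℕ) [Fact p.Prime] [CharP F p] : Sylow p (PSLG n F) :=
  (isPGroup_uni.toSylow (not_dvd_index_uni hn)).mapSurjective (f := QuotientGroup.mk' _)
    (QuotientGroup.mk'_surjective _)

theorem mem_sylowT {hn : 1 ≤ n} {p : ℕ} [Fact p.Prime] [CharP F p] {x : PSLG n F} :
    x ∈ sylowT hn p ↔ ∃ u ∈ uni n F, QuotientGroup.mk u = x := Iff.rfl

theorem slRoot_mem_uni {i j : Fin n} (h : i < j) (a : F) :
    slRoot (Pi.single i 1) (Pi.single j 1) a ∈ uni n F := by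
  intro k l hlk
  rw [slRoot_single h.ne, Matrix.SpecialLinearGroup.transvection_coe, Matrix.add_apply,
    Matrix.one_apply, Matrix.single_apply,
    if_neg (show ¬(i = k ∧ j = l) from fun e => h.not_ge (e.1 ▸ e.2 ▸ hlk)), add_zero]

omit [Fintype F] in
theorem root_first_last_apply {i0 il : Fin n} (h : i0 ≠ il) (a : F) (k l : Fin n) :
    (slRoot (Pi.single i0 1) (Pi.single il 1) a).1 k l =
      (if k = l then 1 else 0) + (if i0 = k ∧ il = l then a else 0) := by
  rw [slRoot_single h, Matrix.SpecialLinearGroup.transvection_coe, Matrix.add_apply,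
    Matrix.one_apply, Matrix.single_apply]

theorem root_first_last_central {i0 il : Fin n} (h0 : ∀ i, i0 ≤ i) (hl : ∀ i, i ≤ il)
    (h : i0 ≠ il) (a : F) {u : SLG n F} (hu : u ∈ uni n F) :
    Commute (slRoot (Pi.single i0 1) (Pi.single il 1) a) u := by
  apply Subtype.ext
  rw [Matrix.SpecialLinearGroup.coe_mul, Matrix.SpecialLinearGroup.coe_mul, slRoot_single h,
    Matrix.SpecialLinearGroup.transvection_coe, add_mul, mul_add, one_mul, mul_one]
  congr 1
  ext k l
  by_cases hk : k = i0
  · subst hk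
    rw [Matrix.single_mul_apply_same]
    by_cases hl' : l = il
    · subst hl'
      rw [Matrix.mul_single_apply_same, hu l l le_rfl, hu k k le_rfl]
      simp
    · rw [Matrix.mul_single_apply_of_ne (hbj := hl'), hu il l (hl l), if_neg (Ne.symm hl'), mul_zero]
  · rw [Matrix.single_mul_apply_of_ne (h := hk)]
    by_cases hl' : l = il
    · subst hl'
      rw [Matrix.mul_single_apply_same, hu k i0 (h0 k), if_neg hk, zero_mul]
    · rw [Matrix.mul_single_apply_of_ne (hbj := hl')]

theorem eq_root_of_central {i0 il : Fin n} (h0 : ∀ i, i0 ≤ i) (hl : ∀ i, i ≤ il)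
    (h : i0 ≠ il) {z : SLG n F} (hz : z ∈ uni n F) (hc : ∀ u ∈ uni n F, Commute z u) :
    z = slRoot (Pi.single i0 1) (Pi.single il 1) (z.1 i0 il) := by
  have key : ∀ k l : Fin n, k < l → ∀ a b : Fin n,
      (if l = b then z.1 a k else 0) = (if k = a then z.1 l b else 0) := by
    intro k l hkl a b
    have h1 := congrArg (fun M : SLG n F => M.1 a b) (hc _ (slRoot_mem_uni hkl 1)).eq
    simp only [Matrix.SpecialLinearGroup.coe_mul, slRoot_single hkl.ne,
      Matrix.SpecialLinearGroup.transvection_coe, mul_add, add_mul, one_mul, mul_one,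
      Matrix.add_apply, add_right_inj] at h1
    by_cases hb : b = l <;> by_cases ha : a = k
    · subst hb; subst ha
      simpa [Matrix.single_mul_apply_same, Matrix.mul_single_apply_same] using h1
    · subst hb
      rw [if_pos rfl, if_neg (Ne.symm ha)]
      simpa [Matrix.mul_single_apply_same, Matrix.single_mul_apply_of_ne (h := ha)] using h1
    · subst ha
      rw [if_neg (Ne.symm hb), if_pos rfl]
      simpa [Matrix.single_mul_apply_same, Matrix.mul_single_apply_of_ne (hbj := hb)] using h1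
    · rw [if_neg (Ne.symm hb), if_neg (Ne.symm ha)]
  apply Subtype.ext
  ext a b
  rw [root_first_last_apply h]
  rcases le_or_gt b a with hba | hab
  · rw [hz a b hba, if_neg (c := i0 = a ∧ il = b), add_zero]
    rintro ⟨rfl, rfl⟩
    exact h (le_antisymm (h0 _) hba)
  · rw [if_neg hab.ne, zero_add]
    by_cases hb : b = il
    · subst hb
      by_cases ha : a = i0
      · subst ha; rw [if_pos ⟨rfl, rfl⟩]
      · rw [if_neg (fun hh => ha hh.1.symm)]
        have hi : i0 < a := lt_of_le_of_ne (h0 a) (Ne.symm ha)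
        have := key i0 a hi i0 b
        rw [if_neg hab.ne, if_pos rfl] at this
        exact this.symm
    · rw [if_neg (fun hh => hb hh.2.symm)]
      have hbl : b < il := lt_of_le_of_ne (hl b) hb
      have := key b il hbl a il
      rw [if_pos rfl, if_neg (Ne.symm hab.ne)] at this
      exact this

theorem center_sylowT {hn : 2 ≤ n} {p : ℕ} [Fact p.Prime] [CharP F p] {i0 il : Fin n}
    (h0 : ∀ i, i0 ≤ i) (hl : ∀ i, i ≤ il) (x : PSLG n F) :
    (x ∈ sylowT (F := F) (le_trans one_le_two hn) p ∧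
        ∀ y ∈ sylowT (F := F) (le_trans one_le_two hn) p, Commute x y) ↔
      ∃ a : F, x = rootEl (Pi.single i0 1) (Pi.single il 1) a := by
  have hne : i0 ≠ il := by
    intro h
    have e1 := h0 ⟨1, by omega⟩
    have e2 := hl ⟨0, by omega⟩
    have e3 := h0 ⟨0, by omega⟩
    have e4 := hl ⟨1, by omega⟩
    subst h
    have := le_antisymm (le_trans e4 e3) (le_trans e2 e1)
    simp [Fin.ext_iff] at this
  have hlt : i0 < il := lt_of_le_of_ne (h0 il) hne
  constructor
  · rintro ⟨⟨u, hu, rfl⟩, hc⟩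
    refine ⟨u.1 i0 il, congrArg (QuotientGroup.mk : SLG n F → PSLG n F) ?_⟩
    refine eq_root_of_central h0 hl hne hu fun v hv => ?_
    have hcc : (QuotientGroup.mk (u * v) : PSLG n F) = QuotientGroup.mk (v * u) :=
      hc _ ⟨v, hv, rfl⟩
    obtain ⟨z, -, hz⟩ := mk_eq_mk_iff_smul.mp hcc
    have h1 := congrFun (congrFun hz i0) i0
    rw [Matrix.smul_apply, (mul_mem hu hv : u * v ∈ uni n F) i0 i0 le_rfl,
      (mul_mem hv hu : v * u ∈ uni n F) i0 i0 le_rfl, if_pos rfl, smul_eq_mul, mul_one] at h1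
    rw [h1, one_smul] at hz
    exact Subtype.ext hz
  · rintro ⟨a, rfl⟩
    refine ⟨⟨_, slRoot_mem_uni hlt a, rfl⟩, ?_⟩
    rintro y ⟨v, hv, rfl⟩
    exact (root_first_last_central h0 hl hne a hv).map (QuotientGroup.mk' _)

end CfsgLib.AutPSL
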